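import Cfsg.Agent.Lib.J2.PermGroup

/-!
The kernel of the action on the lines is the centre `{±1}`; orders of the two groups.
-/

set_option autoImplicit false

namespace CfsgLib.J2

open Quaternion Cfsg.Spor

theorem phiV_unitVec (t : Fin 3) : phiV (unitVec t) = eVec t := by
  funext s
  fin_cases t <;> fin_cases s <;> simp [phiV, unitVec, eVec, phi_zero, phi_two, phi_one]

theorem phiV_neg (v : V) : phiV (V.neg v) = -phiV v := by
  funext s
  fin_cases s <;> simp [phiV, V.neg, phi_neg]

theorem coord_of_diag {g : Equiv.Perm icoLeech} {L : (Fin 3 → ℍ[ℝ]) → Fin 3 → ℍ[ℝ]}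
    (hL : IsLinIso g L) {c : Fin 3 → ℍ[ℝ]} (hc : ∀ t, L (eVec t) = lsmul (c t) (eVec t))
    (x : Fin 3 → ℍ[ℝ]) (s : Fin 3) : L x s = x s * c s := by
  have h := congrFun (hL.map_sum x) s
  simp only [hc, Finset.sum_apply] at h
  rw [Finset.sum_eq_single s (fun b _ hb => by simp [lsmul, eVec, Ne.symm hb])
    (fun hs => absurd (Finset.mem_univ s) hs)] at h
  simp only [lsmul, eVec, if_true] at h
  refine mul_left_cancel₀ two_ne (h.trans ?_)
  rw [← mul_assoc, two_comm]

theorem chainFrom_spec {l : List ℕ} : ∀ {c : List V}, chainFrom l c = true →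
    ∀ {L : (Fin 3 → ℍ[ℝ]) → Fin 3 → ℍ[ℝ]}, IsLinIso (wordE l.reverse : Equiv.Perm icoLeech) L →
      inL (c.getD 0 vZero) = true →
      L (phiV (c.getD 0 vZero)) = phiV (c.getD l.length vZero) := by
  induction l with
  | nil =>
    intro c _ L hL hi
    have := hL.apply_eq ⟨_, mem_of_inL hi⟩
    simpa [wordE] using this.symm
  | cons i is ih =>
    intro c hc L hL hi
    rcases c with _ | ⟨a, _ | ⟨b, rest⟩⟩
    · simp [chainFrom] at hc
    · simp [chainFrom] at hc
    simp only [chainFrom, Bool.and_eq_true, decide_eq_true_eq] at hc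
    obtain ⟨⟨⟨hi4, ha⟩, hb⟩, hrest⟩ := hc
    obtain ⟨M, hM⟩ := exists_linIso (wordE is.reverse).2
    obtain ⟨he, hbL⟩ := reflV_spec (rootOK_rep ⟨_, genIdx_lt hi4⟩) ha
    have heq : wordE (i :: is).reverse = wordE is.reverse * genE i := by simp [wordE]
    have hg : IsLinIso (genE i : Equiv.Perm icoLeech) (qrefl (phiV (rep (genIdx.getD i 0)))) := by
      rw [genE, dif_pos hi4]
      exact isLinIso_refl (isRoot_rep _)
    have hLM := hL
    rw [heq, Subgroup.coe_mul] at hLM
    have e := ((hM.mul hg).apply_eq ⟨_, mem_of_inL ha⟩)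
    rw [hLM.apply_eq] at e
    rw [List.getD_cons_zero, e, Function.comp_apply]
    change M (qrefl (phiV (rep (genIdx.getD i 0))) (phiV a)) = _
    rw [← he, ← V.eq_of_beq hb]
    have hb' : inL b = true := by rw [V.eq_of_beq hb]; exact hbL
    have := ih hrest hM (by rw [List.getD_cons_zero]; exact hb')
    rw [List.getD_cons_zero] at this
    rw [this, List.length_cons, List.getD_cons_succ]

/-- Minus one. -/
noncomputable def negE : twoJ2 := wordE negWord

theorem inL_unitVec : (List.range 3).all (fun t => inL (unitVec t)) = true := by decide +kernel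

theorem negE_eVec {L : (Fin 3 → ℍ[ℝ]) → Fin 3 → ℍ[ℝ]}
    (hL : IsLinIso (negE : Equiv.Perm icoLeech) L) (t : Fin 3) : L (eVec t) = -eVec t := by
  have h := negOK_true
  simp only [negOK, List.all_eq_true, List.mem_range, Bool.and_eq_true] at h
  obtain ⟨⟨h1, h2⟩, h3⟩ := h t t.isLt
  have hL' : IsLinIso (wordE negWord.reverse.reverse : Equiv.Perm icoLeech) L := by
    rw [List.reverse_reverse]; exact hL
  have hi : inL ((negChains.getD t []).getD 0 vZero) = true := by
    rw [V.eq_of_beq h2]
    exact List.all_eq_true.mp inL_unitVec t (List.mem_range.mpr t.isLt)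
  have := chainFrom_spec h1 hL' hi
  rw [List.length_reverse, V.eq_of_beq h2, V.eq_of_beq h3, phiV_neg, phiV_unitVec] at this
  exact this

theorem negE_apply (x : icoLeech) :
    (((negE : Equiv.Perm icoLeech) x : icoLeech) : Fin 3 → ℍ[ℝ]) = -(x : Fin 3 → ℍ[ℝ]) := by
  obtain ⟨L, hL⟩ := exists_linIso negE.2
  rw [hL.apply_eq]
  funext s
  rw [coord_of_diag hL (c := fun _ => -1) (fun t => by
    rw [negE_eVec hL]; funext u; simp [lsmul]) x s]
  simp

theorem negE_ne_one : negE ≠ 1 := by
  intro h
  have := negE_apply (repX 0)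
  rw [h] at this
  have h4 : qip (phiV (rep 0)) (phiV (rep 0)) = 4 := (isRoot_rep 0).norm
  have e : phiV (rep 0) = -phiV (rep 0) := this
  have hz : phiV (rep 0) = 0 := eq_neg_iff_add_eq_zero.mp e |> fun h => by
    funext s
    have h' := congrFun h s
    simp only [Pi.add_apply, Pi.zero_apply, ← two_mul] at h'
    exact (mul_eq_zero.mp h').resolve_left two_ne
  rw [hz] at h4
  simp [qip] at h4
  exact two_ne (mul_self_eq_zero.mp ((by norm_num : (2 : ℍ[ℝ]) * 2 = 4).trans h4.symm))

theorem kernel_cases {g : twoJ2} (hg : lineAct g = 1) : g = 1 ∨ g = negE := by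
  obtain ⟨L, hL⟩ := exists_linIso g.2
  have hline : ∀ k : Fin 315, ∃ u ∈ units,
      L (phiV (rep k)) = lsmul (phi u) (phiV (rep k)) := fun k => by
    obtain ⟨u, hu, e⟩ := lineAct_spec g k
    rw [hg, hL.apply_eq] at e
    exact ⟨u, hu, e⟩
  have hk := kerOK_true
  simp only [kerOK, Bool.and_eq_true, List.any_eq_true] at hk
  obtain ⟨⟨⟨⟨⟨⟨⟨⟨⟨⟨h0, h1⟩, h2⟩, ax⟩, ay⟩, bx⟩, by'⟩, cx⟩, cy⟩, dx⟩, dz⟩ := hk
  have mu : ∀ {q : Q}, (∃ x ∈ units, Q.beq q x = true) → q ∈ units :=
    fun ⟨x, hx, e⟩ => Q.eq_of_beq e ▸ hx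
  -- diagonal form
  have e0 : ∃ u ∈ units, L (eVec 0) = lsmul (phi u) (eVec 0) := by
    obtain ⟨u, hu, e⟩ := hline 0
    refine ⟨u, hu, ?_⟩
    rw [← phiV_unitVec]
    change L (phiV (unitVec 0)) = lsmul (phi u) (phiV (unitVec 0))
    rw [← V.eq_of_beq h0]
    exact e
  have et : ∀ t : Fin 3, t ≠ 0 → ∃ u ∈ units, L (eVec t) = lsmul (phi u) (eVec t) := by
    intro t ht
    have hc : units.getD 3 Q.zero ∈ units := units_getD (by norm_num)
    obtain ⟨ci, c1, c2⟩ := unit_spec hc
    have hr : phiV (rep (t : ℕ)) = lsmul (phi (units.getD 3 Q.zero)) (eVec t) := by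
      rw [← phiV_unitVec, ← phiV_lmul ci (ok_of_inL
        (List.all_eq_true.mp inL_unitVec t (List.mem_range.mpr t.isLt)))]
      fin_cases t
      · exact absurd rfl ht
      · exact congrArg phiV (V.eq_of_beq h1)
      · exact congrArg phiV (V.eq_of_beq h2)
    obtain ⟨u, hu, e⟩ := hline ⟨t, by omega⟩
    change L (phiV (rep (t : ℕ))) = lsmul (phi u) (phiV (rep (t : ℕ))) at e
    rw [hr, hL.map_lsmul, lsmul_lsmul] at e
    refine ⟨Q.mul (Q.conj (units.getD 3 Q.zero)) (Q.mul u (units.getD 3 Q.zero)),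
      units_mul (units_conj hc) (units_mul hu hc), ?_⟩
    rw [phi_mul (inI_conj ci) (inI_mul (unit_spec hu).1 ci), phi_mul (unit_spec hu).1 ci, phi_conj,
      ← lsmul_lsmul, ← e, lsmul_lsmul, c2, one_lsmul]
  have eAll : ∀ t : Fin 3, ∃ u ∈ units, L (eVec t) = lsmul (phi u) (eVec t) := fun t => by
    by_cases ht : t = 0
    · exact ht ▸ e0
    · exact et t ht
  choose c hc hce using eAll
  have coord : ∀ (k : ℕ), k < 315 → ∃ lam : ℍ[ℝ], ∀ s, phiV (rep k) s * phi (c s) = lam * phiV (rep k) s := by
    intro k hk'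
    obtain ⟨u, -, e⟩ := hline ⟨k, hk'⟩
    change L (phiV (rep k)) = lsmul (phi u) (phiV (rep k)) at e
    refine ⟨phi u, fun s => ?_⟩
    rw [← coord_of_diag hL (c := fun t => phi (c t)) hce, e]
    rfl
  have px : ∀ k : ℕ, phiV (rep k) 0 = phi (rep k).x := fun k => by simp [phiV]
  have py : ∀ k : ℕ, phiV (rep k) 1 = phi (rep k).y := fun k => by simp [phiV]
  have pz : ∀ k : ℕ, phiV (rep k) 2 = phi (rep k).z := fun k => by simp [phiV]
  -- one line with unit first and second coordinates
  have key : ∀ k : ℕ, k < 315 → (rep k).x ∈ units → (rep k).y ∈ units →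
      phi (c 1) = star (phi (rep k).y) * phi (rep k).x * phi (c 0) * star (phi (rep k).x) *
        phi (rep k).y := by
    intro k hk' hx hy
    obtain ⟨lam, hl⟩ := coord k hk'
    obtain ⟨-, x1, -⟩ := unit_spec hx
    obtain ⟨-, -, y2⟩ := unit_spec hy
    have ex := hl 0
    have ey := hl 1
    rw [px] at ex; rw [py] at ey
    have el : lam = phi (rep k).x * phi (c 0) * star (phi (rep k).x) := by
      rw [ex, mul_assoc, x1, mul_one]
    calc phi (c 1) = star (phi (rep k).y) * (phi (rep k).y * phi (c 1)) := by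
          rw [← mul_assoc, y2, one_mul]
      _ = _ := by rw [ey, el]; simp only [mul_assoc]
  have comm : ∀ v w : ℕ, v < 315 → w < 315 → (rep v).x ∈ units → (rep v).y ∈ units → (rep w).x ∈ units →
      (rep w).y ∈ units →
      phi (c 0) * phi (kerC (rep v) (rep w)) = phi (kerC (rep v) (rep w)) * phi (c 0) := by
    intro v w hv' hw' vx vy wx wy
    have h := (key v hv' vx vy).symm.trans (key w hw' wx wy)
    obtain ⟨ia, a1, a2⟩ := unit_spec vx
    obtain ⟨ib, b1, b2⟩ := unit_spec vy
    obtain ⟨ic, c1, c2⟩ := unit_spec wx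
    obtain ⟨id', d1, d2⟩ := unit_spec wy
    have hk : phi (kerC (rep v) (rep w)) =
        star (phi (rep w).x) * phi (rep w).y * star (phi (rep v).y) * phi (rep v).x := by
      simp only [kerC]
      rw [phi_mul (inI_mul (inI_mul (inI_conj ic) id') (inI_conj ib)) ia,
        phi_mul (inI_mul (inI_conj ic) id') (inI_conj ib), phi_mul (inI_conj ic) id', phi_conj,
        phi_conj]
    rw [hk]
    have h2 := congrArg (fun z => star (phi (rep w).x) * phi (rep w).y * z *
      star (phi (rep v).y) * phi (rep v).x) h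
    simp only [mul_assoc] at h2 ⊢
    rw [← mul_assoc (phi (rep v).y) (star (phi (rep v).y)), b1, one_mul,
      a2, mul_one, ← mul_assoc (phi (rep w).y) (star (phi (rep w).y)), d1, one_mul,
      ← mul_assoc (star (phi (rep w).x)) (phi (rep w).x), c2, one_mul] at h2
    exact h2.symm
  have hcases : c 0 = Q.one ∨ c 0 = Q.neg Q.one := by
    have hC := centralOK_true
    simp only [centralOK, List.all_eq_true, Bool.or_eq_true, Bool.not_eq_true',
      Bool.and_eq_false_iff] at hC
    rcases hC (c 0) (hc 0) with (h | h) | h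
    · exact Or.inl (Q.eq_of_beq h)
    · exact Or.inr (Q.eq_of_beq h)
    · exfalso
      obtain ⟨ci, -, -⟩ := unit_spec (hc 0)
      have ik : ∀ v w : ℕ, v < 315 → w < 315 → inI (kerC (rep v) (rep w)) = true := fun v w hv hw =>
        inI_mul (inI_mul (inI_mul (inI_conj (V.ok_iff.mp (rep_ok hw)).1) (V.ok_iff.mp (rep_ok hw)).2.1)
          (inI_conj (V.ok_iff.mp (rep_ok hv)).2.1)) (V.ok_iff.mp (rep_ok hv)).1
      rcases h with h | h
      · have e := phi_injective (a₁ := Q.mul (c 0) (kerC (rep 11) (rep 67)))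
          (a₂ := Q.mul (kerC (rep 11) (rep 67)) (c 0)) (by
            rw [phi_mul ci (ik 11 67 (by norm_num) (by norm_num)), phi_mul (ik 11 67 (by norm_num) (by norm_num)) ci]
            exact comm 11 67 (by norm_num) (by norm_num) (mu ax) (mu ay) (mu bx) (mu by'))
        rw [e, Q.beq_self] at h; exact Bool.noConfusion h
      · have e := phi_injective (a₁ := Q.mul (c 0) (kerC (rep 11) (rep 75)))
          (a₂ := Q.mul (kerC (rep 11) (rep 75)) (c 0)) (by
            rw [phi_mul ci (ik 11 75 (by norm_num) (by norm_num)), phi_mul (ik 11 75 (by norm_num) (by norm_num)) ci]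
            exact comm 11 75 (by norm_num) (by norm_num) (mu ax) (mu ay) (mu cx) (mu cy))
        rw [e, Q.beq_self] at h; exact Bool.noConfusion h
  obtain ⟨M, hM⟩ := exists_linIso negE.2
  have allSame : ∀ (e : ℍ[ℝ]), (∀ a : ℍ[ℝ], a * e = e * a) → phi (c 0) = e →
      ∀ t, L (eVec t) = lsmul e (eVec t) := by
    intro e hec h0'
    have h1' : phi (c 1) = e := by
      rw [key 11 (by norm_num) (mu ax) (mu ay), h0', mul_assoc (star _) (phi _) e, hec, ← mul_assoc, hec]
      obtain ⟨-, x1, -⟩ := unit_spec (mu ax)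
      obtain ⟨-, -, y2⟩ := unit_spec (mu ay)
      simp only [mul_assoc]
      rw [← mul_assoc (phi _) (star (phi _)), x1, one_mul, y2, mul_one]
    have h2' : phi (c 2) = e := by
      obtain ⟨lam, hl⟩ := coord 19 (by norm_num)
      have ex := hl 0
      have ez := hl 2
      rw [px, h0', hec] at ex
      rw [pz] at ez
      have hx0 : phi (rep 19).x ≠ 0 := fun h0 => by
        have := (unit_spec (mu dx)).2.1
        change phi (rep 19).x * star (phi (rep 19).x) = 1 at this
        rw [h0, zero_mul] at this; exact zero_ne_one this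
      have hz0 : phi (rep 19).z ≠ 0 := fun h0 => by
        have := (unit_spec (mu dz)).2.1
        rw [h0, zero_mul] at this; exact zero_ne_one this
      rw [← mul_right_cancel₀ hx0 ex, ← hec] at ez
      exact mul_left_cancel₀ hz0 ez
    intro t
    rw [hce t]
    fin_cases t
    · exact congrArg (lsmul · _) h0'
    · exact congrArg (lsmul · _) h1'
    · exact congrArg (lsmul · _) h2'
  rcases hcases with h | h
  · left
    refine Subtype.ext (linIso_ext hL isLinIso_one fun t => ?_)
    rw [allSame 1 (fun a => by rw [mul_one, one_mul]) (by rw [h, phi_one]) t, one_lsmul]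
    rfl
  · right
    refine Subtype.ext (linIso_ext hL hM fun t => ?_)
    rw [allSame (-1) (fun a => by simp) (by rw [h, phi_neg, phi_one]) t, negE_eVec hM]
    funext u; simp [lsmul]

theorem ker_eq_center : lineAct.ker = Subgroup.center twoJ2 := by
  ext g
  rw [MonoidHom.mem_ker, Subgroup.mem_center_iff]
  constructor
  · intro hg h
    have hc : (g : Equiv.Perm icoLeech) ∈ Subgroup.centralizer {f | IsIcoReflection f} := by
      refine Subgroup.mem_centralizer_iff.mpr fun f hf => ?_
      obtain ⟨k, rfl⟩ := isIcoReflection_iff.mp hf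
      have e := conj_refR g k
      rw [hg, Equiv.Perm.one_apply, mul_inv_eq_iff_eq_mul] at e
      exact e.symm
    have hle : twoJ2 ≤ Subgroup.centralizer {(g : Equiv.Perm icoLeech)} := by
      refine (Subgroup.closure_le _).mpr fun f hf => Subgroup.mem_centralizer_singleton_iff.mpr ?_
      exact Subgroup.mem_centralizer_iff.mp hc f hf
    exact Subtype.ext (Subgroup.mem_centralizer_singleton_iff.mp (hle h.2))
  · intro hg
    refine Equiv.ext fun k => refR_injective ?_
    have e := congrArg Subtype.val (hg ⟨refR k, refR_mem k⟩)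
    simp only [Subgroup.coe_mul] at e
    rw [← conj_refR, ← e, mul_inv_cancel_right]
    rfl

theorem negE_mem_center : negE ∈ Subgroup.center twoJ2 := by
  rw [Subgroup.mem_center_iff]
  intro h
  obtain ⟨L, hL⟩ := exists_linIso h.2
  refine Subtype.ext (Equiv.ext fun x => Subtype.ext ?_)
  simp only [Subgroup.coe_mul, Equiv.Perm.mul_apply]
  rw [negE_apply, hL.apply_eq, hL.apply_eq, negE_apply]
  have : ∀ y, L (-y) = -L y := fun y => by
    have := hL.map_lsmul (-1) y
    have e : ∀ z : Fin 3 → ℍ[ℝ], lsmul (-1) z = -z := fun z => by funext s; simp [lsmul]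
    rwa [e, e] at this
  rw [this]

theorem card_center : Nat.card (Subgroup.center twoJ2) = 2 := by
  have : (Subgroup.center twoJ2 : Set twoJ2) = {1, negE} := by
    ext g
    refine ⟨fun h => ?_, ?_⟩
    · rcases kernel_cases (g := g) (by rw [← MonoidHom.mem_ker, ker_eq_center]; exact h) with h | h
      · exact Or.inl h
      · exact Or.inr h
    · rintro (rfl | rfl)
      · exact one_mem _
      · exact negE_mem_center
  change Nat.card ((Subgroup.center twoJ2 : Set twoJ2)) = 2
  rw [this, Nat.card_coe_set_eq, Set.ncard_pair negE_ne_one.symm]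

/-- `J2` is the permutation group on the lines. -/
noncomputable def equivJ : Cfsg.Spor.J2 ≃* J :=
  (QuotientGroup.quotientMulEquivOfEq ker_eq_center.symm).trans
    (QuotientGroup.quotientKerEquivRange lineAct)

theorem equivJ_mk (g : twoJ2) :
    ((equivJ (QuotientGroup.mk g) : J) : Equiv.Perm (Fin 315)) = lineAct g := rfl

theorem card_J2 : Nat.card Cfsg.Spor.J2 = 604800 := by
  rw [Nat.card_congr equivJ.toEquiv, card_J]

theorem card_twoJ2 : Nat.card twoJ2 = 1209600 := by
  rw [Subgroup.card_eq_card_quotient_mul_card_subgroup (Subgroup.center twoJ2), card_center]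
  change Nat.card Cfsg.Spor.J2 * 2 = 1209600
  rw [card_J2]

end CfsgLib.J2
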