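import Cfsg.Agent.Lib.J2.ClassDefs

/-!
Sums of class sizes against divisors of the group order.
-/

set_option autoImplicit false

namespace CfsgLib.J2

/-- the non-trivial certificates -/
def certsTail : List ClassCert :=
  [cert1, cert2, cert3, cert4, cert5, cert6, cert7, cert8, cert9, cert10, cert11, cert12, cert13,
    cert14, cert15, cert16, cert17, cert18, cert19, cert20]

/-- possible sums of class sizes containing the identity, as a bit mask -/
def sumsMask : ℕ := (certsTail.map fun c => 604800 / c.bound).foldl (fun m s => m ||| m <<< s) 2

/-- the only sums dividing the order are `1`, `201600`, `302400` and `604800` -/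
def divisorOK : Bool :=
  (List.range 778).all fun i =>
    if i != 0 && 604800 % i == 0 then
      (!sumsMask.testBit i || i == 1) && (!sumsMask.testBit (604800 / i) || Nat.ble i 3)
    else true

theorem divisorOK_true : divisorOK = true := by decide +kernel

/-- the square of a certified element of order four has the invariants of a reflection -/
def squareOK : Bool :=
  cert2.ord == 4 && cert1.word == [cert1.word.getD 0 0] && histP cert2.perm 2 == cert1.hist1 &&
    histP cert2.perm 6 == cert1.hist3

theorem squareOK_true : squareOK = true := by decide +kernel

end CfsgLib.J2
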