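import Cfsg.Agent.Lib.J2.Classes
import Cfsg.Agent.Lib.J2.Center
import Cfsg.Agent.Lib.J2.SimpleCheck

/-!
`J2` is simple.
-/

set_option autoImplicit false

namespace CfsgLib.J2

/-- the reflection of a line inside the image group -/
noncomputable def lineRefl (k : Fin 315) : J := ⟨lineAct ⟨refR k, refR_mem k⟩, _, rfl⟩

theorem lineRefl_conj (g : Cfsg.Spor.twoJ2) (k : Fin 315) :
    (⟨lineAct g, g, rfl⟩ : J) * lineRefl k * (⟨lineAct g, g, rfl⟩ : J)⁻¹ =
      lineRefl (lineAct g k) := by
  refine Subtype.ext ?_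
  simp only [lineRefl, Subgroup.coe_mul, InvMemClass.coe_inv, ← map_inv, ← map_mul]
  exact congrArg lineAct (Subtype.ext (conj_refR g k))

theorem eq_top_of_lineRefl {N : Subgroup J} (hN : N.Normal) {k : Fin 315}
    (hk : lineRefl k ∈ N) : N = ⊤ := by
  have hall : ∀ m, lineRefl m ∈ N := fun m => by
    obtain ⟨g, e⟩ := lineAct_transitive k m
    rw [← e, ← lineRefl_conj]
    exact hN.conj_mem _ hk _
  rw [eq_top_iff]
  rintro ⟨x, g, rfl⟩ -
  let M : Subgroup Cfsg.Spor.twoJ2 := N.comap lineAct.rangeRestrict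
  have hM : Cfsg.Spor.twoJ2 ≤ M.map Cfsg.Spor.twoJ2.subtype := by
    refine (Subgroup.closure_le _).mpr fun f hf => ?_
    obtain ⟨m, rfl⟩ := isIcoReflection_iff.mp hf
    exact ⟨⟨refR m, refR_mem m⟩, hall m, rfl⟩
  obtain ⟨g', hg', e⟩ := hM g.2
  rw [Subtype.coe_injective e] at hg'
  exact hg'

theorem cert_mem (i : Fin certs.length) : certs[i] ∈ certs := List.getElem_mem i.isLt

theorem certs_get : certs = cert0 :: certsTail := rfl

theorem testBit_sums {l : List ℕ} : ∀ (m : ℕ) (S : Finset (Fin l.length)) (b : ℕ),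
    m.testBit b = true → (l.foldl (fun m s => m ||| m <<< s) m).testBit
      (b + ∑ i ∈ S, l[i]) = true := by
  induction l with
  | nil =>
    intro m S b hb
    have : S = ∅ := Finset.eq_empty_of_forall_notMem fun i => i.elim0
    simpa [this] using hb
  | cons a l ih =>
    intro m S b hb
    classical
    let T : Finset (Fin l.length) := Finset.univ.filter fun i => i.succ ∈ S
    have hsplit : ∑ i ∈ S, (a :: l)[i] = (if (0 : Fin (l.length + 1)) ∈ S then a else 0) + ∑ i ∈ T, l[i] := by
      refine (Fintype.sum_ite_mem S _).symm.trans ((Fin.sum_univ_succ _).trans ?_)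
      simp only [T, Finset.sum_filter]
      rfl
    rw [List.foldl_cons, hsplit, ← add_assoc]
    refine ih _ T _ ?_
    rw [Nat.testBit_or, Bool.or_eq_true]
    split
    · exact Or.inr (by rw [Nat.testBit_shiftLeft]; simp [hb])
    · exact Or.inl (by simpa using hb)

theorem one_class (i : Fin certs.length) (hi : i.1 = 0) : classRep i = 1 ∧ 604800 / certs[i].bound = 1 := by
  have e : certs[i] = cert0 := by
    obtain ⟨iv, hv⟩ := i
    simp only at hi
    subst hi
    rfl
  refine ⟨Subtype.ext ?_, by rw [e]; decide +kernel⟩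
  have h := orderOf_elt (certs_ok _ (cert_mem i))
  rw [e] at h
  change certs[i].elt = 1
  rw [e]
  exact orderOf_eq_one_iff.mp (h.trans (by decide +kernel))

theorem card_normal_testBit (N : Subgroup J) (hN : N.Normal) :
    sumsMask.testBit (Nat.card N) = true := by
  classical
  let A : Finset (Fin certs.length) := Finset.univ.filter fun i => classRep i ∈ N
  have hset : (N : Set J) = ⋃ i : (A : Set (Fin certs.length)), classOf i.1 := by
    ext x
    constructor
    · intro hx
      obtain ⟨i, h, e⟩ := Set.mem_iUnion.mp (classOf_exhaust.1 ▸ Set.mem_univ x)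
      refine Set.mem_iUnion.mpr ⟨⟨i, ?_⟩, h, e⟩
      simp only [A, Finset.coe_filter, Finset.mem_univ, true_and, Set.mem_setOf_eq]
      have e' : h • classRep i = x := e
      have := hN.conj_mem x hx (ConjAct.ofConjAct h)⁻¹
      rw [← e', ConjAct.smul_def] at this
      simpa [mul_assoc] using this
    · intro hx
      obtain ⟨⟨i, hi⟩, h, e⟩ := Set.mem_iUnion.mp hx
      simp only [A, Finset.coe_filter, Finset.mem_univ, true_and, Set.mem_setOf_eq] at hi
      have e' : h • classRep i = x := e
      rw [← e', SetLike.mem_coe, ConjAct.smul_def]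
      exact hN.conj_mem _ hi _
  have hcard : Nat.card N = ∑ i ∈ A, 604800 / certs[i].bound := by
    change Nat.card (N : Set J) = _
    have hdj : Pairwise (Function.onFun Disjoint
        fun i : (A : Set (Fin certs.length)) => classOf i.1) :=
      fun i j hij => classOf_disjoint fun h => hij (Subtype.ext h)
    rw [Nat.card_coe_set_eq, hset, Set.ncard_iUnion_of_finite (fun i => Set.toFinite _) hdj,
      finsum_eq_sum_of_fintype]
    refine Eq.trans (Finset.sum_congr rfl fun i _ => classOf_exhaust.2 i.1) ?_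
    exact Finset.sum_coe_sort A fun i => 604800 / certs[i].bound
  set z : Fin certs.length := ⟨0, by simp [certs]⟩
  obtain ⟨z1, z2⟩ := one_class z rfl
  have hz : z ∈ A := by simp [A, z1, one_mem]
  rw [hcard, ← Finset.add_sum_erase A _ hz, z2, sumsMask]
  have hlen : (certsTail.map fun c => 604800 / c.bound).length + 1 = certs.length := by
    simp [certs, certsTail]
  let B : Finset (Fin (certsTail.map fun c => 604800 / c.bound).length) :=
    Finset.univ.filter fun i => (Fin.cast hlen i.succ) ∈ A.erase z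
  have hB : ∑ i ∈ A.erase z, 604800 / certs[i].bound =
      ∑ i ∈ B, (certsTail.map fun c => 604800 / c.bound)[i] := by
    refine (Finset.sum_bij (fun i _ => Fin.cast hlen i.succ) ?_ ?_ ?_ ?_).symm
    · intro i hi; simpa [B] using hi
    · intro i _ j _ h; simpa [Fin.ext_iff] using h
    · intro j hj
      obtain ⟨jv, hjv⟩ := j
      rcases jv with _ | jv
      · exact absurd rfl (Finset.ne_of_mem_erase hj)
      · exact ⟨⟨jv, by omega⟩, Finset.mem_filter.mpr ⟨Finset.mem_univ _, hj⟩, by simp [Fin.ext_iff]⟩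
    · intro i _
      simp only [Fin.getElem_fin, List.getElem_map]
      rfl
  rw [hB]
  exact testBit_sums 2 B 1 (by decide)

theorem refl_square : ∃ (s : J) (k : Fin 315), s ^ 4 = 1 ∧ s ^ 2 = lineRefl k := by
  have h := squareOK_true
  simp only [squareOK, Bool.and_eq_true, beq_iff_eq] at h
  obtain ⟨⟨⟨h4, hw⟩, h2⟩, h6⟩ := h
  have m1 : cert1 ∈ certs := by simp [certs]
  have m2 : cert2 ∈ certs := by simp [certs]
  let s : J := ⟨cert2.elt, cert2.elt_mem⟩
  obtain ⟨i, hi⟩ := Set.mem_iUnion.mp (classOf_exhaust.1 ▸ Set.mem_univ (s ^ 2))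
  obtain ⟨a1, a3⟩ := classOf_inv i _ hi
  simp only [SubgroupClass.coe_pow, s] at a1 a3
  rw [histE_elt (certs_ok _ m2)] at a1
  rw [← pow_mul, histE_elt (certs_ok _ m2)] at a3
  obtain ⟨-, hnd, -⟩ := certs_equation
  have e1 : certs[i] = cert1 := by
    have hm : (certs[i].hist1, certs[i].hist3) = (cert1.hist1, cert1.hist3) :=
      Prod.ext (a1.symm.trans h2) (a3.symm.trans h6)
    exact List.inj_on_of_nodup_map hnd (cert_mem i) m1 hm
  obtain ⟨h, e⟩ := hi
  have hr : ∃ k, classRep i = lineRefl k := by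
    obtain ⟨c1, -⟩ := ClassCert.parts (certs_ok _ m1)
    have hg : cert1.word.getD 0 0 < 4 := c1 _ (by rw [hw]; simp)
    refine ⟨⟨_, genIdx_lt hg⟩, Subtype.ext ?_⟩
    change certs[i].elt = _
    have hwE : wordE cert1.word = genE (cert1.word.getD 0 0) := by
      conv_lhs => rw [hw]
      simp [wordE]
    rw [e1, ClassCert.elt, hwE, genE, dif_pos hg]
    rfl
  obtain ⟨k, hk⟩ := hr
  obtain ⟨g, hg⟩ := (ConjAct.ofConjAct h).2
  refine ⟨s, lineAct g k, ?_, ?_⟩
  · refine Subtype.ext ?_
    simp only [SubgroupClass.coe_pow, s, OneMemClass.coe_one]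
    rw [← h4, ← orderOf_elt (certs_ok _ m2), pow_orderOf_eq_one]
  · have e' : h • classRep i = s ^ 2 := e
    rw [← e', ConjAct.smul_def, hk, ← lineRefl_conj]
    have : ConjAct.ofConjAct h = (⟨lineAct g, g, rfl⟩ : J) := Subtype.ext hg.symm
    rw [this]

theorem eq_bot_or_eq_top (N : Subgroup J) (hN : N.Normal) : N = ⊥ ∨ N = ⊤ := by
  have hd : Nat.card N ∣ 604800 := card_J ▸ Subgroup.card_subgroup_dvd_card N
  have hb := card_normal_testBit N hN
  obtain ⟨q, hq⟩ := hd
  have hcheck := divisorOK_true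
  simp only [divisorOK, List.all_eq_true, List.mem_range] at hcheck
  set d := Nat.card N with hdd
  have hd0 : 0 < d := Nat.card_pos
  have key : d = 1 ∨ d = 604800 ∨ d = 302400 ∨ d = 201600 := by
    rcases Nat.lt_or_ge d 778 with hlt | hge
    · have h := hcheck d hlt
      rw [if_pos (by simp [hd0.ne', Nat.mod_eq_zero_of_dvd, hq])] at h
      simp [hb] at h
      exact Or.inl h.1
    · have hqd : q ≤ 777 := by nlinarith
      have hq0 : q ≠ 0 := fun h => by simp [h] at hq
      have h := hcheck q (by omega)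
      rw [if_pos (by simp [hq0, hq])] at h
      have hdq : 604800 / q = d := by rw [hq, Nat.mul_div_cancel _ (Nat.pos_of_ne_zero hq0)]
      simp only [Bool.and_eq_true, hdq, hb, Bool.not_true, Bool.false_or, Nat.ble_eq] at h
      obtain ⟨-, hq3⟩ := h
      interval_cases q <;> omega
  rcases key with h | h | h
  · exact Or.inl (Subgroup.eq_bot_of_card_eq _ h)
  · exact Or.inr (Subgroup.eq_top_of_card_eq _ (h.trans card_J.symm))
  · right
    have hidx : N.index = 2 ∨ N.index = 3 := by
      have := N.index_mul_card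
      rw [card_J, ← hdd] at this
      rcases h with h | h <;> rw [h] at this <;> omega
    obtain ⟨s, k, h4, h2⟩ := refl_square
    refine eq_top_of_lineRefl hN (k := k) (h2 ▸ ?_)
    rcases hidx with hi | hi
    · exact hi ▸ Subgroup.pow_index_mem N s
    · have h3 := Subgroup.pow_index_mem N (s ^ 2)
      rw [hi, ← pow_mul, show 2 * 3 = 4 + 2 from rfl, pow_add, h4, one_mul] at h3
      exact h3

theorem simple_J2 : IsSimpleGroup Cfsg.Spor.J2 := by
  haveI : Nontrivial J := Finite.one_lt_card_iff_nontrivial.mp (by rw [card_J]; norm_num)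
  haveI : IsSimpleGroup J := ⟨fun N hN => eq_bot_or_eq_top N hN⟩
  exact MulEquiv.isSimpleGroup equivJ

theorem not_comm : ∃ a b : Cfsg.Spor.J2, a * b ≠ b * a := by
  by_contra hcon
  push Not at hcon
  haveI := simple_J2
  letI : CommGroup Cfsg.Spor.J2 := { (inferInstance : Group Cfsg.Spor.J2) with mul_comm := hcon }
  have hp : (Nat.card Cfsg.Spor.J2).Prime := IsSimpleGroup.prime_card
  rw [card_J2] at hp
  norm_num at hp

end CfsgLib.J2
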