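import Cfsg.Agent.Lib.J2.PermCheck
import Cfsg.Agent.Lib.J2.ColData

/-!
The colour matrix is the colour function.
-/

set_option autoImplicit false

namespace CfsgLib.J2

/-- entry of a list packed in base 8 -/
def dig3 (P i : ℕ) : ℕ := (P >>> (3 * i)) % 8

/-- the small code of a colour -/
def colSmall : ℕ → ℕ
  | 500 => 0
  | 16500 => 1
  | 16516 => 2
  | 32484 => 3
  | 32500 => 4
  | 64500 => 5
  | _ => 6

/-- an entry of the colour matrix -/
def colAt (a x : ℕ) : ℕ := dig3 (colTab.get a) x

/-- the first row -/
def colRow0OK : Bool :=
  (List.range 315).all fun x => colAt 0 x == colSmall (dig20 (colRows.getD 0 0) x)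

theorem colRow0OK_true : colRow0OK = true := by decide +kernel

/-- one edge of the tree transports a row into a row -/
def edgeOK (e : ℕ × ℕ) : Bool :=
  let P := genP.getD e.2 0
  let r := colTab.get e.1
  let r' := colTab.get (dig9 P e.1)
  (List.range 315).all fun b => Nat.beq (dig3 r' b) (dig3 r (dig9 P b))

/-- all edges transport rows into rows -/
def colEdgesOK : Bool := lineTree.all edgeOK

theorem colEdgesOK_true : colEdgesOK = true := by decide +kernel

end CfsgLib.J2
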