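import Cfsg.Agent.Lib.Schur.InvolutionLift
import Cfsg.Agent.Lib.Schur.ExtraThree

/-!
Local criteria for the multiplier of `J2`.
-/

set_option autoImplicit false
set_option linter.unusedSectionVars false
set_option linter.style.haveILetI false

open scoped commutatorElement

namespace CfsgLib.J2.Mult

open CfsgLib.Schur CfsgLib.Schur.InvolLift CfsgLib.Schur.InvTable

variable {Γ G : Type*} [Group Γ] [Group G]

/-- a central commutator inverted by conjugation has order one when `X` has odd prime order -/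
theorem commutator_eq_one_of_odd {σ : Γ →* G} (hc : σ.ker ≤ Subgroup.center Γ) {A C H : Γ} {p : ℕ}
    (hp : Odd p) (hm : ⁅A, C⁆ ∈ σ.ker) (hA : σ (A ^ p) = 1)
    (hHA : σ H * σ A * (σ H)⁻¹ = σ A) (hHC : σ H * σ C * (σ H)⁻¹ = (σ C)⁻¹) : ⁅A, C⁆ = 1 := by
  have kc : ∀ {k : Γ}, k ∈ σ.ker → ∀ x, x * k = k * x := fun hk x => Subgroup.mem_center_iff.mp (hc hk) x
  set m := ⁅A, C⁆ with hmdef
  have hinv : ⁅A, C⁻¹⁆ = m⁻¹ := by
    rw [show ⁅A, C⁻¹⁆ = C⁻¹ * m⁻¹ * C by rw [hmdef]; simp only [commutatorElement_def]; group,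
      mul_assoc, (Commute.inv_left (kc hm C).symm).eq, inv_mul_cancel_left]
  have h2 : m ^ 2 = 1 := by
    have h1 : H * m * H⁻¹ = ⁅A, C⁻¹⁆ := by
      rw [show H * m * H⁻¹ = ⁅H * A * H⁻¹, H * C * H⁻¹⁆ by
        rw [hmdef]; simp only [commutatorElement_def]; group]
      exact commutatorElement_congr σ hc (by rw [map_mul, map_mul, map_inv, hHA])
        (by rw [map_mul, map_mul, map_inv, map_inv, hHC])
    rw [kc hm H, mul_inv_cancel_right, hinv] at h1
    rw [sq]; exact mul_eq_one_iff_eq_inv.mpr h1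
  have hpm : m ^ p = 1 := by
    have e1 : ∀ n : ℕ, ⁅A ^ n, C⁆ = m ^ n := by
      intro n
      induction n with
      | zero => simp
      | succ n ih =>
        rw [pow_succ' A, show ⁅A * A ^ n, C⁆ = (A * ⁅A ^ n, C⁆ * A⁻¹) * ⁅A, C⁆ by
          simp only [commutatorElement_def]; group, ih,
          ((show Commute A m from kc hm A).pow_right n).eq, mul_inv_cancel_right, pow_succ]
    rw [← e1, commutatorElement_eq_one_iff_mul_comm]
    exact (kc (MonoidHom.mem_ker.mpr hA) C).symm
  obtain ⟨k, rfl⟩ := hp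
  rwa [pow_succ, pow_mul, h2, one_pow, one_mul] at hpm

/-- An elementary abelian group of order `p²` with an element inverting one generator and fixing
the other contributes nothing. -/
theorem preimage_commutator_square {σ : Γ →* G} (hσ : Function.Surjective σ)
    (hc : σ.ker ≤ Subgroup.center Γ) {x y h : G} {p : ℕ} (hp : Odd p) (hy : y ^ p = 1)
    (hxy : x * y = y * x) (hhx : h * x * h⁻¹ = x⁻¹) (hhy : h * y * h⁻¹ = y) :
    ⁅(Subgroup.closure {x, y}).comap σ, (Subgroup.closure {x, y}).comap σ⁆ = ⊥ := by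
  obtain ⟨X, hX⟩ := hσ x
  obtain ⟨Y, hY⟩ := hσ y
  obtain ⟨H, hH⟩ := hσ h
  have h1 : ⁅Y, X⁆ = 1 := by
    refine commutator_eq_one_of_odd (H := H) hc hp ?_ (by rw [map_pow, hY, hy]) (by rw [hH, hY, hhy])
      (by rw [hH, hX, hhx])
    rw [MonoidHom.mem_ker, map_commutatorElement, hX, hY, commutatorElement_eq_one_iff_mul_comm, hxy]
  rw [← commutatorElement_inv, inv_eq_one] at h1
  refine le_bot_iff.mp ?_
  rw [← Subgroup.zpowers_one_eq_bot]
  refine preimage_commutator_le hc _ rfl hX hY 1 (by rw [h1]; exact one_mem _) ?_ ?_ ?_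
  · rw [map_one]; exact one_mem _
  · simp
  · simp

/-- The extraspecial group of order twenty-seven with an involution inverting both generators. -/
theorem preimage_commutator_extraThree {σ : Γ →* G} (hσ : Function.Surjective σ)
    (hc : σ.ker ≤ Subgroup.center Γ) {x y t : G} (hx : x ^ 3 = 1) (hy : y ^ 3 = 1)
    (hcx : x * ⁅x, y⁆ = ⁅x, y⁆ * x) (hcy : y * ⁅x, y⁆ = ⁅x, y⁆ * y) (hne : ⁅x, y⁆ ≠ 1)
    (htx : t * x * t⁻¹ = x⁻¹) (hty : t * y * t⁻¹ = y⁻¹) {z : Γ} (hz : z ∈ σ.ker)
    (hzd : z ∈ ⁅(Subgroup.closure {x, y}).comap σ, (Subgroup.closure {x, y}).comap σ⁆) : z = 1 := by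
  obtain ⟨X, hX⟩ := hσ x
  obtain ⟨Y, hY⟩ := hσ y
  obtain ⟨T, hT⟩ := hσ t
  set C := ⁅X, Y⁆ with hC
  have hσC : σ C = ⁅x, y⁆ := by rw [hC, map_commutatorElement, hX, hY]
  set c := ⁅x, y⁆ with hcdef
  have e : x * y = c * (y * x) := by rw [hcdef, commutatorElement_def]; group
  have hc' : c * (y * x) = y * x * c := by
    rw [← mul_assoc c, ← hcy, mul_assoc, ← hcx, ← mul_assoc]
  have hc3 : c ^ 3 = 1 := by
    have e1 : ∀ n : ℕ, x ^ n * y = c ^ n * (y * x ^ n) := by
      intro n
      induction n with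
      | zero => simp
      | succ n ih =>
        have hcn : x * c ^ n = c ^ n * x := ((show Commute x c from hcx).pow_right n).eq
        calc x ^ (n + 1) * y = x * (x ^ n * y) := by rw [pow_succ', mul_assoc]
          _ = x * c ^ n * (y * x ^ n) := by rw [ih, mul_assoc]
          _ = c ^ n * (x * y) * x ^ n := by rw [hcn]; group
          _ = c ^ (n + 1) * (y * x ^ (n + 1)) := by rw [e, pow_succ c, pow_succ' x]; group
    have h3 := e1 3
    rw [hx, one_mul, mul_one] at h3
    exact mul_eq_right.mp h3.symm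
  have hfix : t * c * t⁻¹ = c := by
    calc t * c * t⁻¹ = ⁅t * x * t⁻¹, t * y * t⁻¹⁆ := by
          rw [hcdef]; simp only [commutatorElement_def]; group
      _ = (y * x)⁻¹ * (x * y) := by rw [htx, hty, commutatorElement_def]; group
      _ = c := by rw [e, hc', inv_mul_cancel_left]
  have hcom : ∀ {A : Γ} {a : G}, σ A = a → a * c = c * a → t * a * t⁻¹ = a⁻¹ → ⁅A, C⁆ = 1 := by
    intro A a hA hac hta
    have h1 : ⁅C, A⁆ = 1 := by
      refine commutator_eq_one_of_inverted (H := T) hc ?_ (by rw [map_pow, hσC, hc3])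
        (by rw [hT, hσC, hfix]) (by rw [hT, hA, hta])
      rw [MonoidHom.mem_ker, map_commutatorElement, hσC, hA, commutatorElement_eq_one_iff_mul_comm, hac]
    rw [← commutatorElement_inv, h1, inv_one]
  have hm := hcom hX hcx htx
  have hn := hcom hY hcy hty
  rw [commutatorElement_eq_one_iff_mul_comm] at hm hn
  have h3 : C ^ 3 = 1 := by
    have e1 : ∀ n : ℕ, ⁅X ^ n, Y⁆ = C ^ n := by
      intro n
      induction n with
      | zero => simp
      | succ n ih =>
        rw [pow_succ' X, show ⁅X * X ^ n, Y⁆ = (X * ⁅X ^ n, Y⁆ * X⁻¹) * ⁅X, Y⁆ by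
          simp only [commutatorElement_def]; group, ih,
          ((show Commute X C from hm).pow_right n).eq, mul_inv_cancel_right, pow_succ]
    rw [← e1, commutatorElement_eq_one_iff_mul_comm]
    exact ((Subgroup.mem_center_iff.mp
      (hc (MonoidHom.mem_ker.mpr (show σ (X ^ 3) = 1 by rw [map_pow, hX, hx]))) Y)).symm
  have hmem : σ C ∈ Subgroup.closure {x, y} := by
    rw [hσC, hcdef, commutatorElement_def]
    have hxm := Subgroup.subset_closure (Set.mem_insert x {y})
    have hym := Subgroup.subset_closure (Set.mem_insert_of_mem x (Set.mem_singleton y))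
    exact mul_mem (mul_mem (mul_mem hxm hym) (inv_mem hxm)) (inv_mem hym)
  have hle := preimage_commutator_le hc _ rfl hX hY C (Subgroup.mem_zpowers C) hmem
    ⟨by rw [hm, mul_inv_cancel_right]; exact Subgroup.mem_zpowers C,
      by rw [mul_assoc, ← hm, inv_mul_cancel_left]; exact Subgroup.mem_zpowers C⟩
    ⟨by rw [hn, mul_inv_cancel_right]; exact Subgroup.mem_zpowers C,
      by rw [mul_assoc, ← hn, inv_mul_cancel_left]; exact Subgroup.mem_zpowers C⟩ hzd
  obtain ⟨j, rfl⟩ := Subgroup.mem_zpowers_iff.mp hle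
  rw [MonoidHom.mem_ker, map_zpow, hσC] at hz
  have hd := orderOf_dvd_iff_zpow_eq_one.mpr hz
  rw [orderOf_eq_prime hc3 hne] at hd
  obtain ⟨i, rfl⟩ := hd
  rw [zpow_mul, zpow_natCast, h3, one_zpow]

/-- A commutator of two elements centralising an involution has a lift commuting with a lift of it. -/
theorem commute_lift {E : Type*} [Group E] {τ : E →* G} (hc : τ.ker ≤ Subgroup.center E)
    {A B : E} {p q : G} (hτ : Function.Surjective τ) (hp : τ A * p = p * τ A)
    (hq : τ A * q = q * τ A) (hB : τ B = ⁅p, q⁆) : A * B = B * A := by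
  obtain ⟨P, hP⟩ := hτ p
  obtain ⟨Q, hQ⟩ := hτ q
  have kc : ∀ {k : E}, k ∈ τ.ker → ∀ x, x * k = k * x := fun hk x => Subgroup.mem_center_iff.mp (hc hk) x
  have h1 : ⁅A, P⁆ ∈ τ.ker := by
    rw [MonoidHom.mem_ker, map_commutatorElement, hP, commutatorElement_eq_one_iff_mul_comm, hp]
  have h2 : ⁅A, Q⁆ ∈ τ.ker := by
    rw [MonoidHom.mem_ker, map_commutatorElement, hQ, commutatorElement_eq_one_iff_mul_comm, hq]
  have h3 : A * ⁅P, Q⁆ * A⁻¹ = ⁅P, Q⁆ := by
    rw [show A * ⁅P, Q⁆ * A⁻¹ = ⁅A * P * A⁻¹, A * Q * A⁻¹⁆ by simp only [commutatorElement_def]; group]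
    exact commutatorElement_congr τ hc (by rw [map_mul, map_mul, map_inv, hP, hp, mul_inv_cancel_right])
      (by rw [map_mul, map_mul, map_inv, hQ, hq, mul_inv_cancel_right])
  have hk : ⁅P, Q⁆⁻¹ * B ∈ τ.ker := by
    rw [MonoidHom.mem_ker, map_mul, map_inv, map_commutatorElement, hP, hQ, hB, inv_mul_cancel]
  rw [show B = ⁅P, Q⁆ * (⁅P, Q⁆⁻¹ * B) from (mul_inv_cancel_left _ _).symm]
  have h4 : A * ⁅P, Q⁆ = ⁅P, Q⁆ * A := mul_inv_eq_iff_eq_mul.mp h3
  rw [← mul_assoc A, h4, mul_assoc _ A, kc hk A, ← mul_assoc]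

/-- A certified table of a Sylow 2-subgroup rules out a stem double cover in which the relators
lift. -/
theorem no_double_gen.{u} {G E : Type u} [Group G] [Group E] [Finite E] [Finite G] {τ : E →* G}
    (hτ : Cfsg.IsStemExtension τ) (h2 : Nat.card τ.ker = 2) (T : Tab) (g : ℕ → G)
    (hok : T.ok = true) (hgen : ∀ j, g j * g j = 1 ∧ SqOne τ (g j))
    (hw : ∀ L : ℕ → E, (∀ j, τ (L j) = g j) → (∀ j, L j * L j = 1) →
      ∀ w ∈ T.words, (w.map L).prod = 1)
    (hinj : ∀ i i', i < T.N → i' < T.N → T.phi g i = T.phi g i' → i = i')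
    (hodd : ∀ m, T.N * m = Nat.card G → ¬ 2 ∣ m) : False := by
  have D := double_of_card_two hτ h2
  choose L hL using fun j => D.surj (g j)
  have hsqE : ∀ j, L j * L j = 1 := fun j => (hgen j).2 _ (hL j)
  have hwE := hw L hL hsqE
  have hgG : ∀ j, g j * g j = 1 := fun j => (hgen j).1
  have hwG : ∀ w ∈ T.words, (w.map g).prod = 1 := fun w hwm => by
    have e := congrArg τ (hwE w hwm)
    rw [map_one, map_list_prod, List.map_map] at e
    rw [← e]
    exact congrArg List.prod (List.map_congr_left fun a _ => (hL a).symm)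
  set U : Subgroup G := Subgroup.closure {e | ∃ j, j < T.k ∧ e = g j} with hU
  set W : Subgroup E := Subgroup.closure {e | ∃ j, j < T.k ∧ e = L j} with hW
  have hphi : ∀ t, τ (T.phi L t) = T.phi g t := fun t => by
    rw [map_phi, show (fun j => τ (L j)) = g from funext hL]
  have hN : 0 < T.N := by
    simp only [Tab.ok, Bool.and_eq_true, decide_eq_true_eq] at hok
    exact hok.1.1.1
  have hmap : W.map τ = U := by
    rw [hW, hU, MonoidHom.map_closure]
    congr 1
    ext e
    constructor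
    · rintro ⟨_, ⟨j, hj, rfl⟩, rfl⟩; exact ⟨j, hj, hL j⟩
    · rintro ⟨j, hj, rfl⟩; exact ⟨_, ⟨j, hj, rfl⟩, hL j⟩
  have hmemphi : ∀ t, t < T.N → T.phi g t ∈ U := by
        intro t ht
        induction t using Nat.strong_induction_on with
        | _ t ih =>
          rw [Tab.phi]
          split_ifs with h
          · refine mul_mem (Subgroup.subset_closure ⟨_, ?_, rfl⟩) (ih _ h.2 (h.2.trans ht))
            have hlen : T.tree.length + 1 = T.N ∧ T.treeKnown T.tree 1 0 ≠ none := by
              simp only [Tab.ok, Bool.and_eq_true, decide_eq_true_eq] at hok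
              refine ⟨hok.1.2, fun e => ?_⟩
              rw [e] at hok; simp at hok
            have hall : ∀ (l : List (ℕ × ℕ)) (s K : ℕ), T.treeKnown l s K ≠ none →
                ∀ p ∈ l, p.1 < T.k := by
              intro l
              induction l with
              | nil => simp
              | cons p l ihl =>
                obtain ⟨a, b⟩ := p
                intro s K h' q hq
                rw [Tab.treeKnown] at h'
                split_ifs at h' with hc
                · simp only [Bool.and_eq_true, decide_eq_true_eq] at hc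
                  rcases List.mem_cons.1 hq with rfl | hq
                  · exact hc.1.1.1.1
                  · exact ihl _ _ h' q hq
                · exact absurd rfl h'
            refine hall _ _ _ hlen.2 _ ?_
            rw [List.getD_eq_getElem?_getD, List.getElem?_eq_getElem (by omega)]
            exact List.getElem_mem _
          · exact one_mem U
  have hcardU : Nat.card U = T.N := by
    have hbij : Function.Bijective fun i : Fin T.N => (⟨T.phi g i, hmemphi i i.2⟩ : U) := by
      constructor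
      · intro a b h
        exact Fin.ext (hinj _ _ a.2 b.2 (congrArg Subtype.val h))
      · rintro ⟨x, hx⟩
        obtain ⟨i, hi, rfl⟩ := Tab.exists_eq_phi hok (fun j _ => hgG j) hwG hx
        exact ⟨⟨i, hi⟩, rfl⟩
    rw [← Nat.card_congr (Equiv.ofBijective _ hbij), Nat.card_fin]
  have hindex : ¬ 2 ∣ U.index := hodd _ (by rw [← hcardU, Subgroup.card_mul_index])
  haveI : Fact (Nat.Prime 2) := ⟨Nat.prime_two⟩
  obtain ⟨⟨z, hzk⟩, hz⟩ := exists_prime_orderOf_dvd_card' (p := 2) (G := τ.ker) (by rw [h2])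
  rw [Subgroup.orderOf_mk] at hz
  have hmem := mem_commutator_preimage (a := 1) hτ.1 Nat.prime_two hzk (hτ.2.1 hzk) (hτ.2.2 hzk)
    (by rw [pow_one, ← hz, pow_orderOf_eq_one]) U hindex
  have hle : ⁅U.comap τ, U.comap τ⁆ ≤ W := by
    rw [Subgroup.commutator_le]
    intro x hx y hy
    rw [Subgroup.mem_comap, ← hmap] at hx hy
    obtain ⟨a, ha, hax⟩ := hx
    obtain ⟨b, hb, hby⟩ := hy
    rw [commutatorElement_congr τ hτ.2.1 hax.symm hby.symm, commutatorElement_def]
    exact mul_mem (mul_mem (mul_mem ha hb) (inv_mem ha)) (inv_mem hb)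
  obtain ⟨i, hi, rfl⟩ := Tab.exists_eq_phi hok (fun j _ => hsqE j) hwE (hle hmem)
  have h1 : T.phi g i = T.phi g 0 := by
    rw [← hphi, MonoidHom.mem_ker.mp hzk, Tab.phi_zero]
  rw [hinj i 0 hi hN h1, Tab.phi_zero, orderOf_one] at hz
  exact absurd hz (by norm_num)

end CfsgLib.J2.Mult
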