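import Cfsg.Prelude.Def_KGroupFacts
import Cfsg.Agent.Lib.J2.Simple
import Cfsg.Agent.Lib.J2.MultData
import Cfsg.Agent.Lib.J2.MultLocal
import Cfsg.Agent.Lib.Schur.ThreeCard
import Cfsg.Agent.Lib.Schur.OrderTwo
import Cfsg.Agent.Lib.Golay.Mult.Odd

/-!
The multiplier of `J2` has order two.
-/

set_option autoImplicit false
set_option linter.style.haveILetI false

open scoped commutatorElement

namespace CfsgLib.J2.Mult

open Cfsg.Spor CfsgLib.Schur CfsgLib.Schur.InvolLift CfsgLib.Schur.InvTable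

/-- the element of a word -/
noncomputable def el (w : List ℕ) : J := ⟨lineAct (wordE w), _, rfl⟩

theorem el_append (l r : List ℕ) : el (l ++ r) = el l * el r :=
  Subtype.ext (by simp [el, wordE])

theorem el_nil : el [] = 1 := Subtype.ext (by simp [el, wordE])

theorem el_inv (w : List ℕ) : (el w)⁻¹ = el w.reverse :=
  Subtype.ext (by simp [el, ← wordE_inv])

/-- agreement on the base -/
def sameOn (l r : List ℕ) : Bool :=
  l.all (fun i => decide (i < 4)) && r.all (fun i => decide (i < 4)) &&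
    (List.range 5).all fun i => Nat.beq (wordAp l (basePts.getD i 0)) (wordAp r (basePts.getD i 0))

/-- disagreement on the base -/
def diffOn (l r : List ℕ) : Bool :=
  l.all (fun i => decide (i < 4)) && r.all (fun i => decide (i < 4)) &&
    (List.range 5).any fun i => !(Nat.beq (wordAp l (basePts.getD i 0)) (wordAp r (basePts.getD i 0)))

theorem el_base {w : List ℕ} (hw : ∀ i ∈ w, i < 4) (i : ℕ) :
    (((el w : Equiv.Perm (Fin 315)) (bpt i) : Fin 315) : ℕ) = wordAp w (basePts.getD i 0) :=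
  wordE_apply hw (bpt i)

theorem eq_of_base {a b : J}
    (h : ∀ i < 5, (a : Equiv.Perm (Fin 315)) (bpt i) = (b : Equiv.Perm (Fin 315)) (bpt i)) : a = b := by
  have hm : ((b⁻¹ * a : J) : Equiv.Perm (Fin 315)) ∈ fixJ 5 :=
    mem_fixJ.mpr ⟨(b⁻¹ * a).2, fun i hi => by
      rw [Subgroup.coe_mul, InvMemClass.coe_inv, Equiv.Perm.mul_apply, h i hi, Equiv.Perm.inv_def,
        Equiv.symm_apply_apply]⟩
  rw [fixJ_five, Subgroup.mem_bot, OneMemClass.coe_eq_one] at hm
  exact (inv_mul_eq_one.mp hm).symm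

theorem el_eq {l r : List ℕ} (h : sameOn l r = true) : el l = el r := by
  simp only [sameOn, Bool.and_eq_true, List.all_eq_true, decide_eq_true_eq, List.mem_range] at h
  obtain ⟨⟨hl, hr⟩, he⟩ := h
  exact eq_of_base fun i hi => Fin.ext (by rw [el_base hl, el_base hr, Nat.eq_of_beq_eq_true (he i hi)])

theorem el_ne {l r : List ℕ} (h : diffOn l r = true) : el l ≠ el r := by
  simp only [diffOn, Bool.and_eq_true, List.all_eq_true, decide_eq_true_eq, List.any_eq_true,
    List.mem_range, Bool.not_eq_true'] at h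
  obtain ⟨⟨hl, hr⟩, i, -, hne⟩ := h
  intro e
  have := el_base hl i
  rw [e, el_base hr i] at this
  rw [this] at hne
  simp at hne

theorem mul_eq_mul {a b c d : List ℕ} (h : sameOn (a ++ b) (c ++ d) = true) :
    el a * el b = el c * el d := by rw [← el_append, ← el_append]; exact el_eq h

theorem mul_self_eq_one {a : List ℕ} (h : sameOn (a ++ a) [] = true) : el a * el a = 1 := by
  rw [← el_append, ← el_nil]; exact el_eq h

theorem pow_eq_one_of {a : List ℕ} (n : ℕ) (h : sameOn ((List.replicate n a).flatten) [] = true) :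
    el a ^ n = 1 := by
  have e : el a ^ n = el (List.replicate n a).flatten := by
    clear h
    induction n with
    | zero => simp [el_nil]
    | succ n ih => rw [pow_succ', ih, List.replicate_succ, List.flatten_cons, el_append]
  rw [e, ← el_nil]; exact el_eq h

theorem conj_eq_of {a b c : List ℕ} (h : sameOn (a ++ b ++ a.reverse) c = true) :
    el a * el b * (el a)⁻¹ = el c := by
  rw [el_inv, ← el_append, ← el_append]; exact el_eq h

theorem conj_inv_of {a b : List ℕ} (h : sameOn (a ++ b ++ a.reverse) b.reverse = true) :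
    el a * el b * (el a)⁻¹ = (el b)⁻¹ := by rw [el_inv b]; exact conj_eq_of h

theorem comm_of {a b : List ℕ} (h : sameOn (a ++ b) (b ++ a) = true) : el a * el b = el b * el a :=
  mul_eq_mul h

theorem commutator_el (a b : List ℕ) :
    ⁅el a, el b⁆ = el (a ++ b ++ a.reverse ++ b.reverse) := by
  simp only [el_append, ← el_inv, commutatorElement_def]

/-! ### The cover -/

theorem sq_chain_ok : chainFrom (wA ++ wA).reverse sqChain = true ∧
    V.beq (sqChain.getD 0 vZero) (unitVec 0) = true ∧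
    V.beq (sqChain.getD (wA ++ wA).reverse.length vZero) (V.neg (unitVec 0)) = true ∧
    sameOn (wA ++ wA) [] = true := by decide +kernel

theorem wordE_sq : wordE (wA ++ wA) = negE := by
  obtain ⟨h1, h2, h3, h4⟩ := sq_chain_ok
  have hk : lineAct (wordE (wA ++ wA)) = 1 := congrArg Subtype.val ((el_eq h4).trans el_nil)
  refine (kernel_cases hk).resolve_left fun h => ?_
  have hL : IsLinIso (wordE (wA ++ wA).reverse.reverse : Equiv.Perm icoLeech) id := by
    rw [List.reverse_reverse, h]; exact isLinIso_one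
  have hi : inL (sqChain.getD 0 vZero) = true := by
    rw [V.eq_of_beq h2]; exact List.all_eq_true.mp inL_unitVec 0 (by simp)
  have := chainFrom_spec h1 hL hi
  rw [V.eq_of_beq h2, V.eq_of_beq h3, phiV_neg] at this
  have e := congrFun (phiV_unitVec 0) 0
  have h0 := congrFun this 0
  simp only [id_eq, Pi.neg_apply] at h0
  change phiV (unitVec 0) 0 = _ at e
  rw [e] at h0
  simp only [eVec, if_true] at h0
  have : (2 : Quaternion ℝ) * 2 = 0 := by
    calc (2 : Quaternion ℝ) * 2 = 2 + 2 := mul_two 2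
      _ = 2 + -2 := by rw [← h0]
      _ = 0 := add_neg_cancel 2
  exact two_ne ((mul_eq_zero.mp this).elim id id)

theorem stem : Cfsg.IsStemExtension (QuotientGroup.mk' (Subgroup.center twoJ2)) := by
  refine ⟨QuotientGroup.mk'_surjective _, by rw [QuotientGroup.ker_mk'], ?_⟩
  rw [QuotientGroup.ker_mk']
  haveI := simple_J2
  set q := QuotientGroup.mk' (Subgroup.center twoJ2)
  have htop : (commutator twoJ2).map q = ⊤ := by
    rw [commutator_def, Subgroup.map_commutator,
      Subgroup.map_top_of_surjective q (QuotientGroup.mk'_surjective _), ← commutator_def]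
    refine ((commutator_def J2 ▸ inferInstance : (commutator J2).Normal).eq_bot_or_eq_top).resolve_left
      fun h => ?_
    obtain ⟨a, b, hab⟩ := not_comm
    refine hab ?_
    have hm : ⁅a, b⁆ ∈ commutator J2 :=
      Subgroup.commutator_mem_commutator (Subgroup.mem_top a) (Subgroup.mem_top b)
    rw [h, Subgroup.mem_bot] at hm
    exact commutatorElement_eq_one_iff_mul_comm.mp hm
  obtain ⟨c, hc, e⟩ : q (wordE wA) ∈ (commutator twoJ2).map q := htop ▸ Subgroup.mem_top _
  have hz : c⁻¹ * wordE wA ∈ Subgroup.center twoJ2 :=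
    (QuotientGroup.eq (s := Subgroup.center twoJ2)).mp e
  have hsq : (c⁻¹ * wordE wA) * (c⁻¹ * wordE wA) = 1 := by
    have := pow_card_eq_one' (G := Subgroup.center twoJ2) (x := ⟨_, hz⟩)
    rw [card_center, sq] at this
    exact congrArg Subtype.val this
  have hneg : negE = c * c := by
    have e2 : wordE wA = c * (c⁻¹ * wordE wA) := (mul_inv_cancel_left c _).symm
    rw [← wordE_sq, show wordE (wA ++ wA) = wordE wA * wordE wA by simp [wordE]]
    generalize c⁻¹ * wordE wA = z at hz hsq e2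
    rw [e2, mul_assoc, ← mul_assoc z, ← Subgroup.mem_center_iff.mp hz c, mul_assoc c z, hsq, mul_one]
  intro x hx
  rcases kernel_cases (g := x) (by rw [← MonoidHom.mem_ker, ker_eq_center]; exact hx) with rfl | rfl
  · exact one_mem _
  · rw [hneg]; exact mul_mem hc hc

/-! ### The bound -/

/-- a reflection -/
def wR : List ℕ := [0]

theorem reps_sq : sameOn (wA ++ wA) [] = true ∧ sameOn (wR ++ wR) [] = true := by decide +kernel

theorem seven_ok :
    let u := wA
    let v : List ℕ := [3, 2, 1, 0, 3, 2, 0, 1, 3, 0, 1, 2, 1, 3, 0, 2]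
    let w : List ℕ := [3, 0, 1, 0, 2, 1, 3, 2, 1, 0, 2, 1, 0]
    (sameOn (v ++ v) [] && sameOn (w ++ w) [] &&
    sameOn (v ++ u) (u ++ v) && sameOn (w ++ u) (u ++ w) && sameOn (w ++ v) (v ++ w) &&
    sameOn ([3, 2, 3, 1, 2, 3] ++ (u ++ v ++ w)) (wR ++ [3, 2, 3, 1, 2, 3]) &&
    sameOn ([2, 3, 2, 3, 1, 0, 1, 2] ++ (u ++ v)) (wA ++ [2, 3, 2, 3, 1, 0, 1, 2]) &&
    sameOn ([1, 2, 3, 1, 0, 2, 3, 1] ++ (u ++ w)) (wA ++ [1, 2, 3, 1, 0, 2, 3, 1]) &&
    sameOn ([1, 0, 1, 3, 2, 3, 0, 2] ++ (v ++ w)) (wA ++ [1, 0, 1, 3, 2, 3, 0, 2]) &&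
    sameOn ([2, 1, 0, 1, 3, 2, 3, 2] ++ v) (wA ++ [2, 1, 0, 1, 3, 2, 3, 2]) &&
    sameOn ([1, 0, 3, 2, 0, 1, 0, 2, 3] ++ w) (wA ++ [1, 0, 3, 2, 0, 1, 0, 2, 3])) = true := by
  decide +kernel

section
variable {E : Type} [Group E] {τ : E →* J}

theorem q_of_conj (D : Double τ) {r w g : List ℕ} (hr : el r * el r = 1)
    (h : sameOn (g ++ w) (r ++ g) = true) : el w * el w = 1 ∧ D.q (el w) = D.q (el r) := by
  have he : el g * el w = el r * el g := mul_eq_mul h
  have h2 : el w * el w = 1 := by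
    have hx : el w = (el g)⁻¹ * el r * el g := by rw [mul_assoc, ← he, inv_mul_cancel_left]
    rw [hx, show (el g)⁻¹ * el r * el g * ((el g)⁻¹ * el r * el g) = (el g)⁻¹ * (el r * el r) * el g by
      group, hr, mul_one, inv_mul_cancel]
  exact ⟨h2, (D.q_conj he h2).symm⟩

theorem q_refl (D : Double τ) (hA : SqOne τ (el wA)) : D.q (el wR) = 1 := by
  have h := seven_ok
  simp only [Bool.and_eq_true] at h
  obtain ⟨⟨⟨⟨⟨⟨⟨⟨⟨⟨hv, hw⟩, huv⟩, huw⟩, hvw⟩, k0⟩, k1⟩, k2⟩, k3⟩, k5⟩, k6⟩ := h
  have ha := mul_self_eq_one reps_sq.1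
  have qa : D.q (el wA) = 1 := D.sqOne_iff.mp hA
  have h7 := D.q_seven ha (mul_self_eq_one hv) (mul_self_eq_one hw) (comm_of huv) (comm_of huw)
    (comm_of hvw)
  simp only [← el_append] at h7
  rw [(q_of_conj D (mul_self_eq_one reps_sq.2) k0).2, (q_of_conj D ha k1).2, (q_of_conj D ha k2).2,
    (q_of_conj D ha k3).2, (q_of_conj D ha k5).2, (q_of_conj D ha k6).2, qa] at h7
  simpa using h7

end

theorem gens_ok :
    (sameOn ([2, 1, 0, 3, 1, 2, 3] ++ sylGens.getD 0 []) (wR ++ [2, 1, 0, 3, 1, 2, 3]) &&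
    sameOn ([0, 3, 2, 3, 2, 1, 0, 2] ++ sylGens.getD 1 []) (wA ++ [0, 3, 2, 3, 2, 1, 0, 2]) &&
    sameOn ([0, 2, 1, 0, 2, 0] ++ sylGens.getD 2 []) (wA ++ [0, 2, 1, 0, 2, 0]) &&
    sameOn ([0, 1, 2, 0, 3, 2, 1, 0, 2] ++
      (sylGens.getD 0 [] ++ sylGens.getD 1 [] ++ sylGens.getD 0 [] ++ sylGens.getD 2 []))
      (wA ++ [0, 1, 2, 0, 3, 2, 1, 0, 2])) = true := by decide +kernel

/-- centralising words with commutator the other element -/
def cmData : List (List ℕ × List ℕ × List ℕ) := [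
  ([1, 2, 1, 0, 2], [1, 3, 0, 2, 3, 2, 1, 3, 1, 0, 2, 0, 3], [0, 2, 3, 2, 3, 1, 0, 3, 0, 2, 0]),
  ([1, 0, 2, 1, 2], [1, 3, 2, 0, 1, 2, 3, 2, 0, 1, 3, 2, 0], [3, 2, 3, 1, 2, 0, 3, 1, 2, 1, 3])]

theorem cm_ok : cmData.all (fun d =>
    sameOn (sylGens.getD 0 [] ++ d.2.1) (d.2.1 ++ sylGens.getD 0 []) &&
    sameOn (sylGens.getD 0 [] ++ d.2.2) (d.2.2 ++ sylGens.getD 0 []) &&
    sameOn (d.1.map fun j => sylGens.getD j []).flatten
      (d.2.1 ++ d.2.2 ++ d.2.1.reverse ++ d.2.2.reverse)) = true := by decide +kernel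

theorem words_eq : sylTab.words = [[0, 1, 0, 2, 0, 1, 0, 2]] ++
    cmData.map fun d => [0] ++ d.1 ++ [0] ++ d.1.reverse := by decide +kernel

/-- key of the images of the base -/
def keyP : List ℕ → ℕ
  | [] => 0
  | x :: l => x + 512 * keyP l

/-- no repetition -/
def distinctN : List ℕ → Bool
  | [] => true
  | x :: l => l.all (fun y => !(Nat.beq x y)) && distinctN l

theorem nodup_of_distinctN : ∀ {l : List ℕ}, distinctN l = true → l.Nodup := by
  intro l
  induction l with
  | nil => simp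
  | cons x l ih =>
    intro h
    simp only [distinctN, Bool.and_eq_true, List.all_eq_true, Bool.not_eq_true'] at h
    refine List.nodup_cons.mpr ⟨fun hm => ?_, ih h.2⟩
    simpa using h.1 x hm

/-- the checks on the images -/
def ptsOK : Bool :=
  decide (sylTab.tree.length + 1 = sylTab.N) && decide (sylPts.length = sylTab.N) &&
  sylGens.all (fun w => w.all fun i => decide (i < 4)) &&
  (List.range 5).all (fun i => (sylPts.getD 0 []).getD i 0 == basePts.getD i 0) &&
  ((List.range sylTab.tree.length).all fun t =>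
    let p := sylTab.tree.getD t (0, 0)
    decide (p.2 < t + 1) && decide (p.1 < 3) && (List.range 5).all fun i =>
      Nat.beq (wordAp (sylGens.getD p.1 []) ((sylPts.getD p.2 []).getD i 0))
        ((sylPts.getD (t + 1) []).getD i 0)) &&
  sylPts.all (fun l => decide (l.length = 5)) &&
  distinctN (sylPts.map keyP)

theorem ptsOK_true : ptsOK = true := by decide +kernel

theorem sylTab_ok : sylTab.ok = true := by decide +kernel

/-- generators of the Sylow subgroup (the last one out of range) -/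
noncomputable def gS (j : ℕ) : J := el (sylGens.getD (min j 2) [])

theorem gens_lt : ∀ j, ∀ i ∈ sylGens.getD (min j 2) [], i < 4 := by
  have h := ptsOK_true
  simp only [ptsOK, Bool.and_eq_true, List.all_eq_true, decide_eq_true_eq] at h
  intro j i hi
  have hl : min j 2 < sylGens.length := by simp [sylGens]
  rw [List.getD_eq_getElem _ _ hl] at hi
  exact h.1.1.1.1.2 _ (List.getElem_mem hl) i hi

theorem phi_base (t : ℕ) (ht : t < sylTab.N) (i : ℕ) (hi : i < 5) :
    (((sylTab.phi gS t : J) : Equiv.Perm (Fin 315)) (bpt i) : ℕ) = (sylPts.getD t []).getD i 0 := by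
  have h := ptsOK_true
  simp only [ptsOK, Bool.and_eq_true, List.all_eq_true, decide_eq_true_eq, List.mem_range,
    beq_iff_eq] at h
  obtain ⟨⟨⟨⟨⟨⟨hN, -⟩, -⟩, h0⟩, htree⟩, -⟩, -⟩ := h
  induction t using Nat.strong_induction_on with
  | _ t ih =>
    rcases t with _ | t
    · rw [Tab.phi_zero, h0 i hi]; rfl
    · obtain ⟨⟨hlt, hj⟩, he⟩ := htree t (by omega)
      rw [Tab.phi, if_pos ⟨Nat.succ_pos t, by simpa using hlt⟩]
      simp only [Nat.add_sub_cancel]
      rw [Subgroup.coe_mul, Equiv.Perm.mul_apply]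
      have hw := wordE_apply (gens_lt (sylTab.tree.getD t (0, 0)).1)
        (((sylTab.phi gS (sylTab.tree.getD t (0, 0)).2 : J) : Equiv.Perm (Fin 315)) (bpt i))
      refine hw.trans ?_
      rw [ih _ hlt (by omega), min_eq_left (by omega)]
      exact Nat.eq_of_beq_eq_true (he i hi)

theorem phi_inj : ∀ a b, a < sylTab.N → b < sylTab.N → sylTab.phi gS a = sylTab.phi gS b → a = b := by
  intro a b ha hb e
  have h := ptsOK_true
  simp only [ptsOK, Bool.and_eq_true, List.all_eq_true, decide_eq_true_eq] at h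
  obtain ⟨⟨⟨⟨⟨⟨-, hlen⟩, -⟩, -⟩, -⟩, h5⟩, hd⟩ := h
  have ha' : a < sylPts.length := by omega
  have hb' : b < sylPts.length := by omega
  have hl : sylPts[a] = sylPts[b] := by
    refine List.ext_getElem (by rw [h5 _ (List.getElem_mem ha'), h5 _ (List.getElem_mem hb')]) ?_
    intro i h1 h2
    have h15 : i < 5 := by rw [h5 _ (List.getElem_mem ha')] at h1; exact h1
    have ea := phi_base a ha i h15
    rw [e, phi_base b hb i h15, List.getD_eq_getElem _ _ ha', List.getD_eq_getElem _ _ hb',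
      List.getD_eq_getElem _ _ h1, List.getD_eq_getElem _ _ h2] at ea
    exact ea.symm
  exact (List.Nodup.getElem_inj_iff (nodup_of_distinctN hd) (hi := by simpa using ha')
    (hj := by simpa using hb')).mp (by simp [hl])

theorem no_double (E : Type) [Group E] [Finite E] (τ : E →* J) (hτ : Cfsg.IsStemExtension τ)
    (h2 : Nat.card τ.ker = 2) (hA : SqOne τ (el wA)) : False := by
  have D := double_of_card_two hτ h2
  have qa : D.q (el wA) = 1 := D.sqOne_iff.mp hA
  have qr := q_refl D hA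
  have hok := gens_ok
  simp only [Bool.and_eq_true] at hok
  obtain ⟨⟨⟨k0, k1⟩, k2⟩, k3⟩ := hok
  have ha := mul_self_eq_one reps_sq.1
  have hgen : ∀ j, gS j * gS j = 1 ∧ SqOne τ (gS j) := by
    intro j
    obtain h | h | h : min j 2 = 0 ∨ min j 2 = 1 ∨ min j 2 = 2 := by omega
    all_goals unfold gS; rw [h]
    · obtain ⟨a, b⟩ := q_of_conj D (mul_self_eq_one reps_sq.2) k0
      exact ⟨a, D.sqOne_iff.mpr (b.trans qr)⟩
    · obtain ⟨a, b⟩ := q_of_conj D ha k1
      exact ⟨a, D.sqOne_iff.mpr (b.trans qa)⟩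
    · obtain ⟨a, b⟩ := q_of_conj D ha k2
      exact ⟨a, D.sqOne_iff.mpr (b.trans qa)⟩
  refine no_double_gen hτ h2 sylTab gS sylTab_ok hgen (fun L hL hsq => ?_) phi_inj ?_
  · have hmap : ∀ d : List ℕ, (∀ j ∈ d, j < 3) →
        τ (d.map L).prod = el (d.map fun j => sylGens.getD j []).flatten := by
      intro d
      induction d with
      | nil => intro _; simp [el_nil]
      | cons j d ih =>
        intro hd
        simp only [List.mem_cons, forall_eq_or_imp] at hd
        rw [List.map_cons, List.prod_cons, map_mul, ih hd.2, hL, List.map_cons, List.flatten_cons,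
          el_append, gS, min_eq_left (by omega)]
    have hrev : ∀ d : List ℕ, (d.map L).prod * (d.reverse.map L).prod = 1 := by
      intro d
      induction d with
      | nil => simp
      | cons j d ih =>
        rw [List.reverse_cons, List.map_cons, List.prod_cons, List.map_append, List.prod_append,
          mul_assoc, ← mul_assoc (d.map L).prod, ih, one_mul]
        simpa using hsq j
    intro w hw
    rw [words_eq, List.mem_append, List.mem_singleton, List.mem_map] at hw
    rcases hw with rfl | ⟨d, hd, rfl⟩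
    · rw [show [0, 1, 0, 2, 0, 1, 0, 2] = [0, 1, 0, 2] ++ [0, 1, 0, 2] from rfl, List.map_append,
        List.prod_append]
      refine D.sqOne_iff.mpr ((q_of_conj D ha k3).2.trans qa) _ ?_
      rw [hmap _ (by simp)]
      simp [List.flatten]
    · have hcm := List.all_eq_true.mp cm_ok d hd
      simp only [Bool.and_eq_true] at hcm
      obtain ⟨⟨hp, hq⟩, he⟩ := hcm
      have hlt : ∀ j ∈ d.1, j < 3 := by
        simp only [cmData, List.mem_cons, List.not_mem_nil, or_false] at hd
        rcases hd with rfl | rfl <;> simp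
      have hc : L 0 * (d.1.map L).prod = (d.1.map L).prod * L 0 := by
        refine commute_lift hτ.2.1 (p := el d.2.1) (q := el d.2.2) hτ.1 ?_ ?_ ?_
        · rw [hL]; exact comm_of hp
        · rw [hL]; exact comm_of hq
        · rw [hmap _ hlt, commutator_el]; exact el_eq he
      simp only [List.map_append, List.prod_append, List.map_cons, List.map_nil, List.prod_cons,
        List.prod_nil, mul_one]
      rw [hc, mul_assoc (d.1.map L).prod, hsq 0, mul_one, hrev]
  · intro m hm
    rw [card_J] at hm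
    change 128 * m = 604800 at hm
    omega

theorem four_ok :
    let v : List ℕ := [3, 2, 3, 1, 0, 3, 2, 1, 0, 1, 0, 3, 2, 0]
    (sameOn (v ++ wA) (wA ++ v) && sameOn ([0, 3, 2] ++ v) (wA ++ [0, 3, 2]) &&
    sameOn ([2, 0, 3, 0] ++ (wA ++ v)) (wA ++ [2, 0, 3, 0])) = true := by decide +kernel

/-- five-elements and an involution -/
def five : List (List ℕ) := [[1, 2, 0, 1, 3, 0, 2, 1, 3, 0, 1, 2, 1, 3, 0, 2],
  [2, 1, 0, 3, 2, 3, 0, 2, 0, 1, 0, 2, 1], [2, 3, 2, 1, 0, 2, 3, 0, 1, 0, 3, 0, 2, 3, 0, 1]]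

theorem five_ok :
    let x := five.getD 0 []
    let y := five.getD 1 []
    let h := five.getD 2 []
    (sameOn (List.replicate 5 x).flatten [] && sameOn (List.replicate 5 y).flatten [] &&
    sameOn (x ++ y) (y ++ x) && sameOn (h ++ x ++ h.reverse) x.reverse &&
    sameOn (h ++ y ++ h.reverse) y && diffOn x [] && diffOn y []) = true := by decide +kernel

/-- three-elements and an involution -/
def three : List (List ℕ) := [[3, 2, 1, 0, 1, 3, 1, 0, 2, 3],
  [3, 1, 0, 2, 0, 3, 2, 3, 2, 0, 1, 3], [3, 1, 2, 1, 3]]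

theorem three_ok :
    let x := three.getD 0 []
    let y := three.getD 1 []
    let h := three.getD 2 []
    let c := x ++ y ++ x.reverse ++ y.reverse
    (sameOn (List.replicate 3 x).flatten [] && sameOn (List.replicate 3 y).flatten [] &&
    sameOn (List.replicate 3 c).flatten [] &&
    sameOn (x ++ c) (c ++ x) && sameOn (y ++ c) (c ++ y) && diffOn c [] &&
    sameOn (h ++ x ++ h.reverse) x.reverse && sameOn (h ++ y ++ h.reverse) y.reverse) = true := by
  decide +kernel

theorem odd_local (ℓ : ℕ) (hℓ : ℓ.Prime) (h2 : ℓ ≠ 2) : ∃ U : Subgroup J, ¬ ℓ ∣ U.index ∧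
    ∀ (Γ : Type) [Group Γ] [Finite Γ] (σ : Γ →* J), Function.Surjective σ →
      σ.ker ≤ Subgroup.center Γ → ∀ z ∈ σ.ker, z ∈ ⁅U.comap σ, U.comap σ⁆ → z ^ ℓ = 1 → z = 1 := by
  haveI := Fact.mk hℓ
  by_cases h3 : ℓ = 3
  · subst h3
    have h := three_ok
    simp only [Bool.and_eq_true] at h
    obtain ⟨⟨⟨⟨⟨⟨⟨hx, hy⟩, hc3⟩, hcx⟩, hcy⟩, hne⟩, htx⟩, hty⟩ := h
    set x := el (three.getD 0 [])
    set y := el (three.getD 1 [])
    have hne' : ⁅x, y⁆ ≠ 1 := by rw [commutator_el, ← el_nil]; exact el_ne hne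
    have hcx' : x * ⁅x, y⁆ = ⁅x, y⁆ * x := by rw [commutator_el]; exact comm_of hcx
    have hcy' : y * ⁅x, y⁆ = ⁅x, y⁆ * y := by rw [commutator_el]; exact comm_of hcy
    refine ⟨Subgroup.closure {x, y}, fun hi => ?_, fun Γ _ _ σ hσ hc z hz hzd _ =>
      preimage_commutator_extraThree hσ hc (pow_eq_one_of 3 hx) (pow_eq_one_of 3 hy) hcx' hcy' hne'
        (conj_inv_of htx) (conj_inv_of hty) hz hzd⟩
    have hc3' : ⁅x, y⁆ ^ 3 = 1 := by rw [commutator_el]; exact pow_eq_one_of 3 hc3
    have := mul_dvd_mul (CfsgLib.Schur.three_pow_three_dvd_closure (pow_eq_one_of 3 hx)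
      (pow_eq_one_of 3 hy) hcx' hcy' hc3' hne') hi
    rw [Subgroup.card_mul_index, card_J] at this
    norm_num at this
  by_cases h5 : ℓ = 5
  · subst h5
    have h := five_ok
    simp only [Bool.and_eq_true] at h
    obtain ⟨⟨⟨⟨⟨⟨hx, hy⟩, hxy⟩, hhx⟩, hhy⟩, hxne⟩, hyne⟩ := h
    set x := el (five.getD 0 [])
    set y := el (five.getD 1 [])
    have hx5 : x ^ 5 = 1 := pow_eq_one_of 5 hx
    have hy5 : y ^ 5 = 1 := pow_eq_one_of 5 hy
    have hy1 : y ≠ 1 := by rw [← el_nil]; exact el_ne hyne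
    refine ⟨Subgroup.closure {x, y}, fun hi => ?_, fun Γ _ _ σ hσ hc z hz hzd _ => ?_⟩
    · have hox : orderOf x = 5 ^ 1 := by
        rw [pow_one]
        exact orderOf_eq_prime hx5 (by rw [← el_nil]; exact el_ne hxne)
      have hnot : y ∉ Subgroup.zpowers x := by
        intro hm
        obtain ⟨i, hi'⟩ := Subgroup.mem_zpowers_iff.mp hm
        have e : el (five.getD 2 []) * y * (el (five.getD 2 []))⁻¹ = y⁻¹ := by
          rw [← hi', ← conj_zpow, conj_inv_of hhx, inv_zpow]
        rw [conj_eq_of hhy] at e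
        have h2' : y ^ 2 = 1 := by rw [sq]; exact mul_eq_one_iff_eq_inv.mpr e
        exact hy1 (by
          have := hy5
          rwa [show 5 = 2 * 2 + 1 from rfl, pow_succ, pow_mul, h2', one_pow, one_mul] at this)
      have hn : y * x * y⁻¹ ∈ Subgroup.zpowers x := by
        rw [← comm_of hxy, mul_inv_cancel_right]; exact Subgroup.mem_zpowers x
      have := mul_dvd_mul (CfsgLib.Schur.pow_succ_dvd_card_closure_pair hox hy5 hn hnot) hi
      rw [Subgroup.card_mul_index, card_J] at this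
      norm_num at this
    · rw [preimage_commutator_square hσ hc (p := 5) (by decide) hy5 (comm_of hxy) (conj_inv_of hhx)
        (conj_eq_of hhy), Subgroup.mem_bot] at hzd
      exact hzd
  refine CfsgLib.Golay.Mult.local_of_sq_not_dvd hℓ fun hd => ?_
  rw [card_J] at hd
  have h1 : ℓ ∣ 2 ^ 7 * 3 ^ 3 * 5 ^ 2 * 7 := (dvd_pow_self ℓ two_ne_zero).trans (by simpa using hd)
  simp only [Nat.Prime.dvd_mul hℓ] at h1
  rcases h1 with ((h | h) | h) | h
  · exact h2 ((Nat.prime_dvd_prime_iff_eq hℓ Nat.prime_two).1 (hℓ.dvd_of_dvd_pow h))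
  · exact h3 ((Nat.prime_dvd_prime_iff_eq hℓ Nat.prime_three).1 (hℓ.dvd_of_dvd_pow h))
  · exact h5 ((Nat.prime_dvd_prime_iff_eq hℓ (by norm_num)).1 (hℓ.dvd_of_dvd_pow h))
  · have := (Nat.prime_dvd_prime_iff_eq hℓ (by norm_num)).1 h
    subst this
    norm_num at hd

theorem bound_J {Γ : Type} [Group Γ] [Finite Γ] {σ : Γ →* J} (hσ : Cfsg.IsStemExtension σ) :
    Nat.card σ.ker ∣ 2 := by
  have h := four_ok
  simp only [Bool.and_eq_true] at h
  obtain ⟨⟨h0, h2⟩, h3⟩ := h
  refine CfsgLib.Schur.InvolLift.card_ker_le_two odd_local (a := el wA) (u := el wA)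
    (v := el [3, 2, 3, 1, 0, 3, 2, 1, 0, 1, 0, 3, 2, 0]) (g₁ := el []) (g₂ := el [0, 3, 2])
    (g₃ := el [2, 0, 3, 0]) (mul_self_eq_one reps_sq.1) (comm_of h0)
    (by rw [el_nil, one_mul, mul_one]) (mul_eq_mul h2) ?_ (fun E _ _ τ hτ hk hA => no_double E τ hτ hk hA) hσ
  rw [← el_append, ← el_append, ← el_append]
  exact el_eq h3

theorem multiplier : Cfsg.HasCyclicSchurMultiplier Cfsg.Spor.J2 2 := by
  haveI : Fact (Nat.Prime 2) := ⟨Nat.prime_two⟩
  haveI : Finite twoJ2 := Nat.finite_of_card_ne_zero (by rw [card_twoJ2]; norm_num)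
  refine ⟨⟨twoJ2, inferInstance, inferInstance, QuotientGroup.mk' (Subgroup.center twoJ2), stem, ?_⟩,
    fun Δ _ _ τ hτ => ?_⟩
  · have hk : Nat.card (QuotientGroup.mk' (Subgroup.center twoJ2)).ker = 2 := by
      rw [QuotientGroup.ker_mk', card_center]
    haveI : IsCyclic (QuotientGroup.mk' (Subgroup.center twoJ2)).ker := isCyclic_of_prime_card hk
    exact ⟨mulEquivOfCyclicCardEq (by rw [hk, Nat.card_congr Multiplicative.toAdd, Nat.card_zmod])⟩
  · have hk : (equivJ.toMonoidHom.comp τ).ker = τ.ker := MonoidHom.ker_mulEquiv_comp τ equivJ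
    have h := bound_J (σ := equivJ.toMonoidHom.comp τ)
      ⟨equivJ.surjective.comp hτ.1, hk ▸ hτ.2.1, hk ▸ hτ.2.2⟩
    rw [hk] at h
    obtain ⟨g, hg⟩ : ∃ g : τ.ker, ∀ k : τ.ker, k ∈ Subgroup.zpowers g := by
      haveI : IsCyclic τ.ker := by
        rcases (Nat.dvd_prime Nat.prime_two).1 h with e | e
        · have : Subsingleton τ.ker := (Nat.card_eq_one_iff_unique.1 e).1
          exact isCyclic_of_subsingleton
        · exact isCyclic_of_prime_card e
      exact IsCyclic.exists_generator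
    exact CfsgLib.StemExt.exists_surjective_of_zmod g hg
      (orderOf_dvd_iff_pow_eq_one.1 ((orderOf_dvd_natCard g).trans h))

end CfsgLib.J2.Mult
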