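import Cfsg.Agent.Lib.J2.UThreeData
import Cfsg.Agent.Lib.J2.ColCheck
import Cfsg.Agent.Lib.J2.Mult
import Cfsg.Agent.Lib.Classical.UThreeThree.Table

/-!
The checks for a subgroup of index 100 of `J2`.
-/

set_option autoImplicit false

namespace CfsgLib.J2.UThree

open CfsgLib.J2.Mult CfsgLib.UThreeThree

/-- the two words -/
def gW : ℕ → List ℕ
  | 0 => wX
  | _ => wY

/-- a word in the two generators as a word in the reflections -/
def expW (d : List ℕ) : List ℕ := (d.map gW).flatten

/-- membership in one of the sets -/
def inSet (k x : ℕ) : Bool := (setMasks.getD k 0).testBit x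

/-- the members are the elements of the sets -/
def memOK : Bool :=
  (List.range 100).all fun k =>
    (List.range 315).filter (inSet k) == setMem.getD k []

/-- the four generators permute the sets -/
def tgtOK : Bool :=
  (List.range 100).all fun k =>
    decide ((setMem.getD k []).length = 63) &&
    ((List.range 4).all fun g =>
      let t := (setTgt.getD k []).getD g 0
      decide (t < 100) && (setMem.getD k []).all fun x => inSet t (genAp g x)) &&
    (List.range 2).all fun g =>
      let t := (setTgtTwo.getD k []).getD g 0
      decide (t < 100) && (setMem.getD k []).all fun x => inSet t (wordAp (gW g) x)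

/-- the tree reaches all sets, and they are different -/
def setsOK : Bool :=
  ((List.range 99).all fun t =>
    let p := setTree.getD t (0, 0)
    decide (p.2 < t + 1) && decide (p.1 < 4) && (setTgt.getD p.2 []).getD p.1 0 == t + 1) &&
  distinctN setMasks && decide (setMasks.length = 100) &&
  wX.all (fun i => decide (i < 4)) && wY.all (fun i => decide (i < 4)) &&
  (setTgtTwo.getD 0 []).getD 0 0 == 0 && (setTgtTwo.getD 0 []).getD 1 0 == 0

/-- a closed set of sets with a tree -/
def orbitOK (o : List ℕ) (r n : ℕ) (tr : List (ℕ × ℕ × ℕ)) : Bool :=
  decide (o.length = n) && distinctN o && o.contains r && o.all (fun k => decide (k < 100)) &&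
  o.all (fun k => (List.range 2).all fun g => o.contains ((setTgtTwo.getD k []).getD g 0)) &&
  reachTree (fun g k => (setTgtTwo.getD k []).getD g 0) (fun g => decide (g < 2))
    (tr.map fun e => (e.2.1, e.1)) (2 ^ r) == some (o.foldl (fun m k => m ||| 2 ^ k) 0)

/-- the lines of the points, and their colours determine all lines -/
def betaOK : Bool :=
  decide (betaL.length = 63) && distinctN betaL && betaL.all (fun x => decide (x < 315)) &&
  betaL.all (fun x => inSet 0 x) &&
  distinctN ((List.range 315).map fun x => betaL.foldl (fun m l => 8 * m + colAt l x) 0)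

/-- the permutations of the points -/
def piOK : Bool :=
  (List.range 2).all fun g => (List.range 63).all fun i =>
    let j := (piL.getD g []).getD i 0
    decide (j < 63) && wordAp (gW g) (betaL.getD i 0) == betaL.getD j 0

/-- transitivity on the points -/
def transOK : Bool :=
  reachTree (fun g i => (piL.getD g []).getD i 0) (fun g => decide (g < 2))
    (ptTree.map fun e => (e.2.1, e.1)) (2 ^ 0) == some (2 ^ 63 - 1)

/-- the base images of the elements fixing the first point -/
def stabImg (d : List ℕ) : List ℕ := (List.range 5).map fun i => wordAp (expW d) (basePts.getD i 0)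

/-- many elements fix the first point -/
def stabOK : Bool :=
  decide (stabW.length = 96) && stabW.all (fun d => d.all fun j => decide (j < 2)) &&
  stabW.all (fun d => wordAp (expW d) (betaL.getD 0 0) == betaL.getD 0 0) &&
  distinctN ((stabW.map stabImg).map keyP)

theorem memOK_true : memOK = true := by decide +kernel

theorem tgtOK_true : tgtOK = true := by decide +kernel

theorem setsOK_true : setsOK = true := by decide +kernel

theorem orbA_ok : orbitOK orbA 1 63 orbATree = true := by decide +kernel

theorem orbB_ok : orbitOK orbB 3 36 orbBTree = true := by decide +kernel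

theorem betaOK_true : betaOK = true := by decide +kernel

theorem piOK_true : piOK = true := by decide +kernel

theorem transOK_true : transOK = true := by decide +kernel

theorem stabOK_true : stabOK = true := by decide +kernel

/-- an entry of the field -/
def nine (l : List ℕ) (i : ℕ) : K9 := ⟨((l.getD (2 * i) 0 : ℕ) : ZMod 3), ((l.getD (2 * i + 1) 0 : ℕ) : ZMod 3)⟩

/-- a point -/
def ptV (i : ℕ) : Fin 3 → K9 := fun k => nine (ptL.getD i []) k.val

/-- a matrix of a generator -/
def matG (g : ℕ) : MatNine := Matrix.of fun i j => nine (matL.getD g []) (3 * i.val + j.val)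

theorem matG_spec : ∀ g : Fin 2, (matG g).det = 1 ∧
    ((matG g).map fun x => x * x * x).transpose * matG g = 1 := by decide +kernel

theorem matG_pt : ∀ g : Fin 2, ∀ i : Fin 63, ∀ k : Fin 3,
    (matG g).mulVec (ptV i) k = nine (facL.getD g []) i * ptV ((piL.getD g []).getD i 0) k := by
  decide +kernel

/-- the coordinate points and two more -/
theorem ptV_special : ∀ k : Fin 3, ptV 6 k = ![1, 0, 0] k ∧ ptV 1 k = ![0, 1, 0] k ∧
    ptV 0 k = ![0, 0, 1] k ∧ ptV 21 k = ![1, 1, 0] k ∧ ptV 4 k = ![0, 1, 1] k := by
  decide +kernel

end CfsgLib.J2.UThree
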