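import Cfsg.Prelude.Def_Classical
import Cfsg.Agent.Lib.J2.UThreeCheck
import Cfsg.Agent.Lib.J2.Simple
import Cfsg.Agent.Lib.FormRep.Unitary
import Cfsg.Agent.Lib.ModuleIndex.UnitaryThreeBounds

/-!
The subgroup `U₃(3)` of index 100 of `J2`.
-/

set_option autoImplicit false
set_option linter.style.haveILetI false

namespace CfsgLib.J2.UThree

open CfsgLib.J2.Mult CfsgLib.UThreeThree
open scoped Pointwise Matrix

/-- a set of lines -/
def lineSet (k : ℕ) : Finset (Fin 315) := Finset.univ.filter fun x => inSet k x = true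

theorem mem_lineSet {k : ℕ} {x : Fin 315} : x ∈ lineSet k ↔ inSet k x = true := by simp [lineSet]

theorem setMem_spec {k : ℕ} (hk : k < 100) (x : ℕ) :
    x ∈ setMem.getD k [] ↔ x < 315 ∧ inSet k x = true := by
  have h := List.all_eq_true.mp memOK_true k (List.mem_range.mpr hk)
  rw [beq_iff_eq] at h
  rw [← h]
  simp [List.mem_filter]

theorem card_lineSet {k : ℕ} (hk : k < 100) : (lineSet k).card = 63 := by
  have h := List.all_eq_true.mp memOK_true k (List.mem_range.mpr hk)
  have h' := List.all_eq_true.mp tgtOK_true k (List.mem_range.mpr hk)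
  rw [beq_iff_eq] at h
  simp only [Bool.and_eq_true, decide_eq_true_eq] at h'
  rw [← Finset.card_image_of_injective _ Fin.val_injective,
    show (lineSet k).image Fin.val = (setMem.getD k []).toFinset by
      ext x
      simp only [Finset.mem_image, mem_lineSet, List.mem_toFinset, setMem_spec hk]
      exact ⟨fun ⟨y, hy, e⟩ => e ▸ ⟨y.isLt, hy⟩, fun ⟨a, b⟩ => ⟨⟨x, a⟩, b, rfl⟩⟩,
    List.toFinset_card_of_nodup (by rw [← h]; exact List.nodup_range.filter _), h'.1.1]

theorem smul_lineSet {g : J} {k t : ℕ} (hk : k < 100) (ht : t < 100)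
    (h : ∀ x : Fin 315, inSet k x = true → inSet t ((g : Equiv.Perm (Fin 315)) x) = true) :
    g • lineSet k = lineSet t := by
  refine Finset.eq_of_subset_of_card_le ?_ ?_
  · intro y hy
    obtain ⟨x, hx, rfl⟩ := Finset.mem_smul_finset.mp hy
    exact mem_lineSet.mpr (h x (mem_lineSet.mp hx))
  · rw [card_lineSet ht, Finset.card_smul_finset, card_lineSet hk]

theorem tgt_spec {k : ℕ} (hk : k < 100) :
    (∀ g < 4, (setTgt.getD k []).getD g 0 < 100 ∧
      el [g] • lineSet k = lineSet ((setTgt.getD k []).getD g 0)) ∧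
    ∀ g < 2, (setTgtTwo.getD k []).getD g 0 < 100 ∧
      el (gW g) • lineSet k = lineSet ((setTgtTwo.getD k []).getD g 0) := by
  have h := List.all_eq_true.mp tgtOK_true k (List.mem_range.mpr hk)
  simp only [Bool.and_eq_true, decide_eq_true_eq, List.all_eq_true, List.mem_range] at h
  obtain ⟨⟨-, h4⟩, h2⟩ := h
  constructor
  · intro g hg
    obtain ⟨ht, hx⟩ := h4 g hg
    refine ⟨ht, smul_lineSet hk ht fun x hxm => ?_⟩
    have := hx x ((setMem_spec hk x).mpr ⟨x.isLt, hxm⟩)
    have e : (((el [g] : Equiv.Perm (Fin 315)) x : Fin 315) : ℕ) = genAp g x :=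
      (wordE_apply (w := [g]) (by simpa using hg) x).trans rfl
    rwa [e]
  · intro g hg
    obtain ⟨ht, hx⟩ := h2 g hg
    have hw : ∀ i ∈ gW g, i < 4 := by
      have hs := setsOK_true
      simp only [setsOK, Bool.and_eq_true, List.all_eq_true, decide_eq_true_eq] at hs
      obtain ⟨⟨⟨⟨-, hX⟩, hY⟩, -⟩, -⟩ := hs
      interval_cases g
      · exact hX
      · exact hY
    refine ⟨ht, smul_lineSet hk ht fun x hxm => ?_⟩
    have := hx x ((setMem_spec hk x).mpr ⟨x.isLt, hxm⟩)
    have e : (((el (gW g) : Equiv.Perm (Fin 315)) x : Fin 315) : ℕ) = wordAp (gW g) x :=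
      wordE_apply hw x
    rwa [e]

attribute [local irreducible] lineSet

theorem lineSet_injective : Function.Injective fun k : Fin 100 => lineSet k := by
  intro a b hab
  have h := setsOK_true
  simp only [setsOK, Bool.and_eq_true, decide_eq_true_eq] at h
  obtain ⟨⟨⟨⟨⟨⟨-, hd⟩, hlen⟩, -⟩, -⟩, -⟩, -⟩ := h
  have ha : (a : ℕ) < setMasks.length := by omega
  have hb : (b : ℕ) < setMasks.length := by omega
  refine Fin.ext ((List.Nodup.getElem_inj_iff (nodup_of_distinctN hd) (hi := ha) (hj := hb)).mp ?_)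
  refine Nat.eq_of_testBit_eq fun x => ?_
  by_cases hx : x < 315
  · have := congrArg (fun s : Finset (Fin 315) => decide ((⟨x, hx⟩ : Fin 315) ∈ s)) hab
    simp only [mem_lineSet, inSet, List.getD_eq_getElem _ _ ha, List.getD_eq_getElem _ _ hb] at this
    simpa using this
  · have hbig : setMasks.all (fun m => decide (m < 2 ^ 315)) = true := by decide +kernel
    have hm : ∀ i (hi : i < setMasks.length), setMasks[i].testBit x = false := fun i hi =>
      Nat.testBit_lt_two_pow (lt_of_lt_of_le
        (of_decide_eq_true (List.all_eq_true.mp hbig _ (List.getElem_mem hi)))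
        (Nat.pow_le_pow_right two_pos (by omega)))
    rw [hm _ ha, hm _ hb]

theorem genH_induction {p : J → Prop} (h1 : p 1) (hg : ∀ g < 4, p (el [g]))
    (hm : ∀ a b, p a → p b → p (a * b)) : ∀ x, p x := by
  intro x
  obtain ⟨t, ht⟩ := x.2
  have hmem : t ∈ genH := genH_eq_top ▸ Subgroup.mem_top t
  have key : p (⟨lineAct t, t, rfl⟩ : J) := by
    clear ht
    induction hmem using Subgroup.closure_induction_left with
    | one =>
      convert h1
      exact Subtype.ext (map_one lineAct)
    | mul_left a ha y _ ih =>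
      obtain ⟨g, hg4, rfl⟩ := ha
      have := hm _ _ (hg g hg4) ih
      convert this
      refine Subtype.ext ?_
      simp [el, wordE, map_mul]
    | inv_mul_cancel a ha y _ ih =>
      obtain ⟨g, hg4, rfl⟩ := ha
      have := hm _ _ (hg g hg4) ih
      convert this
      refine Subtype.ext ?_
      simp [el, wordE, map_mul, genE_inv]
  convert key
  exact Subtype.ext ht.symm

theorem lineSet_smul (x : J) : ∀ k : Fin 100, ∃ t : Fin 100, x • lineSet k = lineSet t := by
  refine genH_induction (p := fun x : J => ∀ k : Fin 100, ∃ t : Fin 100, x • lineSet k = lineSet t)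
    (fun k => ⟨k, one_smul _ _⟩) (fun g hg k => ?_) (fun a b ha hb k => ?_) x
  · obtain ⟨ht, e⟩ := (tgt_spec k.isLt).1 g hg
    exact ⟨⟨_, ht⟩, e⟩
  · obtain ⟨t, e⟩ := hb k
    obtain ⟨u, e'⟩ := ha t
    exact ⟨u, by rw [mul_smul, e, e']⟩

theorem orbit_lineSet :
    MulAction.orbit J (lineSet 0) = Set.range fun k : Fin 100 => lineSet k := by
  refine Set.Subset.antisymm ?_ ?_
  · rintro _ ⟨x, rfl⟩
    obtain ⟨t, e⟩ := lineSet_smul x 0
    exact ⟨t, e.symm⟩
  · rintro _ ⟨k, rfl⟩
    have h := setsOK_true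
    simp only [setsOK, Bool.and_eq_true, List.all_eq_true, List.mem_range, decide_eq_true_eq,
      beq_iff_eq] at h
    obtain ⟨⟨⟨⟨⟨⟨htree, -⟩, -⟩, -⟩, -⟩, -⟩, -⟩ := h
    have key : ∀ n, n < 100 → lineSet n ∈ MulAction.orbit J (lineSet 0) := by
      intro n
      induction n using Nat.strong_induction_on with
      | _ n ih =>
        intro hn
        rcases n with _ | n
        · exact MulAction.mem_orbit_self _
        · obtain ⟨⟨hp, hg⟩, he⟩ := htree n (by omega)
          obtain ⟨x, hx⟩ := ih _ hp (by omega)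
          obtain ⟨-, e⟩ := (tgt_spec (by omega : (setTree.getD n (0, 0)).2 < 100)).1 _ hg
          refine ⟨el [(setTree.getD n (0, 0)).1] * x, ?_⟩
          rw [he] at e
          rw [← e, ← hx]
          exact mul_smul _ _ _
    exact key k k.isLt

/-- the subgroup -/
noncomputable def H : Subgroup J := MulAction.stabilizer J (lineSet 0)

theorem index_H : H.index = 100 := by
  rw [H, MulAction.index_stabilizer, orbit_lineSet, ← Set.image_univ,
    Set.ncard_image_of_injective _ lineSet_injective, Set.ncard_univ, Nat.card_fin]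

theorem card_H : Nat.card H = 6048 := by
  have h := H.card_mul_index
  rw [index_H, card_J] at h
  omega

/-- the two generators -/
noncomputable def gE (g : ℕ) : J := el (gW g)

/-- the generated subgroup -/
noncomputable def K : Subgroup J := Subgroup.closure (gE '' {g | g < 2})

theorem K_le : K ≤ H := by
  refine (Subgroup.closure_le _).mpr ?_
  rintro _ ⟨g, hg, rfl⟩
  have h := setsOK_true
  simp only [setsOK, Bool.and_eq_true, beq_iff_eq] at h
  obtain ⟨-, e⟩ := (tgt_spec (by norm_num : (0 : ℕ) < 100)).2 g hg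
  change gE g • lineSet 0 = lineSet 0
  refine e.trans (congrArg lineSet ?_)
  have hg2 : g < 2 := hg
  interval_cases g
  · exact h.1.2
  · exact h.2

theorem gW_lt : ∀ g < 2, ∀ i ∈ gW g, i < 4 := by
  have hs := setsOK_true
  simp only [setsOK, Bool.and_eq_true, List.all_eq_true, decide_eq_true_eq] at hs
  obtain ⟨⟨⟨⟨-, hX⟩, hY⟩, -⟩, -⟩ := hs
  intro g hg
  interval_cases g
  · exact hX
  · exact hY

/-- the line of a point -/
def betaF (i : Fin 63) : Fin 315 := ⟨betaL.getD i 0, by
  have h := betaOK_true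
  simp only [betaOK, Bool.and_eq_true, List.all_eq_true, decide_eq_true_eq] at h
  have hl : (i : ℕ) < betaL.length := by omega
  rw [List.getD_eq_getElem _ _ hl]
  exact h.1.1.2 _ (List.getElem_mem hl)⟩

theorem betaF_injective : Function.Injective betaF := by
  intro a b hab
  have h := betaOK_true
  simp only [betaOK, Bool.and_eq_true, decide_eq_true_eq] at h
  have ha : (a : ℕ) < betaL.length := by omega
  have hb : (b : ℕ) < betaL.length := by omega
  refine Fin.ext ((List.Nodup.getElem_inj_iff (nodup_of_distinctN h.1.1.1.2) (hi := ha) (hj := hb)).mp ?_)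
  have ea : ((betaF a : Fin 315) : ℕ) = betaL[(a : ℕ)] := List.getD_eq_getElem _ _ ha
  have eb : ((betaF b : Fin 315) : ℕ) = betaL[(b : ℕ)] := List.getD_eq_getElem _ _ hb
  exact ea.symm.trans ((congrArg Fin.val hab).trans eb)

theorem eq_one_of_fix {x : J} (hx : ∀ i, (x : Equiv.Perm (Fin 315)) (betaF i) = betaF i) : x = 1 := by
  have h := betaOK_true
  simp only [betaOK, Bool.and_eq_true, decide_eq_true_eq] at h
  refine Subtype.ext (Equiv.ext fun y => ?_)
  have key : ∀ l ∈ betaL, colAt l ((x : Equiv.Perm (Fin 315)) y) = colAt l y := by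
    intro l hl
    obtain ⟨i, hi, rfl⟩ := List.mem_iff_getElem.mp hl
    have hi' : i < 63 := by omega
    have hb : betaL[i] = ((betaF ⟨i, hi'⟩ : Fin 315) : ℕ) := (List.getD_eq_getElem _ _ hi).symm
    have key' := colAt_invariant x.2 (betaF ⟨i, hi'⟩) y
    rw [hx] at key'
    exact (congrArg (colAt · _) hb).trans (key'.trans (congrArg (colAt · _) hb).symm)
  have hcong : ∀ (l : List ℕ) (m : ℕ), (∀ q ∈ l, colAt q ((x : Equiv.Perm (Fin 315)) y) = colAt q y) →
      l.foldl (fun m q => 8 * m + colAt q ((x : Equiv.Perm (Fin 315)) y)) m =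
        l.foldl (fun m q => 8 * m + colAt q y) m := by
    intro l
    induction l with
    | nil => intros; rfl
    | cons q l ih =>
      intro m hq
      simp only [List.foldl_cons, hq q (List.mem_cons_self ..)]
      exact ih _ fun r hr => hq r (List.mem_cons_of_mem _ hr)
  rw [OneMemClass.coe_one, Equiv.Perm.one_apply]
  refine Fin.ext ((List.Nodup.getElem_inj_iff (nodup_of_distinctN h.2)
    (hi := by simp) (hj := by simp)).mp ?_)
  simp only [List.getElem_map, List.getElem_range]
  exact hcong _ 0 key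

theorem card_K_ge : 6048 ≤ Nat.card K := by
  set p := betaF 0
  have horb : Set.range betaF ⊆ MulAction.orbit K p := by
    rintro _ ⟨i, rfl⟩
    have h := transOK_true
    simp only [transOK, beq_iff_eq] at h
    obtain ⟨hi, hm⟩ := reachTree_spec (P := fun n => ∃ hn : n < 63, betaF ⟨n, hn⟩ ∈ MulAction.orbit K p)
      (fun n g hg ⟨hn, x, hx⟩ => by
        simp only [decide_eq_true_eq] at hg
        have hp := piOK_true
        simp only [piOK, List.all_eq_true, List.mem_range, Bool.and_eq_true, decide_eq_true_eq,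
          beq_iff_eq] at hp
        obtain ⟨hj, e⟩ := hp g hg n hn
        refine ⟨hj, ⟨gE g, Subgroup.subset_closure ⟨g, hg, rfl⟩⟩ * x, ?_⟩
        refine (mul_smul _ _ _).trans ?_
        refine (congrArg (fun z => (⟨gE g, Subgroup.subset_closure ⟨g, hg, rfl⟩⟩ : K) • z) hx).trans ?_
        exact Fin.ext ((wordE_apply (gW_lt g hg) _).trans e))
      _ _ _ h (fun y hy => by
        rw [Nat.testBit_two_pow, decide_eq_true_eq] at hy
        subst hy
        exact ⟨by norm_num, MulAction.mem_orbit_self _⟩) i (by rw [Nat.testBit_two_pow_sub_one]; simp)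
    exact hm
  have h63 : 63 ≤ (MulAction.orbit K p).ncard := by
    refine le_trans (le_of_eq ?_) (Set.ncard_le_ncard horb (Set.toFinite _))
    rw [← Set.image_univ, Set.ncard_image_of_injective _ betaF_injective, Set.ncard_univ, Nat.card_fin]
  have h96 : 96 ≤ Nat.card (MulAction.stabilizer K p) := by
    have h := stabOK_true
    simp only [stabOK, Bool.and_eq_true, decide_eq_true_eq, List.all_eq_true, beq_iff_eq] at h
    obtain ⟨⟨⟨hlen, hlt⟩, hfix⟩, hd⟩ := h
    have hexp : ∀ d : List ℕ, (∀ j ∈ d, j < 2) → (∀ i ∈ expW d, i < 4) ∧ el (expW d) ∈ K := by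
      intro d
      induction d with
      | nil => intro _; exact ⟨by simp [expW], by simp [expW, el_nil]⟩
      | cons j d ih =>
        intro hd
        rw [List.forall_mem_cons] at hd
        obtain ⟨i1, i2⟩ := ih hd.2
        have e : expW (j :: d) = gW j ++ expW d := by simp [expW]
        rw [e]
        refine ⟨fun i hi => ?_, ?_⟩
        · rcases List.mem_append.mp hi with h | h
          · exact gW_lt j hd.1 i h
          · exact i1 i h
        · rw [el_append]
          exact mul_mem (Subgroup.subset_closure ⟨j, hd.1, rfl⟩) i2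
    let f : Fin stabW.length → MulAction.stabilizer K p := fun s =>
      ⟨⟨el (expW stabW[s]), (hexp _ (hlt _ (List.getElem_mem _))).2⟩,
        Fin.ext ((wordE_apply (hexp _ (hlt _ (List.getElem_mem _))).1 _).trans
          (hfix _ (List.getElem_mem _)))⟩
    have hf : Function.Injective f := by
      intro a b hab
      have e : el (expW stabW[a]) = el (expW stabW[b]) :=
        congrArg (fun z : MulAction.stabilizer K p => ((z : K) : J)) hab
      have hk : stabImg stabW[a] = stabImg stabW[b] := by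
        refine List.map_congr_left fun i _ => ?_
        have ea := el_base (hexp _ (hlt stabW[a] (List.getElem_mem _))).1 i
        have eb := el_base (hexp _ (hlt stabW[b] (List.getElem_mem _))).1 i
        rw [e] at ea
        exact ea.symm.trans eb
      refine Fin.ext ((List.Nodup.getElem_inj_iff (nodup_of_distinctN hd) (hi := by simp)
        (hj := by simp)).mp ?_)
      simp only [List.getElem_map]
      exact congrArg keyP hk
    have := Nat.card_le_card_of_injective f hf
    rwa [Nat.card_fin, hlen] at this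
  have h := (MulAction.stabilizer K p).card_mul_index
  rw [MulAction.index_stabilizer] at h
  rw [← h]
  exact le_trans (by norm_num) (Nat.mul_le_mul h96 h63)

theorem K_eq : K = H :=
  Subgroup.eq_of_le_of_card_ge K_le (by rw [card_H]; exact card_K_ge)

/-! ### The orbits on the cosets -/

theorem gen_orbit {o : List ℕ} {r n : ℕ} {tr : List (ℕ × ℕ × ℕ)} (h : orbitOK o r n tr = true)
    (hr : r < 100) : (MulAction.orbit H (lineSet r)).ncard = n := by
  simp only [orbitOK, Bool.and_eq_true, decide_eq_true_eq, List.all_eq_true, List.mem_range,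
    List.contains_iff_mem, beq_iff_eq] at h
  obtain ⟨⟨⟨⟨⟨hlen, hd⟩, hro⟩, hlt⟩, hcl⟩, hreach⟩ := h
  have he : MulAction.orbit H (lineSet r) = lineSet '' {k | k ∈ o} := by
    refine Set.Subset.antisymm ?_ ?_
    · rintro _ ⟨⟨x, hx⟩, rfl⟩
      have hxK : x ∈ K := by rw [K_eq]; exact hx
      have key : ∀ k ∈ o, ∃ t ∈ o, x • lineSet k = lineSet t := by
        clear hx
        induction hxK using Subgroup.closure_induction with
        | mem x hx =>
          obtain ⟨g, hg, rfl⟩ := hx
          intro k hk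
          exact ⟨_, hcl k hk g hg, ((tgt_spec (hlt k hk)).2 g hg).2⟩
        | one => exact fun k hk => ⟨k, hk, one_smul _ _⟩
        | mul a b _ _ ha hb =>
          intro k hk
          obtain ⟨t, ht, e⟩ := hb k hk
          obtain ⟨u, hu, e'⟩ := ha t ht
          exact ⟨u, hu, by rw [mul_smul, e, e']⟩
        | inv a _ ha =>
          intro k hk
          have hn : ∀ m : ℕ, ∀ k ∈ o, ∃ t ∈ o, a ^ m • lineSet k = lineSet t := by
            intro m
            induction m with
            | zero => exact fun k hk => ⟨k, hk, by rw [pow_zero, one_smul]⟩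
            | succ m ih =>
              intro k hk
              obtain ⟨t, ht, e⟩ := ih k hk
              obtain ⟨u, hu, e'⟩ := ha t ht
              exact ⟨u, hu, by rw [pow_succ', mul_smul, e, e']⟩
          obtain ⟨t, ht, e⟩ := hn (orderOf a - 1) k hk
          refine ⟨t, ht, ?_⟩
          rwa [inv_eq_of_mul_eq_one_right (show a * a ^ (orderOf a - 1) = 1 by
            rw [← pow_succ', Nat.sub_add_cancel (orderOf_pos a), pow_orderOf_eq_one])]
      obtain ⟨t, ht, e⟩ := key r hro
      exact ⟨t, ht, e.symm⟩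
    · rintro _ ⟨k, hk, rfl⟩
      have hbit : (o.foldl (fun m k => m ||| 2 ^ k) 0).testBit k = true := by
        have : ∀ (l : List ℕ) (m : ℕ), m.testBit k = true ∨ k ∈ l →
            (l.foldl (fun m k => m ||| 2 ^ k) m).testBit k = true := by
          intro l
          induction l with
          | nil => intro m h; simpa using h
          | cons q l ih =>
            intro m h
            rw [List.foldl_cons]
            refine ih _ ?_
            rcases h with h | h
            · left; simp [Nat.testBit_or, h]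
            · rcases List.mem_cons.mp h with rfl | h
              · left; simp [Nat.testBit_or, Nat.testBit_two_pow]
              · exact Or.inr h
        exact this o 0 (Or.inr hk)
      exact (reachTree_spec (P := fun m => m < 100 ∧ lineSet m ∈ MulAction.orbit H (lineSet r))
        (fun m g hg ⟨hm, ⟨x, hx⟩, e⟩ => by
          simp only [decide_eq_true_eq] at hg
          obtain ⟨ht, e'⟩ := (tgt_spec hm).2 g hg
          refine ⟨ht, ⟨gE g, K_le (Subgroup.subset_closure ⟨g, hg, rfl⟩)⟩ * ⟨x, hx⟩, ?_⟩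
          refine (mul_smul _ _ _).trans ?_
          rw [← e']
          exact congrArg (gE g • ·) e)
        _ _ _ hreach (fun y hy => by
          rw [Nat.testBit_two_pow, decide_eq_true_eq] at hy
          subst hy
          exact ⟨hr, MulAction.mem_orbit_self _⟩) k hbit).2
  rw [he, Set.InjOn.ncard_image ?_, show {k | k ∈ o} = (o.toFinset : Set ℕ) by simp,
    Set.ncard_coe_finset, List.toFinset_card_of_nodup (nodup_of_distinctN hd), hlen]
  intro a ha b hb e
  exact congrArg Fin.val (lineSet_injective (a₁ := ⟨a, hlt a ha⟩) (a₂ := ⟨b, hlt b hb⟩) e)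

theorem coset_orbit {r : ℕ} (hr : r < 100) : ∃ c : J ⧸ H,
    (MulAction.orbit H c).ncard = (MulAction.orbit H (lineSet r)).ncard := by
  have hm : lineSet r ∈ MulAction.orbit J (lineSet 0) := orbit_lineSet ▸ ⟨⟨r, hr⟩, rfl⟩
  obtain ⟨x, hx⟩ := hm
  refine ⟨(x : J ⧸ H), ?_⟩
  let φ : J ⧸ H → Finset (Fin 315) := fun c => MulAction.ofQuotientStabilizer J (lineSet 0) c
  have hφ : Function.Injective φ := MulAction.injective_ofQuotientStabilizer J (lineSet 0)
  have hφs : ∀ (g : J) (c : J ⧸ H), φ (g • c) = g • φ c := fun g c =>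
    MulAction.ofQuotientStabilizer_smul J (lineSet 0) g c
  refine (Set.ncard_image_of_injective (f := φ) (MulAction.orbit H (x : J ⧸ H)) hφ).symm.trans ?_
  congr 1
  ext s
  constructor
  · rintro ⟨_, ⟨h, rfl⟩, rfl⟩
    exact ⟨h, by
      change (h : J) • lineSet r = φ ((h : J) • (x : J ⧸ H))
      rw [hφs, ← hx]; rfl⟩
  · rintro ⟨h, rfl⟩
    refine ⟨h • (x : J ⧸ H), ⟨h, rfl⟩, ?_⟩
    change φ ((h : J) • (x : J ⧸ H)) = (h : J) • lineSet r
    rw [hφs, ← hx]; rfl

/-! ### The isomorphism -/

instance : Fintype K9 := Fintype.ofEquiv _ (QuadraticAlgebra.equivProd (R := ZMod 3) 2 0).symm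

theorem card_K9 : Fintype.card K9 = 9 := by
  rw [← Nat.card_eq_fintype_card, Nat.card_congr (QuadraticAlgebra.equivProd (R := ZMod 3) 2 0)]
  simp

theorem exists_conjK9 : Nonempty (CfsgLib.ClassicalAut.Unitary.Conj K9 3) := by
  haveI : CharP K9 3 := charP_of_injective_algebraMap (algebraMap (ZMod 3) K9).injective 3
  haveI : Fact (Nat.Prime 3) := ⟨Nat.prime_three⟩
  exact CfsgLib.ClassicalAut.Unitary.exists_conj (p := 3) (f := 1) (pow_one 3).symm
    (by rw [Nat.card_eq_fintype_card, card_K9]; norm_num)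

theorem card_SU : Nat.card (Cfsg.SU 3 K9 3) = 6048 := by
  obtain ⟨C⟩ := exists_conjK9
  rw [CfsgLib.ModuleIndex.UThree.card_SU_three C]
  norm_num

theorem mem_SU {g : Matrix.SpecialLinearGroup (Fin 3) K9}
    (h : ((g : MatNine).map fun x => x * x * x)ᵀ * (g : MatNine) = 1) : g ∈ Cfsg.SU 3 K9 3 := by
  obtain ⟨C⟩ := exists_conjK9
  rw [CfsgLib.FormRep.Unitary.mem_SU_iff C.bar C.bar_apply C.bar_bar]
  change ((g : MatNine).map C.bar)ᵀ * (g : MatNine) = 1
  rw [show (g : MatNine).map C.bar = (g : MatNine).map fun x => x * x * x from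
    Matrix.ext fun i j => (C.bar_apply _).trans (by simp only [Matrix.map_apply]; ring)]
  exact h

/-- the relation between matrices and elements -/
def Rel (M : Cfsg.SU 3 K9 3) (x : J) : Prop :=
  ∀ i : Fin 63, ∃ j : Fin 63, ∃ c : K9, (x : Equiv.Perm (Fin 315)) (betaF i) = betaF j ∧
    (M.1 : MatNine) *ᵥ ptV i = c • ptV j

theorem rel_one : Rel 1 1 := fun i => ⟨i, 1, rfl, by simp⟩

theorem rel_mul {M N : Cfsg.SU 3 K9 3} {x y : J} (h : Rel M x) (h' : Rel N y) :
    Rel (M * N) (x * y) := by
  intro i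
  obtain ⟨j, c, ey, eN⟩ := h' i
  obtain ⟨k, d, ex, eM⟩ := h j
  refine ⟨k, c * d, by rw [Subgroup.coe_mul, Equiv.Perm.mul_apply, ey, ex], ?_⟩
  simp only [Subgroup.coe_mul, Matrix.SpecialLinearGroup.coe_mul]
  rw [← Matrix.mulVec_mulVec, eN, Matrix.mulVec_smul, eM, smul_smul]

theorem cube_eq_one : ∀ c : K9, c * c * c = 1 → c = 1 := by decide +kernel

theorem eq_one_of_rel_one {M : Cfsg.SU 3 K9 3} (h : Rel M 1) : M = 1 := by
  have hp : ∀ i : Fin 63, ∃ c : K9, ∀ r, ((M.1 : MatNine) *ᵥ ptV i) r = c * ptV i r := fun i => by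
    obtain ⟨j, c, ej, e⟩ := h i
    obtain rfl : i = j := betaF_injective (by simpa using ej)
    exact ⟨c, fun r => congrFun e r⟩
  obtain ⟨a, ha⟩ := hp ⟨6, by norm_num⟩
  obtain ⟨b, hb⟩ := hp ⟨1, by norm_num⟩
  obtain ⟨c, hc⟩ := hp ⟨0, by norm_num⟩
  obtain ⟨d, hd⟩ := hp ⟨21, by norm_num⟩
  obtain ⟨e, he⟩ := hp ⟨4, by norm_num⟩
  have s0 := ptV_special 0
  have s1 := ptV_special 1
  have s2 := ptV_special 2
  simp only [Matrix.mulVec, dotProduct, Fin.sum_univ_three, Fin.forall_fin_succ,
    IsEmpty.forall_iff, and_true, Fin.succ_zero_eq_one, Fin.succ_one_eq_two, s0, s1, s2,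
    Matrix.cons_val_zero, Matrix.cons_val_one, Matrix.cons_val, mul_one, mul_zero, add_zero,
    zero_add] at ha hb hc hd he
  obtain ⟨a0, a1, a2⟩ := ha
  obtain ⟨b0, b1, b2⟩ := hb
  obtain ⟨c0, c1, c2⟩ := hc
  obtain ⟨d0, d1, -⟩ := hd
  obtain ⟨-, e1, e2⟩ := he
  rw [a0, b0, add_zero] at d0
  rw [a1, b1, zero_add] at d1
  rw [b1, c1, add_zero] at e1
  rw [b2, c2, zero_add] at e2
  have hab : a = b := d0.trans d1.symm
  have hbc : b = c := e1.trans e2.symm
  have hM : (M.1 : MatNine) = a • (1 : MatNine) := by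
    refine Matrix.ext fun i j => ?_
    fin_cases i <;> fin_cases j <;> simp_all
  have hdet : a * a * a = 1 := by
    have := M.1.det_coe
    rw [hM, Matrix.det_smul, Matrix.det_one, mul_one, Fintype.card_fin, pow_succ, pow_two] at this
    exact this
  rw [cube_eq_one a hdet, one_smul] at hM
  exact Subtype.ext (Subtype.ext hM)

theorem eq_one_of_rel_one' {x : J} (h : Rel 1 x) (hx : ∀ i, ∀ j, ∀ c : K9,
    ptV i = c • ptV j → i < 63 → j < 63 → i = j) : x = 1 := by
  refine eq_one_of_fix fun i => ?_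
  obtain ⟨j, c, ej, e⟩ := h i
  rw [OneMemClass.coe_one, Matrix.SpecialLinearGroup.coe_one, Matrix.one_mulVec] at e
  rw [ej, show i = j from Fin.ext (hx i j c e i.isLt j.isLt)]

theorem ptV_lead : ∀ i : Fin 63, ptV i 0 = 1 ∨ (ptV i 0 = 0 ∧ ptV i 1 = 1) ∨
    (ptV i 0 = 0 ∧ ptV i 1 = 0 ∧ ptV i 2 = 1) := by decide +kernel

/-- a point as a number -/
def ptKey (i : ℕ) : ℕ := keyP (ptL.getD i [])

theorem ptKey_distinct : distinctN ((List.range 63).map ptKey) = true := by decide +kernel

theorem ptL_small : ∀ i : Fin 63, ∀ k : Fin 6, (ptL.getD i []).getD k 0 < 3 ∧ (ptL.getD i []).length = 6 := by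
  decide +kernel

theorem ptV_inj : ∀ i j : ℕ, ∀ c : K9, ptV i = c • ptV j → i < 63 → j < 63 → i = j := by
  intro i j c e hi hj
  have li := ptV_lead ⟨i, hi⟩
  have lj := ptV_lead ⟨j, hj⟩
  have e0 := congrFun e 0
  have e1 := congrFun e 1
  have e2 := congrFun e 2
  simp only [Pi.smul_apply, smul_eq_mul] at e0 e1 e2
  have hc : c = 1 := by
    simp only at li lj
    rcases li with a | ⟨a, a'⟩ | ⟨a, a', a''⟩ <;> rcases lj with b | ⟨b, b'⟩ | ⟨b, b', b''⟩
    · rw [a, b, mul_one] at e0; exact e0.symm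
    · rw [a, b, mul_zero] at e0; exact absurd e0 one_ne_zero
    · rw [a, b, mul_zero] at e0; exact absurd e0 one_ne_zero
    · rw [a, b, mul_one] at e0; rw [a', ← e0, zero_mul] at e1; exact absurd e1 one_ne_zero
    · rw [a', b', mul_one] at e1; exact e1.symm
    · rw [a', b', mul_zero] at e1; exact absurd e1 one_ne_zero
    · rw [a, b, mul_one] at e0; rw [a'', ← e0, zero_mul] at e2; exact absurd e2 one_ne_zero
    · rw [a', b', mul_one] at e1; rw [a'', ← e1, zero_mul] at e2; exact absurd e2 one_ne_zero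
    · rw [a'', b'', mul_one] at e2; exact e2.symm
  subst hc
  rw [one_smul] at e
  have hd := nodup_of_distinctN ptKey_distinct
  refine (List.Nodup.getElem_inj_iff hd (hi := by simpa using hi) (hj := by simpa using hj)).mp ?_
  simp only [List.getElem_map, List.getElem_range, ptKey]
  congr 1
  have hl : ∀ q : Fin 63, (ptL.getD q []).length = 6 := fun q => (ptL_small q 0).2
  refine List.ext_getElem ((hl ⟨i, hi⟩).trans (hl ⟨j, hj⟩).symm) fun q hq hq' => ?_
  have hq6 : q < 6 := (hl ⟨i, hi⟩) ▸ hq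
  have hk := congrFun e ⟨q / 2, by omega⟩
  simp only [ptV, nine, QuadraticAlgebra.mk.injEq] at hk
  have a := (ptL_small ⟨i, hi⟩ ⟨q, hq6⟩).1
  have b := (ptL_small ⟨j, hj⟩ ⟨q, hq6⟩).1
  simp only at a b
  rw [← List.getD_eq_getElem _ 0 hq, ← List.getD_eq_getElem _ 0 hq']
  have cast_inj : ∀ u v : ℕ, u < 3 → v < 3 → (u : ZMod 3) = v → u = v := by
    intro u v hu hv
    interval_cases u <;> interval_cases v <;> decide
  rcases Nat.even_or_odd' q with ⟨m, rfl | rfl⟩
  · have hm : 2 * m / 2 = m := by omega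
    rw [hm] at hk
    exact cast_inj _ _ a b hk.1
  · have hm : (2 * m + 1) / 2 = m := by omega
    rw [hm] at hk
    exact cast_inj _ _ a b hk.2

/-- the matrix of a generator -/
noncomputable def MG (g : Fin 2) : Cfsg.SU 3 K9 3 :=
  ⟨⟨matG g, (matG_spec g).1⟩, mem_SU (matG_spec g).2⟩

theorem rel_gen (g : Fin 2) : Rel (MG g) (gE g) := by
  intro i
  have hp := piOK_true
  simp only [piOK, List.all_eq_true, List.mem_range, Bool.and_eq_true, decide_eq_true_eq,
    beq_iff_eq] at hp
  obtain ⟨hj, e⟩ := hp g g.isLt i i.isLt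
  refine ⟨⟨_, hj⟩, nine (facL.getD g []) i, Fin.ext ((wordE_apply (gW_lt g g.isLt) _).trans e), ?_⟩
  funext k
  exact matG_pt g i k

theorem exists_rel {x : J} (hx : x ∈ H) : ∃ M, Rel M x := by
  rw [← K_eq] at hx
  have hpow : ∀ {M : Cfsg.SU 3 K9 3} {y : J}, Rel M y → ∀ n : ℕ, Rel (M ^ n) (y ^ n) := by
    intro M y h n
    induction n with
    | zero => simpa using rel_one
    | succ n ih => rw [pow_succ, pow_succ]; exact rel_mul ih h
  induction hx using Subgroup.closure_induction with
  | mem x hx => obtain ⟨g, hg, rfl⟩ := hx; exact ⟨_, rel_gen ⟨g, hg⟩⟩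
  | one => exact ⟨1, rel_one⟩
  | mul a b _ _ ha hb =>
    obtain ⟨M, hM⟩ := ha
    obtain ⟨N, hN⟩ := hb
    exact ⟨M * N, rel_mul hM hN⟩
  | inv a _ ha =>
    obtain ⟨M, hM⟩ := ha
    refine ⟨M ^ (orderOf a - 1), ?_⟩
    have := hpow hM (orderOf a - 1)
    rwa [inv_eq_of_mul_eq_one_right (show a * a ^ (orderOf a - 1) = 1 by
      rw [← pow_succ', Nat.sub_add_cancel (orderOf_pos a), pow_orderOf_eq_one])]

theorem rel_inv {M : Cfsg.SU 3 K9 3} {x : J} (h : Rel M x) : Rel M⁻¹ x⁻¹ := by
  have hpow : ∀ n : ℕ, Rel (M ^ n) (x ^ n) := by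
    intro n
    induction n with
    | zero => simpa using rel_one
    | succ n ih => rw [pow_succ, pow_succ]; exact rel_mul ih h
  have hn : 0 < orderOf M * orderOf x := Nat.mul_pos (orderOf_pos M) (orderOf_pos x)
  have e1 : M⁻¹ = M ^ (orderOf M * orderOf x - 1) := inv_eq_of_mul_eq_one_right (by
    rw [← pow_succ', Nat.sub_add_cancel hn, pow_mul, pow_orderOf_eq_one, one_pow])
  have e2 : x⁻¹ = x ^ (orderOf M * orderOf x - 1) := inv_eq_of_mul_eq_one_right (by
    rw [← pow_succ', Nat.sub_add_cancel hn, mul_comm, pow_mul, pow_orderOf_eq_one, one_pow])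
  rw [e1, e2]
  exact hpow _

theorem nonempty_equiv_SU : Nonempty (H ≃* Cfsg.SU 3 K9 3) := by
  choose f hf using fun x : H => exists_rel x.2
  have uniq : ∀ {M N : Cfsg.SU 3 K9 3} {x : J}, Rel M x → Rel N x → M = N := by
    intro M N x hM hN
    have := rel_mul hM (rel_inv hN)
    rw [mul_inv_cancel] at this
    exact mul_inv_eq_one.mp (eq_one_of_rel_one this)
  let F : H →* Cfsg.SU 3 K9 3 :=
    { toFun := f
      map_one' := uniq (hf 1) rel_one
      map_mul' := fun a b => uniq (hf (a * b)) (rel_mul (hf a) (hf b)) }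
  have hinj : Function.Injective F := by
    refine (injective_iff_map_eq_one F).mpr fun x hx => ?_
    have := hf x
    rw [show f x = 1 from hx] at this
    exact Subtype.ext (eq_one_of_rel_one' this ptV_inj)
  haveI : Finite (Cfsg.SU 3 K9 3) := Nat.finite_of_card_ne_zero (by rw [card_SU]; norm_num)
  exact ⟨MulEquiv.ofBijective F (hinj.bijective_of_nat_card_le (by rw [card_SU, card_H]))⟩

theorem central_eq_one : ∀ M : Cfsg.SU 3 K9 3, M ∈ Subgroup.center (Cfsg.SU 3 K9 3) → M = 1 := by
  intro M hM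
  have hd : (Matrix.diagonal ![(1 : K9), 2, 2]).det = 1 ∧
      ((Matrix.diagonal ![(1 : K9), 2, 2]).map fun x => x * x * x)ᵀ * Matrix.diagonal ![(1 : K9), 2, 2] = 1 ∧
      (Matrix.diagonal ![(2 : K9), 1, 2]).det = 1 ∧
      ((Matrix.diagonal ![(2 : K9), 1, 2]).map fun x => x * x * x)ᵀ * Matrix.diagonal ![(2 : K9), 1, 2] = 1 ∧
      (!![(0 : K9), 1, 0; 0, 0, 1; 1, 0, 0]).det = 1 ∧
      ((!![(0 : K9), 1, 0; 0, 0, 1; 1, 0, 0]).map fun x => x * x * x)ᵀ * !![(0 : K9), 1, 0; 0, 0, 1; 1, 0, 0] = 1 := by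
    decide +kernel
  obtain ⟨d1, u1, d2, u2, d3, u3⟩ := hd
  have key : ∀ {A : MatNine} (h1 : A.det = 1) (_ : (A.map fun x => x * x * x)ᵀ * A = 1),
      ∀ i j, (A * (M.1 : MatNine)) i j = ((M.1 : MatNine) * A) i j := fun {A} h1 h2 i j =>
    congrFun (congrFun (congrArg (fun g : Cfsg.SU 3 K9 3 => (g.1 : MatNine))
      (Subgroup.mem_center_iff.mp hM ⟨⟨A, h1⟩, mem_SU h2⟩)) i) j
  have k1 := key d1 u1
  have k2 := key d2 u2
  have k3 := key d3 u3
  set m := (M.1 : MatNine) with hm
  have two : ∀ z : K9, (1 * z = z * 2 → z = 0) ∧ (2 * z = z * 1 → z = 0) := by decide +kernel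
  have off : ∀ i j, i ≠ j → m i j = 0 := by
    intro i j hij
    have a := k1 i j
    have b := k2 i j
    rw [Matrix.diagonal_mul, Matrix.mul_diagonal] at a b
    fin_cases i <;> fin_cases j <;> simp only [Matrix.cons_val_zero, Matrix.cons_val_one,
      Matrix.cons_val, Fin.zero_eta, Fin.mk_one, Fin.reduceFinMk] at a b ⊢ <;>
      first
      | exact absurd rfl hij
      | exact (two _).1 a
      | exact (two _).2 a
      | exact (two _).1 b
      | exact (two _).2 b
  have p01 := k3 0 1
  have p12 := k3 1 2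
  simp [Matrix.mul_apply, Fin.sum_univ_three] at p01 p12
  have hMs : m = m 0 0 • (1 : MatNine) := by
    refine Matrix.ext fun i j => ?_
    by_cases hij : i = j
    · subst hij
      fin_cases i <;> simp [p01, p12] at *
      all_goals simp_all
    · simp [off i j hij, hij]
  have hdet : m 0 0 * m 0 0 * m 0 0 = 1 := by
    have := M.1.det_coe
    rw [← hm, hMs, Matrix.det_smul, Matrix.det_one, mul_one, Fintype.card_fin, pow_succ, pow_two] at this
    exact this
  rw [cube_eq_one _ hdet, one_smul] at hMs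
  exact Subtype.ext (Subtype.ext hMs)

theorem nonempty_equiv_PSU : Nonempty (H ≃* Cfsg.PSU 3 K9 3) := by
  obtain ⟨e⟩ := nonempty_equiv_SU
  have hz : Subgroup.center (Cfsg.SU 3 K9 3) = ⊥ := eq_bot_iff.mpr fun M hM => by
    rw [Subgroup.mem_bot]; exact central_eq_one M hM
  exact ⟨e.trans ((QuotientGroup.quotientMulEquivOfEq hz).trans QuotientGroup.quotientBot).symm⟩

theorem index_hundred_psu : ∃ L : Subgroup Cfsg.Spor.J2, L.index = 100 ∧
    (∃ (F : Type) (_ : Field F) (_ : Fintype F), Fintype.card F = 9 ∧ Nonempty (↥L ≃* Cfsg.PSU 3 F 3)) ∧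
    ∃ c₁ c₂ : Cfsg.Spor.J2 ⧸ L,
      (MulAction.orbit ↥L c₁).ncard = 36 ∧ (MulAction.orbit ↥L c₂).ncard = 63 := by
  obtain ⟨e⟩ := nonempty_equiv_PSU
  set L : Subgroup Cfsg.Spor.J2 := H.comap equivJ.toMonoidHom with hL
  let eL : L ≃* H :=
    (equivJ.subgroupMap L).trans
      (MulEquiv.subgroupCongr (Subgroup.map_comap_eq_self_of_surjective equivJ.surjective H))
  refine ⟨L, ?_, ⟨K9, inferInstance, inferInstance, card_K9, ⟨eL.trans e⟩⟩, ?_⟩
  · rw [hL, Subgroup.index_comap_of_surjective _ equivJ.surjective, index_H]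
  · have key : ∀ c : J ⧸ H, ∃ c' : Cfsg.Spor.J2 ⧸ L,
        (MulAction.orbit L c').ncard = (MulAction.orbit H c).ncard := by
      intro c
      induction c using QuotientGroup.induction_on with
      | _ x =>
        refine ⟨(equivJ.symm x : Cfsg.Spor.J2 ⧸ L), ?_⟩
        let q : Cfsg.Spor.J2 ⧸ L → J ⧸ H := Quotient.map' equivJ fun a b hab => by
          rw [QuotientGroup.leftRel_apply] at hab ⊢
          rw [← map_inv, ← map_mul]
          exact hab
        have hq : Function.Injective q := by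
          intro a b
          induction a using QuotientGroup.induction_on with
          | _ a =>
            induction b using QuotientGroup.induction_on with
            | _ b =>
              intro hab
              have h' : ((equivJ a : J) : J ⧸ H) = (equivJ b : J) := hab
              rw [QuotientGroup.eq] at h' ⊢
              rw [← map_inv, ← map_mul] at h'
              exact h'
        rw [← Set.ncard_image_of_injective _ hq]
        congr 1
        ext s
        constructor
        · rintro ⟨_, ⟨l, rfl⟩, rfl⟩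
          refine ⟨⟨equivJ l.1, l.2⟩, ?_⟩
          change ((equivJ l.1 * x : J) : J ⧸ H) = ((equivJ (l.1 * equivJ.symm x) : J) : J ⧸ H)
          rw [map_mul, MulEquiv.apply_symm_apply]
        · rintro ⟨h, rfl⟩
          refine ⟨_, ⟨⟨equivJ.symm h.1, ?_⟩, rfl⟩, ?_⟩
          · change equivJ (equivJ.symm h.1) ∈ H
            rw [MulEquiv.apply_symm_apply]; exact h.2
          · change ((equivJ (equivJ.symm h.1 * equivJ.symm x) : J) : J ⧸ H) = ((h.1 * x : J) : J ⧸ H)
            rw [← map_mul, MulEquiv.apply_symm_apply]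
    obtain ⟨a, ha⟩ := coset_orbit (r := 3) (by norm_num)
    obtain ⟨b, hb⟩ := coset_orbit (r := 1) (by norm_num)
    obtain ⟨a', ha'⟩ := key a
    obtain ⟨b', hb'⟩ := key b
    exact ⟨a', b', by rw [ha', ha, gen_orbit orbB_ok (by norm_num)],
      by rw [hb', hb, gen_orbit orbA_ok (by norm_num)]⟩

theorem exists_J2_hundred : ∃ G : Subgroup (Equiv.Perm (Fin 100)),
    IsSimpleGroup G ∧ Nat.card G = 604800 := by
  haveI hsJ : IsSimpleGroup J := by
    haveI := simple_J2
    haveI : Nontrivial J := equivJ.symm.toEquiv.nontrivial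
    exact MulEquiv.isSimpleGroup equivJ.symm
  haveI : Finite (J ⧸ H) := Quotient.finite _
  let e : J ⧸ H ≃ Fin 100 := (Finite.equivFin _).trans (finCongr index_H)
  let f : J →* Equiv.Perm (Fin 100) :=
    (e.permCongrHom.toMonoidHom).comp (MulAction.toPermHom J (J ⧸ H))
  have hinj : Function.Injective f := by
    rw [← MonoidHom.ker_eq_bot_iff]
    refine (MonoidHom.normal_ker f).eq_bot_or_eq_top.resolve_right fun h => ?_
    have hle : (⊤ : Subgroup J) ≤ H := by
      intro x _
      have hx : f x = 1 := MonoidHom.mem_ker.mp (h ▸ Subgroup.mem_top x)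
      have h2 : MulAction.toPermHom J (J ⧸ H) x = 1 := e.permCongrHom.injective (hx.trans (map_one _).symm)
      have h1 := Equiv.congr_fun h2 ((1 : J) : J ⧸ H)
      change ((x * 1 : J) : J ⧸ H) = ((1 : J) : J ⧸ H) at h1
      rw [mul_one, eq_comm, QuotientGroup.eq, inv_one, one_mul] at h1
      exact h1
    have := index_H
    rw [top_le_iff.mp hle, Subgroup.index_top] at this
    norm_num at this
  haveI : Nontrivial f.range := (MonoidHom.ofInjective hinj).toEquiv.symm.nontrivial
  refine ⟨f.range, MulEquiv.isSimpleGroup (MonoidHom.ofInjective hinj).symm, ?_⟩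
  rw [← Nat.card_congr (MonoidHom.ofInjective hinj).toEquiv, card_J]

end CfsgLib.J2.UThree
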