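import Cfsg.Agent.Lib.J2.MultData

/-!
Words for the elements of a Sylow 2-subgroup of `J2`.
-/

set_option autoImplicit false

namespace CfsgLib.J2.Mult

/-- words in the three involutions for the 128 elements -/
def sylW : List (List ℕ) := [
  [], [2], [0], [1], [0, 2], [1, 2],
  [2, 0], [1, 0], [2, 1], [0, 1], [2, 0, 2], [1, 0, 2],
  [2, 1, 2], [0, 1, 2], [0, 2, 0], [1, 2, 0], [2, 1, 0], [0, 1, 0],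
  [0, 2, 1], [1, 2, 1], [2, 0, 1], [1, 0, 1], [0, 2, 0, 2], [1, 2, 0, 2],
  [2, 1, 0, 2], [0, 1, 0, 2], [0, 2, 1, 2], [1, 2, 1, 2], [2, 0, 1, 2], [1, 0, 1, 2],
  [2, 0, 2, 0], [1, 0, 2, 0], [2, 1, 2, 0], [0, 1, 2, 0], [0, 2, 1, 0], [1, 2, 1, 0],
  [1, 0, 1, 0], [2, 0, 2, 1], [1, 0, 2, 1], [0, 1, 2, 1], [1, 2, 0, 1], [2, 1, 0, 1],
  [0, 1, 0, 1], [2, 0, 2, 0, 2], [1, 0, 2, 0, 2], [2, 1, 2, 0, 2], [0, 1, 2, 0, 2], [0, 2, 1, 0, 2],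
  [1, 2, 1, 0, 2], [1, 0, 1, 0, 2], [2, 0, 2, 1, 2], [1, 0, 2, 1, 2], [0, 1, 2, 1, 2], [1, 2, 0, 1, 2],
  [2, 1, 0, 1, 2], [0, 1, 0, 1, 2], [0, 2, 0, 2, 0], [1, 2, 0, 2, 0], [2, 1, 0, 2, 0], [0, 2, 1, 2, 0],
  [1, 2, 1, 2, 0], [2, 0, 1, 2, 0], [1, 0, 1, 2, 0], [2, 0, 2, 1, 0], [1, 0, 2, 1, 0], [0, 1, 2, 1, 0],
  [2, 1, 0, 1, 0], [0, 1, 0, 1, 0], [0, 2, 0, 2, 1], [1, 2, 0, 2, 1], [2, 1, 0, 2, 1], [0, 1, 0, 2, 1],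
  [2, 0, 1, 2, 1], [1, 0, 1, 2, 1], [2, 1, 2, 0, 1], [0, 1, 2, 0, 1], [0, 2, 1, 0, 1], [1, 2, 1, 0, 1],
  [1, 0, 1, 0, 1], [0, 2, 0, 2, 0, 2], [1, 2, 0, 2, 0, 2], [2, 1, 0, 2, 0, 2], [0, 2, 1, 2, 0, 2], [1, 2, 1, 2, 0, 2],
  [2, 0, 1, 2, 0, 2], [1, 0, 1, 2, 0, 2], [2, 0, 2, 1, 0, 2], [1, 0, 2, 1, 0, 2], [0, 1, 2, 1, 0, 2], [2, 1, 0, 1, 0, 2],
  [0, 1, 0, 1, 0, 2], [0, 2, 0, 2, 1, 2], [1, 2, 0, 2, 1, 2], [2, 1, 0, 2, 1, 2], [0, 1, 0, 2, 1, 2], [2, 0, 1, 2, 1, 2],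
  [1, 0, 1, 2, 1, 2], [2, 1, 2, 0, 1, 2], [0, 1, 2, 0, 1, 2], [0, 2, 1, 0, 1, 2], [1, 2, 1, 0, 1, 2], [1, 0, 1, 0, 1, 2],
  [2, 0, 2, 0, 2, 0], [1, 0, 2, 0, 2, 0], [0, 1, 2, 0, 2, 0], [0, 1, 2, 1, 2, 0], [0, 2, 0, 2, 1, 0], [2, 0, 1, 2, 1, 0],
  [1, 2, 1, 0, 1, 0], [1, 0, 1, 0, 1, 0], [1, 2, 1, 2, 0, 1], [0, 1, 0, 1, 0, 1], [2, 0, 2, 0, 2, 0, 2], [1, 0, 2, 0, 2, 0, 2],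
  [0, 1, 2, 0, 2, 0, 2], [0, 1, 2, 1, 2, 0, 2], [0, 2, 0, 2, 1, 0, 2], [2, 0, 1, 2, 1, 0, 2], [1, 2, 1, 0, 1, 0, 2], [1, 0, 1, 0, 1, 0, 2],
  [1, 2, 1, 2, 0, 1, 2], [0, 1, 0, 1, 0, 1, 2], [0, 2, 0, 2, 0, 2, 0], [1, 0, 1, 2, 1, 2, 0], [0, 1, 0, 1, 0, 1, 0], [0, 2, 0, 2, 0, 2, 0, 2],
  [1, 0, 1, 2, 1, 2, 0, 2], [0, 1, 0, 1, 0, 1, 0, 2]]

end CfsgLib.J2.Mult
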