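import Cfsg.Agent.Lib.J2.ClassDefs
import Cfsg.Agent.Lib.J2.OutData

/-!
Finite checks for the automorphisms of `J2`.
-/

set_option autoImplicit false

namespace CfsgLib.J2

/-- the generators of the stabiliser of the first line -/
def stabAll : List (List ℕ) := stabWords.flatten

/-- the lines of one colour as a mask -/
def subMask (k : ℕ) : ℕ :=
  (List.range 315).foldl (fun m x => if colAt 0 x == k then m ||| 2 ^ x else m) 0

/-- each suborbit is a colour class, and the classes have the expected sizes -/
def suborbitsOK : Bool :=
  (List.range 315).all (fun x => decide (colAt 0 x < 6)) &&
  stabAll.all (fun w => w.all (fun i => decide (i < 4)) && wordAp w 0 == 0) &&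
  (List.range 6).all (fun k =>
    decide (subStart.getD k 0 < 315) && colAt 0 (subStart.getD k 0) == k &&
    reachTree (fun n x => wordAp (stabAll.getD n []) x) (fun n => decide (n < stabAll.length))
      (subTree.getD k []) (2 ^ subStart.getD k 0) == some (subMask k)) &&
  (List.range 6).map (fun k => ((List.range 315).filter fun x => colAt 0 x == k).length) ==
    [10, 160, 32, 32, 80, 1]

theorem suborbitsOK_true : suborbitsOK = true := by decide +kernel

/-- the colours of the rows of the base are among the six -/
def rowValuesOK : Bool :=
  (List.range 10).all fun j => (List.range 315).all fun x =>
    [500, 16500, 16516, 32484, 32500, 64500].contains (dig20 (colRows.getD j 0) x)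

theorem rowValuesOK_true : rowValuesOK = true := by decide +kernel

/-- inverse lookup -/
def outInvOK : Bool :=
  ((List.range 315).map (dig9 outPerm)).all (fun x => decide (x < 315)) &&
    natsDistinct ((List.range 315).map (dig9 outPerm))

theorem outInvOK_true : outInvOK = true := by decide +kernel

/-- the permutation normalises the group and exchanges two colours -/
def outOK : Bool :=
  (List.range 4).all (fun g =>
    let w := outWords.getD g []
    w.all (fun i => decide (i < 4)) && (List.range 315).all fun x =>
      Nat.beq (dig9 outPerm (genAp g x)) (wordAp w (dig9 outPerm x))) &&
    dig9 outPerm 0 == 0 && colAt 0 (subStart.getD 2 0) != colAt 0 (dig9 outPerm (subStart.getD 2 0))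

theorem outOK_true : outOK = true := by decide +kernel

/-- exactly one class has 315 elements -/
def reflClassOK : Bool :=
  ([cert0, cert1, cert2, cert3, cert4, cert5, cert6, cert7, cert8, cert9, cert10, cert11, cert12,
    cert13, cert14, cert15, cert16, cert17, cert18, cert19, cert20].map fun c =>
      604800 / c.bound == 315) ==
    [false, true, false, false, false, false, false, false, false, false, false, false, false,
      false, false, false, false, false, false, false, false] &&
    cert1.word == [cert1.word.getD 0 0]

theorem reflClassOK_true : reflClassOK = true := by decide +kernel

end CfsgLib.J2
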