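import Cfsg.Prelude.Def_KGroupFacts
import Cfsg.Agent.Lib.J2.Simple
import Cfsg.Agent.Lib.J2.OutCheck
import Cfsg.Agent.Lib.Extraspecial.OuterAut

/-!
`J2` has an outer automorphism group of order two.
-/

set_option autoImplicit false

namespace CfsgLib.J2

/-- the index of the class of reflections -/
def i2A : Fin certs.length := ⟨1, by simp [certs]⟩

theorem classOf_i2A : classOf i2A = Set.range lineRefl ∧ (classOf i2A).ncard = 315 ∧
    ∀ i, (classOf i).ncard = 315 → i = i2A := by
  have h := reflClassOK_true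
  simp only [reflClassOK, Bool.and_eq_true, beq_iff_eq] at h
  obtain ⟨hsz, hw⟩ := h
  have hat : ∀ i : Fin certs.length, ((604800 / certs[i].bound == 315) : Bool) =
      decide (i = i2A) := by
    intro i
    have hi : (i : ℕ) < 21 := by have := i.isLt; simpa [certs] using this
    have e : (certs.map fun c => 604800 / c.bound == 315)[(i : ℕ)]'(by simp) =
        ([false, true, false, false, false, false, false, false, false, false, false, false, false,
          false, false, false, false, false, false, false, false] : List Bool)[(i : ℕ)]'(by simpa using hi) :=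
      List.getElem_of_eq hsz _
    rw [List.getElem_map] at e
    refine e.trans ?_
    obtain ⟨iv, hv⟩ := i
    simp only at hi
    interval_cases iv <;> rfl
  have hn : (classOf i2A).ncard = 315 := by
    rw [classOf_exhaust.2]
    simpa using hat i2A
  refine ⟨?_, hn, fun i hi => ?_⟩
  · have m1 : cert1 ∈ certs := by simp [certs]
    obtain ⟨c1, -⟩ := ClassCert.parts (certs_ok _ m1)
    have hg : cert1.word.getD 0 0 < 4 := c1 _ (by rw [hw]; simp)
    have hr : classRep i2A = lineRefl ⟨_, genIdx_lt hg⟩ := by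
      refine Subtype.ext ?_
      have hwE : wordE cert1.word = genE (cert1.word.getD 0 0) := by
        conv_lhs => rw [hw]
        simp [wordE]
      change lineAct (wordE cert1.word) = _
      rw [hwE, genE, dif_pos hg]
      rfl
    ext x
    constructor
    · rintro ⟨h, rfl⟩
      obtain ⟨g, hg'⟩ := (ConjAct.ofConjAct h).2
      refine ⟨lineAct g ⟨_, genIdx_lt hg⟩, ?_⟩
      change _ = h • classRep i2A
      rw [ConjAct.smul_def, hr, ← lineRefl_conj]
      have : ConjAct.ofConjAct h = (⟨lineAct g, g, rfl⟩ : J) := Subtype.ext hg'.symm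
      rw [this]
    · rintro ⟨k, rfl⟩
      obtain ⟨g, e⟩ := lineAct_transitive ⟨_, genIdx_lt hg⟩ k
      refine ⟨ConjAct.toConjAct ⟨lineAct g, g, rfl⟩, ?_⟩
      change ConjAct.toConjAct _ • classRep i2A = _
      rw [ConjAct.smul_def, ConjAct.ofConjAct_toConjAct, hr, lineRefl_conj, e]
  · rw [classOf_exhaust.2] at hi
    have := hat i
    rw [hi] at this
    simpa using this

theorem lineRefl_injective : Function.Injective lineRefl := by
  have hs : Function.Surjective (Set.rangeFactorization lineRefl) := Set.rangeFactorization_surjective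
  have hc : Nat.card (Set.range lineRefl) = Nat.card (Fin 315) := by
    rw [Nat.card_coe_set_eq, ← classOf_i2A.1, classOf_i2A.2.1, Nat.card_fin]
  intro a b h
  exact (hs.bijective_of_nat_card_le (le_of_eq hc.symm)).1 (Subtype.ext h)

theorem J_conj_lineRefl (x : J) (k : Fin 315) :
    x * lineRefl k * x⁻¹ = lineRefl ((x : Equiv.Perm (Fin 315)) k) := by
  obtain ⟨g, hg⟩ := x.2
  have : x = (⟨lineAct g, g, rfl⟩ : J) := Subtype.ext hg.symm
  rw [this, lineRefl_conj]

theorem exists_perm (φ : MulAut J) : ∃ π : Equiv.Perm (Fin 315),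
    ∀ x : J, ((φ x : J) : Equiv.Perm (Fin 315)) = π * x * π⁻¹ := by
  have hex : ∀ k, ∃ m, φ (lineRefl k) = lineRefl m := by
    intro k
    have hk : lineRefl k ∈ classOf i2A := by rw [classOf_i2A.1]; exact ⟨k, rfl⟩
    obtain ⟨i, hi⟩ := Set.mem_iUnion.mp (classOf_exhaust.1 ▸ Set.mem_univ (φ (lineRefl k)))
    have himg : φ '' classOf i2A = classOf i := by
      have e1 : classOf i2A = MulAction.orbit (ConjAct J) (lineRefl k) :=
        (MulAction.orbit_eq_iff.mpr hk).symm
      have e2 : classOf i = MulAction.orbit (ConjAct J) (φ (lineRefl k)) :=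
        (MulAction.orbit_eq_iff.mpr hi).symm
      rw [e1, e2]
      ext y
      constructor
      · rintro ⟨_, ⟨h, rfl⟩, rfl⟩
        refine ⟨ConjAct.toConjAct (φ (ConjAct.ofConjAct h)), ?_⟩
        simp [ConjAct.smul_def, map_mul, map_inv]
      · rintro ⟨h, rfl⟩
        refine ⟨ConjAct.toConjAct (φ.symm (ConjAct.ofConjAct h)) • lineRefl k, ⟨_, rfl⟩, ?_⟩
        simp [ConjAct.smul_def, map_mul, map_inv]
    have hn : (classOf i).ncard = 315 := by
      rw [← himg, Set.ncard_image_of_injective _ φ.injective, classOf_i2A.2.1]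
    rw [classOf_i2A.2.2 i hn, classOf_i2A.1] at hi
    obtain ⟨m, hm⟩ := hi
    exact ⟨m, hm.symm⟩
  choose f hf using hex
  have hinj : Function.Injective f := fun a b h =>
    lineRefl_injective (φ.injective (by rw [hf, hf, h]))
  let π := Equiv.ofBijective f (Finite.injective_iff_bijective.mp hinj)
  refine ⟨π, fun x => ?_⟩
  rw [eq_mul_inv_iff_mul_eq]
  refine Equiv.ext fun k => lineRefl_injective ?_
  rw [Equiv.Perm.mul_apply, Equiv.Perm.mul_apply, ← J_conj_lineRefl]
  change φ x * lineRefl (f k) * (φ x)⁻¹ = lineRefl (f _)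
  rw [← hf, ← hf, ← map_inv, ← map_mul, ← map_mul, J_conj_lineRefl]

theorem colSmall_inj_rows {i : ℕ} (hi : i < 10) {x y : ℕ} (hx : x < 315) (hy : y < 315)
    (h : colSmall (dig20 (colRows.getD i 0) x) = colSmall (dig20 (colRows.getD i 0) y)) :
    dig20 (colRows.getD i 0) x = dig20 (colRows.getD i 0) y := by
  have hv := rowValuesOK_true
  simp only [rowValuesOK, List.all_eq_true, List.mem_range, List.contains_iff_mem, List.mem_cons,
    List.not_mem_nil, or_false] at hv
  rcases hv i hi x hx with a | a | a | a | a | a <;> rcases hv i hi y hy with b | b | b | b | b | b <;>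
    first
    | (rw [a, b]; done)
    | (rw [a, b] at h; exact absurd h (by decide))

theorem colAt_base {i : ℕ} (hi : i < 10) (x : Fin 315) :
    colAt (bpt i) x = colSmall (dig20 (colRows.getD i 0) x) := by
  rw [colAt_spec, colC_base hi]

/-- The permutation keeps all colours. -/
def KeepsCol (π : Equiv.Perm (Fin 315)) : Prop := ∀ a b : Fin 315, colAt (π a) (π b) = colAt a b

theorem keepsCol_of_mem {g : Equiv.Perm (Fin 315)} (hg : g ∈ J) : KeepsCol g :=
  fun a b => colAt_invariant hg a b

theorem KeepsCol.atom {π : Equiv.Perm (Fin 315)} (hπ : KeepsCol π) {j : ℕ} (hj : j < 10)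
    (hf : ∀ i < j, π (bpt i) = bpt i) : inAtom j (π (bpt j)) = true := by
  simp only [inAtom, List.all_eq_true, List.mem_range, beq_iff_eq]
  intro i hi
  refine colSmall_inj_rows (by omega) (Fin.isLt _) (basePts_lt j) ?_
  have h1 := colAt_base (i := i) (by omega) (π (bpt j))
  have h2 := colAt_base (i := i) (by omega) (bpt j)
  have h3 := hπ (bpt i) (bpt j)
  rw [hf i hi] at h3
  rw [← h1, h3, h2]
  rfl

theorem KeepsCol.mem {π : Equiv.Perm (Fin 315)} (hπ : KeepsCol π) : π ∈ J := by
  have step : ∀ j ≤ 5, ∃ g ∈ J, ∀ i < j, (g * π) (bpt i) = bpt i := by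
    intro j
    induction j with
    | zero => intro _; exact ⟨1, one_mem _, fun i hi => absurd hi (Nat.not_lt_zero i)⟩
    | succ j ih =>
      intro hj
      obtain ⟨g, hg, hfix⟩ := ih (by omega)
      have hk : KeepsCol (g * π) := fun a b => by
        rw [Equiv.Perm.mul_apply, Equiv.Perm.mul_apply, colAt_invariant hg, hπ]
      have hat := hk.atom (by omega) hfix
      have hmove : ∃ h ∈ fixJ j, h (bpt j) = (g * π) (bpt j) := by
        rcases Nat.eq_zero_or_pos j with rfl | hj0
        · obtain ⟨t, ht⟩ := lineAct_transitive 0 ((g * π) (bpt 0))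
          exact ⟨lineAct t, by rw [fixJ_zero]; exact ⟨t, rfl⟩, by rw [bpt_zero] at ht ⊢; exact ht⟩
        · have hlev : levelOK j = true := by
            have : j < 5 := by omega
            interval_cases j
            exacts [level1, level2, level3, level4]
          exact level_orbit hj0 (by omega) hlev _ hat
      obtain ⟨h, hh, e⟩ := hmove
      obtain ⟨hJ, hfh⟩ := mem_fixJ.mp hh
      refine ⟨h⁻¹ * g, mul_mem (inv_mem hJ) hg, fun i hi => ?_⟩
      rw [mul_assoc, Equiv.Perm.mul_apply, Equiv.Perm.inv_def, Equiv.symm_apply_eq]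
      rcases Nat.lt_succ_iff_lt_or_eq.mp hi with hi | rfl
      · rw [hfix i hi, hfh i hi]
      · exact e.symm
  obtain ⟨g, hg, hfix⟩ := step 5 le_rfl
  have hk : KeepsCol (g * π) := fun a b => by
    rw [Equiv.Perm.mul_apply, Equiv.Perm.mul_apply, colAt_invariant hg, hπ]
  have hten : ∀ i < 10, (g * π) (bpt i) = bpt i := by
    intro i
    induction i using Nat.strong_induction_on with
    | _ i ih =>
      intro hi
      by_cases h5 : i < 5
      · exact hfix i h5
      have hA := hk.atom hi fun k hk' => ih k hk' (by omega)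
      have h := stagesAlone_true
      simp only [stagesAlone, List.all_eq_true, List.mem_range, Bool.or_eq_true, Bool.not_eq_true',
        beq_iff_eq] at h
      rcases h i (by simp; omega) ((g * π) (bpt i)) (Fin.isLt _) with h' | h'
      · rw [hA] at h'; exact absurd h' (by simp)
      · exact Fin.ext h'
  have hone : g * π = 1 := by
    refine Equiv.ext fun x => ?_
    have hkey : codeKey ((g * π) x) colRows = codeKey x colRows := by
      refine codeKey_congr fun r hr => ?_
      obtain ⟨i, hi, rfl⟩ := List.mem_iff_getElem.mp hr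
      have hi' : i < 10 := by simpa [colRows] using hi
      have e := hk (bpt i) x
      rw [hten i hi', colAt_base hi', colAt_base hi'] at e
      have := colSmall_inj_rows hi' (Fin.isLt _) x.isLt e
      rwa [List.getD_eq_getElem _ _ hi] at this
    set y := (g * π) x with hy
    clear_value y
    obtain ⟨c1, e1⟩ := codes_get _ _ codesMatch_true y (by simp)
    obtain ⟨c2, e2⟩ := codes_get _ _ codesMatch_true x (by simp)
    simp only [List.getElem_range] at e1 e2
    rw [hkey, e2] at e1
    rw [Equiv.Perm.one_apply]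
    exact Fin.ext ((List.Nodup.getElem_inj_iff lineCodes_nodup).mp e1).symm
  rw [eq_inv_of_mul_eq_one_right hone]
  exact inv_mem hg

/-- The colours with the two of size 32 exchanged. -/
def swapCol : ℕ → ℕ
  | 2 => 3
  | 3 => 2
  | k => k

theorem suborbit_facts :
    (∀ x : Fin 315, colAt 0 x < 6) ∧
    (∀ x y : Fin 315, colAt 0 x = colAt 0 y → ∃ h ∈ J, h 0 = 0 ∧ h x = y) ∧
    ∀ k < 6, {x : Fin 315 | colAt 0 x = k}.ncard = [10, 160, 32, 32, 80, 1].getD k 0 := by
  have h := suborbitsOK_true
  simp only [suborbitsOK, Bool.and_eq_true, List.all_eq_true, List.mem_range, beq_iff_eq,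
    decide_eq_true_eq] at h
  obtain ⟨⟨⟨hlt, hst⟩, hsub⟩, hsz⟩ := h
  refine ⟨fun x => hlt x x.isLt, ?_, ?_⟩
  · let K : Subgroup (Equiv.Perm (Fin 315)) :=
      { carrier := {h | h ∈ J ∧ h 0 = 0}
        one_mem' := ⟨one_mem _, rfl⟩
        mul_mem' := fun {a b} ha hb => ⟨mul_mem ha.1 hb.1, by rw [Equiv.Perm.mul_apply, hb.2, ha.2]⟩
        inv_mem' := fun {a} ha => ⟨inv_mem ha.1, by
          rw [Equiv.Perm.inv_def, Equiv.symm_apply_eq, ha.2]⟩ }
    have key : ∀ x : Fin 315, ∃ h ∈ K, ((h x : Fin 315) : ℕ) = subStart.getD (colAt 0 x) 0 := by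
      intro x
      obtain ⟨⟨hs, -⟩, hreach⟩ := hsub _ (hlt x x.isLt)
      have hm : (subMask (colAt 0 x)).testBit x = true := by
        have key : ∀ (k : ℕ) (l : List ℕ) (m : ℕ), (m.testBit x = true ∨ ((x : ℕ) ∈ l ∧ colAt 0 x = k)) →
            (l.foldl (fun m x => if colAt 0 x == k then m ||| 2 ^ x else m) m).testBit x = true := by
          intro k l
          induction l with
          | nil => intro m h; simpa using h
          | cons a l ih =>
            intro m h
            rw [List.foldl_cons]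
            refine ih _ ?_
            rcases h with h | ⟨h, hk⟩
            · left; split <;> simp [Nat.testBit_or, h]
            · rcases List.mem_cons.mp h with rfl | h
              · left; simp [hk, Nat.testBit_or, Nat.testBit_two_pow]
              · exact Or.inr ⟨h, hk⟩
        exact key _ _ _ (Or.inr ⟨by simp, rfl⟩)
      obtain ⟨hy, g, hg, e⟩ := reachTree_spec
        (P := fun y => ∃ hy : y < 315, ∃ g ∈ K, g ⟨subStart.getD (colAt 0 x) 0, hs⟩ = ⟨y, hy⟩)
        (fun y n hn ⟨hy, g, hg, e⟩ => by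
          simp only [decide_eq_true_eq] at hn
          have hmem : stabAll.getD n [] ∈ stabAll := by
            rw [List.getD_eq_getElem _ _ hn]; exact List.getElem_mem hn
          obtain ⟨hw4, hw0⟩ := hst _ hmem
          have ha := wordE_apply hw4 ⟨y, hy⟩
          refine ⟨ha ▸ Fin.isLt _, lineAct (wordE (stabAll.getD n [])) * g,
            mul_mem ⟨⟨_, rfl⟩, Fin.ext ?_⟩ hg, ?_⟩
          · rw [wordE_apply hw4]; exact hw0
          · rw [Equiv.Perm.mul_apply, e]; exact Fin.ext ha)
        _ _ _ hreach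
        (fun y hy => by
          rw [Nat.testBit_two_pow, decide_eq_true_eq] at hy
          subst hy
          exact ⟨hs, 1, one_mem _, rfl⟩) x hm
      refine ⟨g⁻¹, inv_mem hg, ?_⟩
      rw [Equiv.Perm.inv_def, show g.symm x = ⟨_, hs⟩ from (Equiv.symm_apply_eq g).mpr e.symm]
    intro x y hxy
    obtain ⟨a, ha, ea⟩ := key x
    obtain ⟨b, hb, eb⟩ := key y
    have : (b⁻¹ * a) ∈ K := mul_mem (inv_mem hb) ha
    refine ⟨b⁻¹ * a, this.1, this.2, ?_⟩
    rw [Equiv.Perm.mul_apply, Equiv.Perm.inv_def, Equiv.symm_apply_eq]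
    exact Fin.ext (by rw [ea, eb, hxy])
  · intro k hk
    have e := congrArg (fun l => l.getD k 0) hsz
    rw [List.getD_eq_getElem _ _ (by simpa using hk), List.getElem_map, List.getElem_range] at e
    rw [← e, ← Set.ncard_image_of_injective _ Fin.val_injective]
    have : (Fin.val '' {x : Fin 315 | colAt 0 x = k}) =
        ↑(((List.range 315).filter fun x => colAt 0 x == k).toFinset) := by
      ext y
      simp only [Set.mem_image, Set.mem_setOf_eq, List.coe_toFinset, List.mem_filter, List.mem_range,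
        beq_iff_eq]
      exact ⟨fun ⟨x, hx, e⟩ => e ▸ ⟨x.isLt, hx⟩, fun ⟨h, h'⟩ => ⟨⟨y, h⟩, h', rfl⟩⟩
    rw [this, Set.ncard_coe_finset, List.toFinset_card_of_nodup (List.nodup_range.filter _)]

/-- Normalising permutations keep or exchange the colours. -/
theorem keeps_or_swaps {π : Equiv.Perm (Fin 315)} (hπ : ∀ x ∈ J, π * x * π⁻¹ ∈ J)
    (hπ' : ∀ x ∈ J, π⁻¹ * x * π ∈ J) :
    KeepsCol π ∨ ∀ a b : Fin 315, colAt (π a) (π b) = swapCol (colAt a b) := by
  obtain ⟨hlt, horb, hsz⟩ := suborbit_facts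
  obtain ⟨t, ht⟩ := lineAct_transitive (π 0) 0
  set ρ : Equiv.Perm (Fin 315) := lineAct t * π with hρ
  have htJ : lineAct t ∈ J := ⟨t, rfl⟩
  have hρ0 : ρ 0 = 0 := by rw [hρ, Equiv.Perm.mul_apply, ht]
  have hρn : ∀ x ∈ J, ρ * x * ρ⁻¹ ∈ J := fun x hx => by
    rw [hρ, show lineAct t * π * x * (lineAct t * π)⁻¹ = lineAct t * (π * x * π⁻¹) * (lineAct t)⁻¹ by
      group]
    exact mul_mem (mul_mem htJ (hπ x hx)) (inv_mem htJ)
  have hρn' : ∀ x ∈ J, ρ⁻¹ * x * ρ ∈ J := fun x hx => by
    rw [hρ, show (lineAct t * π)⁻¹ * x * (lineAct t * π) = π⁻¹ * ((lineAct t)⁻¹ * x * lineAct t) * π by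
      group]
    exact hπ' _ (mul_mem (mul_mem (inv_mem htJ) hx) htJ)
  have hcls : ∀ x y : Fin 315, colAt 0 x = colAt 0 y ↔ colAt 0 (ρ x) = colAt 0 (ρ y) := by
    intro x y
    constructor
    · intro h
      obtain ⟨g, hg, g0, gx⟩ := horb x y h
      have := colAt_invariant (hρn g hg) 0 (ρ x)
      have e0 : (ρ * g * ρ⁻¹) 0 = 0 := by
        have : ρ⁻¹ 0 = 0 := by rw [Equiv.Perm.inv_def, Equiv.symm_apply_eq, hρ0]
        rw [Equiv.Perm.mul_apply, Equiv.Perm.mul_apply, this, g0, hρ0]
      have ex : (ρ * g * ρ⁻¹) (ρ x) = ρ y := by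
        rw [Equiv.Perm.mul_apply, Equiv.Perm.mul_apply, Equiv.Perm.inv_def, Equiv.symm_apply_apply, gx]
      rw [e0, ex] at this
      exact this.symm
    · intro h
      obtain ⟨g, hg, g0, gx⟩ := horb _ _ h
      have := colAt_invariant (hρn' g hg) 0 x
      have e0 : (ρ⁻¹ * g * ρ) 0 = 0 := by
        rw [Equiv.Perm.mul_apply, Equiv.Perm.mul_apply, hρ0, g0, Equiv.Perm.inv_def,
          Equiv.symm_apply_eq, hρ0]
      have ex : (ρ⁻¹ * g * ρ) x = y := by
        rw [Equiv.Perm.mul_apply, Equiv.Perm.mul_apply, gx, Equiv.Perm.inv_def, Equiv.symm_apply_apply]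
      rw [e0, ex] at this
      exact this.symm
  have hsize : ∀ x : Fin 315, [10, 160, 32, 32, 80, 1].getD (colAt 0 (ρ x)) 0 =
      [10, 160, 32, 32, 80, 1].getD (colAt 0 x) 0 := by
    intro x
    rw [← hsz _ (hlt _), ← hsz _ (hlt _)]
    have : {y : Fin 315 | colAt 0 y = colAt 0 (ρ x)} = ρ '' {y | colAt 0 y = colAt 0 x} := by
      ext y
      obtain ⟨z, rfl⟩ := ρ.surjective y
      simp only [Set.mem_setOf_eq, ρ.injective.mem_set_image]
      exact (hcls z x).symm
    rw [this, Set.ncard_image_of_injective _ ρ.injective]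
  have hcases : ∀ x : Fin 315, colAt 0 (ρ x) = colAt 0 x ∨
      (colAt 0 (ρ x) = swapCol (colAt 0 x) ∧ (colAt 0 x = 2 ∨ colAt 0 x = 3)) := by
    intro x
    have h := hsize x
    have a := hlt x
    have b := hlt (ρ x)
    generalize colAt 0 (ρ x) = u at *
    generalize colAt 0 x = v at *
    interval_cases u <;> interval_cases v <;> first
      | exact Or.inl rfl
      | exact Or.inr ⟨rfl, Or.inl rfl⟩
      | exact Or.inr ⟨rfl, Or.inr rfl⟩
      | exact absurd h (by decide)
  have hσ : (∀ x, colAt 0 (ρ x) = colAt 0 x) ∨ ∀ x, colAt 0 (ρ x) = swapCol (colAt 0 x) := by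
    by_cases hall : ∀ x, colAt 0 (ρ x) = colAt 0 x
    · exact Or.inl hall
    push Not at hall
    obtain ⟨x0, hx0⟩ := hall
    obtain ⟨s0, v0⟩ := (hcases x0).resolve_left hx0
    refine Or.inr fun x => ?_
    rcases hcases x with h | ⟨h, -⟩
    · by_cases h2 : colAt 0 x = 2 ∨ colAt 0 x = 3
      · exfalso
        rcases v0 with v0 | v0 <;> rcases h2 with h2 | h2 <;> rw [v0] at s0 <;> simp only [swapCol] at s0
        · exact hx0 ((((hcls x x0).mp (h2.trans v0.symm)).symm.trans h).trans (h2.trans v0.symm))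
        · have := (hcls x x0).mpr (by rw [h, h2, s0])
          omega
        · have := (hcls x x0).mpr (by rw [h, h2, s0])
          omega
        · exact hx0 ((((hcls x x0).mp (h2.trans v0.symm)).symm.trans h).trans (h2.trans v0.symm))
      · rw [h]
        have := hlt x
        generalize colAt 0 x = v at *
        interval_cases v <;> first
          | rfl
          | exact absurd (Or.inl rfl) h2
          | exact absurd (Or.inr rfl) h2
    · exact h
  have lift : ∀ (s : ℕ → ℕ), (∀ x, colAt 0 (ρ x) = s (colAt 0 x)) →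
      ∀ a b : Fin 315, colAt (π a) (π b) = s (colAt a b) := by
    intro s hs a b
    obtain ⟨g, hg⟩ := lineAct_transitive 0 a
    have hgJ : lineAct g ∈ J := ⟨g, rfl⟩
    set b' := (lineAct g)⁻¹ b
    have eb : lineAct g b' = b := by simp [b']
    rw [← hg, ← eb, colAt_invariant hgJ]
    have key : ∀ z, π (lineAct g z) = (π * lineAct g * π⁻¹) (π z) := fun z => by simp
    have hpz : ∀ z, π z = (lineAct t)⁻¹ (ρ z) := fun z => by simp [hρ]
    rw [key, key, colAt_invariant (hπ _ hgJ), hpz, hpz, colAt_invariant (inv_mem htJ), hρ0]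
    exact hs b'
  rcases hσ with h | h
  · exact Or.inl (lift (fun k => k) h)
  · exact Or.inr (lift swapCol h)

theorem inner_of_keeps {φ : MulAut J} {π : Equiv.Perm (Fin 315)}
    (hφ : ∀ x : J, ((φ x : J) : Equiv.Perm (Fin 315)) = π * x * π⁻¹) (hk : KeepsCol π) :
    φ ∈ Cfsg.Inn J :=
  ⟨⟨π, hk.mem⟩, MulEquiv.ext fun x => Subtype.ext (hφ x).symm⟩

theorem outFun_lt (x : Fin 315) : dig9 outPerm x < 315 := by
  have h := outInvOK_true
  simp only [outInvOK, Bool.and_eq_true, List.all_eq_true, decide_eq_true_eq, List.mem_map,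
    List.mem_range] at h
  exact h.1 _ ⟨x, x.isLt, rfl⟩

theorem outFun_bijective :
    Function.Bijective fun x : Fin 315 => (⟨dig9 outPerm x, outFun_lt x⟩ : Fin 315) := by
  have h := outInvOK_true
  simp only [outInvOK, Bool.and_eq_true] at h
  have hd : ((List.range 315).map (dig9 outPerm)).Nodup := by
    suffices ∀ l, natsDistinct l = true → l.Nodup from this _ h.2
    intro l
    induction l with
    | nil => simp
    | cons x xs ih =>
      intro h
      simp only [natsDistinct, Bool.and_eq_true, List.all_eq_true] at h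
      refine List.nodup_cons.mpr ⟨fun hm => ?_, ih h.2⟩
      simpa using h.1 x hm
  refine Finite.injective_iff_bijective.mp fun a b hab => Fin.ext ?_
  exact List.inj_on_of_nodup_map hd (List.mem_range.mpr a.isLt) (List.mem_range.mpr b.isLt)
    (congrArg Fin.val hab)

theorem colAt_zero_zero : colAt 0 0 = 5 := by decide +kernel

theorem eq_one_of_centralizes {d : Equiv.Perm (Fin 315)} (hd : ∀ x ∈ J, d * x = x * d) : d = 1 := by
  obtain ⟨hlt, horb, hsz⟩ := suborbit_facts
  have hfix : ∀ x ∈ J, ∀ k, d (x k) = x (d k) := fun x hx k => by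
    rw [← Equiv.Perm.mul_apply, hd x hx, Equiv.Perm.mul_apply]
  have h0 : d 0 = 0 := by
    have hone : {y : Fin 315 | colAt 0 y = colAt 0 (d 0)} = {d 0} := by
      refine Set.eq_singleton_iff_unique_mem.mpr ⟨rfl, fun y hy => ?_⟩
      obtain ⟨h, hh, h0, hy'⟩ := horb (d 0) y hy.symm
      rw [← hy', ← hfix h hh, h0]
    have h1 := hsz _ (hlt (d 0))
    rw [hone, Set.ncard_singleton] at h1
    have h5 : colAt 0 (d 0) = 5 := by
      have := hlt (d 0)
      generalize colAt 0 (d 0) = k at *
      interval_cases k <;> first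
        | rfl
        | exact absurd h1 (by decide)
    have h2 := hsz 5 (by norm_num)
    obtain ⟨z, hz⟩ := Set.ncard_eq_one.mp (by rw [h2]; rfl :
      {x : Fin 315 | colAt 0 x = 5}.ncard = 1)
    have a : d 0 = z := Set.mem_singleton_iff.mp (hz ▸ (show d 0 ∈ {x : Fin 315 | colAt 0 x = 5} from h5))
    have b : (0 : Fin 315) = z := Set.mem_singleton_iff.mp
      (hz ▸ (show (0 : Fin 315) ∈ {x : Fin 315 | colAt 0 x = 5} from colAt_zero_zero))
    rw [a, b]
  refine Equiv.ext fun k => ?_
  obtain ⟨g, e⟩ := lineAct_transitive 0 k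
  rw [← e, hfix _ ⟨g, rfl⟩, h0]
  rfl

/-- An outer permutation. -/
noncomputable def outπ : Equiv.Perm (Fin 315) := Equiv.ofBijective _ outFun_bijective

theorem outπ_apply (x : Fin 315) : ((outπ x : Fin 315) : ℕ) = dig9 outPerm x := rfl

theorem outπ_norm : ∀ x ∈ J, outπ * x * outπ⁻¹ ∈ J := by
  have h := outOK_true
  simp only [outOK, Bool.and_eq_true, List.all_eq_true, List.mem_range, decide_eq_true_eq] at h
  have hg : ∀ i < 4, outπ * lineAct (genE i) * outπ⁻¹ ∈ J := by
    intro i hi
    obtain ⟨hw, hx⟩ := h.1.1 i hi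
    refine ⟨wordE (outWords.getD i []), ?_⟩
    rw [eq_mul_inv_iff_mul_eq]
    refine Equiv.ext fun x => Fin.ext ?_
    rw [Equiv.Perm.mul_apply, wordE_apply hw, outπ_apply, Equiv.Perm.mul_apply, outπ_apply,
      genE_apply hi]
    exact (Nat.eq_of_beq_eq_true (hx x x.isLt)).symm
  let N : Subgroup Cfsg.Spor.twoJ2 :=
    { carrier := {g | outπ * lineAct g * outπ⁻¹ ∈ J}
      one_mem' := by simp [one_mem]
      mul_mem' := fun {a b} ha hb => by
        have ha' : outπ * lineAct a * outπ⁻¹ ∈ J := ha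
        have hb' : outπ * lineAct b * outπ⁻¹ ∈ J := hb
        have := mul_mem ha' hb'
        change outπ * lineAct (a * b) * outπ⁻¹ ∈ J
        rw [map_mul]
        rwa [show outπ * (lineAct a * lineAct b) * outπ⁻¹ =
          outπ * lineAct a * outπ⁻¹ * (outπ * lineAct b * outπ⁻¹) by group]
      inv_mem' := fun {a} ha => by
        have ha' : outπ * lineAct a * outπ⁻¹ ∈ J := ha
        have := inv_mem ha'
        change outπ * lineAct a⁻¹ * outπ⁻¹ ∈ J
        rw [map_inv]
        rwa [show outπ * (lineAct a)⁻¹ * outπ⁻¹ = (outπ * lineAct a * outπ⁻¹)⁻¹ by group] }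
  have hN : genH ≤ N := by
    rw [genH, Subgroup.closure_le]
    rintro _ ⟨i, hi, rfl⟩
    exact hg i hi
  rintro x ⟨g, rfl⟩
  exact hN (genH_eq_top ▸ Subgroup.mem_top g)

/-- The automorphism of the outer permutation. -/
noncomputable def outAut : MulAut J :=
  MulEquiv.ofBijective
    ({ toFun := fun x => (⟨outπ * x * outπ⁻¹, outπ_norm x x.2⟩ : J)
       map_one' := Subtype.ext (by simp)
       map_mul' := fun x y => Subtype.ext (by simp only [Subgroup.coe_mul]; group) } : J →* J)
    (Finite.injective_iff_bijective.mp fun x y h => Subtype.ext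
      (mul_left_cancel (mul_right_cancel (congrArg Subtype.val h))))

theorem outAut_apply (y : J) :
    ((outAut y : J) : Equiv.Perm (Fin 315)) = outπ * y * outπ⁻¹ := rfl

theorem outπ_swaps : ∀ a b : Fin 315, colAt (outπ a) (outπ b) = swapCol (colAt a b) := by
  have hn' : ∀ x ∈ J, outπ⁻¹ * x * outπ ∈ J := by
    intro x hx
    obtain ⟨y, e⟩ := outAut.surjective ⟨x, hx⟩
    have e' : outπ * (y : Equiv.Perm (Fin 315)) * outπ⁻¹ = x := by rw [← outAut_apply, e]
    rw [← e', show outπ⁻¹ * (outπ * (y : Equiv.Perm (Fin 315)) * outπ⁻¹) * outπ = y by group]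
    exact y.2
  refine (keeps_or_swaps outπ_norm hn').resolve_left fun hk => ?_
  have h := outOK_true
  simp only [outOK, Bool.and_eq_true, beq_iff_eq, bne_iff_ne] at h
  have hs := suborbitsOK_true
  simp only [suborbitsOK, Bool.and_eq_true, List.all_eq_true, List.mem_range, decide_eq_true_eq] at hs
  have hs2 : subStart.getD 2 0 < 315 := (hs.1.2 2 (by norm_num)).1.1
  have e := hk 0 ⟨_, hs2⟩
  rw [show ((outπ 0 : Fin 315) : ℕ) = 0 from h.1.2, outπ_apply] at e
  exact h.2 e.symm

theorem card_out_J : Nat.card (Cfsg.Out J) = 2 := by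
  refine Nat.card_eq_two_iff.mpr ⟨1, QuotientGroup.mk outAut, fun h => ?_, ?_⟩
  · obtain ⟨c, hc⟩ := (QuotientGroup.eq_one_iff outAut).mp h.symm
    have hk : KeepsCol outπ := by
      intro a b
      have key : ∀ k, outπ k = (c : Equiv.Perm (Fin 315)) k := by
        have hd : (c : Equiv.Perm (Fin 315))⁻¹ * outπ = 1 := by
          refine eq_one_of_centralizes fun x hx => ?_
          have e : (c : Equiv.Perm (Fin 315)) * x * (c : Equiv.Perm (Fin 315))⁻¹ = outπ * x * outπ⁻¹ :=
            (congrArg Subtype.val (DFunLike.congr_fun hc (⟨x, hx⟩ : J))).trans (outAut_apply _)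
          calc (c : Equiv.Perm (Fin 315))⁻¹ * outπ * x
              = (c : Equiv.Perm (Fin 315))⁻¹ * (outπ * x * outπ⁻¹) * outπ := by group
            _ = x * ((c : Equiv.Perm (Fin 315))⁻¹ * outπ) := by rw [← e]; group
        intro k
        rw [inv_mul_eq_one.mp hd]
      rw [key, key, colAt_invariant c.2]
    obtain ⟨-, -, hsz⟩ := suborbit_facts
    have h2 : ({x : Fin 315 | colAt 0 x = 2}).Nonempty :=
      Set.nonempty_of_ncard_ne_zero (by rw [hsz 2 (by norm_num)]; norm_num)
    obtain ⟨x, hx⟩ := h2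
    have := hk (0 : Fin 315) x
    rw [outπ_swaps] at this
    change colAt 0 x = 2 at hx
    change swapCol (colAt 0 x) = colAt 0 x at this
    rw [hx] at this
    simp [swapCol] at this
  · refine Set.eq_univ_iff_forall.mpr fun q => ?_
    obtain ⟨φ, rfl⟩ := QuotientGroup.mk_surjective q
    obtain ⟨π, hπ⟩ := exists_perm φ
    have hn : ∀ x ∈ J, π * x * π⁻¹ ∈ J := fun x hx => by rw [← hπ ⟨x, hx⟩]; exact (φ ⟨x, hx⟩).2
    have hn' : ∀ x ∈ J, π⁻¹ * x * π ∈ J := fun x hx => by
      obtain ⟨y, e⟩ := φ.surjective ⟨x, hx⟩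
      have e' := hπ y
      rw [e] at e'
      rw [show x = π * (y : Equiv.Perm (Fin 315)) * π⁻¹ from e',
        show π⁻¹ * (π * (y : Equiv.Perm (Fin 315)) * π⁻¹) * π = y by group]
      exact y.2
    rcases keeps_or_swaps hn hn' with hk | hs
    · exact Or.inl ((QuotientGroup.eq_one_iff φ).mpr (inner_of_keeps hπ hk))
    · refine Or.inr ?_
      rw [Set.mem_singleton_iff, eq_comm, QuotientGroup.eq]
      refine inner_of_keeps (π := outπ⁻¹ * π) (fun x => ?_) (fun a b => ?_)
      · have h1 : outπ * (((outAut⁻¹ * φ) x : J) : Equiv.Perm (Fin 315)) * outπ⁻¹ =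
            ((outAut ((outAut⁻¹ * φ) x) : J) : Equiv.Perm (Fin 315)) := (outAut_apply _).symm
        have h2 : outAut ((outAut⁻¹ * φ) x) = φ x := outAut.apply_symm_apply _
        rw [h2, hπ] at h1
        calc (((outAut⁻¹ * φ) x : J) : Equiv.Perm (Fin 315))
            = outπ⁻¹ * (outπ * (((outAut⁻¹ * φ) x : J) : Equiv.Perm (Fin 315)) * outπ⁻¹) * outπ := by
              group
          _ = outπ⁻¹ * π * x * (outπ⁻¹ * π)⁻¹ := by rw [h1]; group
      · have hsw : ∀ c d : Fin 315, colAt c d < 6 := fun c d => by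
          obtain ⟨g, e⟩ := lineAct_transitive c 0
          rw [← colAt_invariant (g := lineAct g) ⟨g, rfl⟩, e]
          exact suborbit_facts.1 _
        have := outπ_swaps ((outπ⁻¹ * π) a) ((outπ⁻¹ * π) b)
        simp only [Equiv.Perm.mul_apply, Equiv.Perm.inv_def, Equiv.apply_symm_apply] at this
        rw [hs a b] at this
        have l1 := hsw a b
        have l2 := hsw (outπ.symm (π a)) (outπ.symm (π b))
        change colAt (outπ.symm (π a)) (outπ.symm (π b)) = colAt a b
        generalize colAt (outπ.symm (π a)) (outπ.symm (π b)) = u at *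
        generalize colAt a b = v at *
        interval_cases u <;> interval_cases v <;> simp_all [swapCol]

theorem card_out : Nat.card (Cfsg.Out Cfsg.Spor.J2) = 2 := by
  rw [Nat.card_congr (CfsgLib.Extraspecial.outCongr equivJ).toEquiv, card_out_J]

end CfsgLib.J2
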