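import Cfsg.Prelude.Def_FusionComponents
import Cfsg.Agent.Lib.Fusion.SimpleModel
import Cfsg.Agent.Lib.Fusion.Simple
import Cfsg.Agent.Lib.J2.Mult
import Cfsg.Agent.Lib.J2.Out
import Cfsg.Agent.Lib.J2.FusionData

/-!
The 2-fusion system of `J2` is simple.
-/

set_option autoImplicit false
set_option linter.style.haveILetI false

namespace CfsgLib.J2.Fus

open Cfsg.Spor CfsgLib.J2.Mult CfsgLib.Schur.InvTable

/-- a word in the involutions as a word in the reflections -/
def expand (d : List ℕ) : List ℕ := (d.map fun j => sylGens.getD j []).flatten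

/-- the word of an element of the Sylow subgroup -/
def wS (t : ℕ) : List ℕ := sylW.getD t []

/-- the index of the element of a word -/
def idxOf (d : List ℕ) : ℕ := d.foldr (fun j s => sylTab.tab j s) 0

/-- short words -/
def smallW (d : List ℕ) : Bool := d.all fun j => decide (j < 3)

theorem gS_eq {j : ℕ} (hj : j < 3) : Mult.gS j = el (sylGens.getD j []) := by
  rw [Mult.gS, min_eq_left (by omega)]

theorem prod_gS : ∀ {d : List ℕ}, smallW d = true → (d.map Mult.gS).prod = el (expand d) := by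
  intro d
  induction d with
  | nil => intro _; simp [expand, el_nil]
  | cons j d ih =>
    intro h
    simp only [smallW, List.all_cons, Bool.and_eq_true, decide_eq_true_eq] at h
    rw [List.map_cons, List.prod_cons, ih h.2, gS_eq h.1, ← el_append]
    simp [expand]

theorem syl_relations :
    (([0, 1, 2].all fun j => sameOn (expand [j, j]) []) &&
      (sylTab.words.all fun w => sameOn (expand w) []) && sylTab.words.all smallW) = true := by
  decide +kernel

theorem gS_sq (j : ℕ) : Mult.gS j * Mult.gS j = 1 := by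
  have h := syl_relations
  simp only [Bool.and_eq_true, List.all_cons, List.all_nil] at h
  obtain ⟨⟨⟨h0, h1, h2, -⟩, -⟩, -⟩ := h
  have e : min j 2 = 0 ∨ min j 2 = 1 ∨ min j 2 = 2 := by omega
  unfold Mult.gS
  rcases e with e | e | e <;> rw [e] <;> refine mul_self_eq_one ?_
  · simpa [expand] using h0
  · simpa [expand] using h1
  · simpa [expand] using h2

theorem gS_words : ∀ w ∈ sylTab.words, (w.map Mult.gS).prod = 1 := by
  intro w hw
  have h := syl_relations
  simp only [Bool.and_eq_true] at h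
  rw [prod_gS (List.all_eq_true.mp h.2 w hw), el_eq (List.all_eq_true.mp h.1.2 w hw), el_nil]

/-- a Sylow 2-subgroup -/
noncomputable def S₀ : Subgroup J := Subgroup.closure {e | ∃ j, j < sylTab.k ∧ e = Mult.gS j}

theorem gS_mem {j : ℕ} (hj : j < 3) : Mult.gS j ∈ S₀ := Subgroup.subset_closure ⟨j, hj, rfl⟩

theorem phi_idx : ∀ {d : List ℕ}, smallW d = true →
    (d.map Mult.gS).prod = sylTab.phi Mult.gS (idxOf d) ∧ idxOf d < 128 := by
  intro d
  induction d with
  | nil => intro _; exact ⟨by simp [idxOf, Tab.phi_zero], by decide⟩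
  | cons j d ih =>
    intro h
    simp only [smallW, List.all_cons, Bool.and_eq_true, decide_eq_true_eq] at h
    obtain ⟨e, hlt⟩ := ih h.2
    obtain ⟨e', hlt'⟩ := Tab.mul_phi sylTab_ok (fun j _ => gS_sq j) gS_words (j := j) h.1 (i := idxOf d) hlt
    exact ⟨by rw [List.map_cons, List.prod_cons, e, e']; rfl, hlt'⟩

/-- the word has that index -/
def wordsIdxOK : Bool := (List.range 128).all fun t => smallW (wS t) && idxOf (wS t) == t

theorem wordsIdxOK_true : wordsIdxOK = true := by decide +kernel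

theorem phi_word {t : ℕ} (ht : t < 128) : sylTab.phi Mult.gS t = el (expand (wS t)) ∧ smallW (wS t) = true := by
  have h := List.all_eq_true.mp wordsIdxOK_true t (List.mem_range.mpr ht)
  simp only [Bool.and_eq_true, beq_iff_eq] at h
  refine ⟨?_, h.1⟩
  rw [← prod_gS h.1, (phi_idx h.1).1, h.2]

theorem mem_S₀_of_word {d : List ℕ} (hd : smallW d = true) : el (expand d) ∈ S₀ := by
  rw [← prod_gS hd]
  exact Subgroup.list_prod_mem _ fun x hx => by
    obtain ⟨j, hj, rfl⟩ := List.mem_map.mp hx
    exact gS_mem (by simpa using List.all_eq_true.mp hd j hj)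

theorem exists_word {x : J} (hx : x ∈ S₀) :
    ∃ t < 128, x = sylTab.phi Mult.gS t := by
  obtain ⟨i, hi, e⟩ := Tab.exists_eq_phi sylTab_ok (fun j _ => gS_sq j) gS_words hx
  exact ⟨i, hi, e⟩

theorem card_S₀ : Nat.card S₀ = 128 := by
  have hm : ∀ t : Fin 128, sylTab.phi Mult.gS t ∈ S₀ := fun t => by
    rw [(phi_word t.isLt).1]; exact mem_S₀_of_word (phi_word t.isLt).2
  have hb : Function.Bijective fun t : Fin 128 => (⟨sylTab.phi Mult.gS t, hm t⟩ : S₀) := by
    refine ⟨fun a b h => Fin.ext (phi_inj a b a.isLt b.isLt (congrArg Subtype.val h)), ?_⟩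
    rintro ⟨x, hx⟩
    obtain ⟨t, ht, e⟩ := exists_word hx
    exact ⟨⟨t, ht⟩, Subtype.ext e.symm⟩
  rw [← Nat.card_congr (Equiv.ofBijective _ hb), Nat.card_fin]

theorem comm_idx {a b : List ℕ} (ha : smallW a = true) (hb : smallW b = true)
    (h : el (expand a) * el (expand b) = el (expand b) * el (expand a)) :
    idxOf (a ++ b) = idxOf (b ++ a) := by
  have hab : smallW (a ++ b) = true := by simp only [smallW, List.all_append, Bool.and_eq_true] at *; exact ⟨ha, hb⟩
  have hba : smallW (b ++ a) = true := by simp only [smallW, List.all_append, Bool.and_eq_true] at *; exact ⟨hb, ha⟩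
  refine phi_inj _ _ (phi_idx hab).2 (phi_idx hba).2 ?_
  rw [← (phi_idx hab).1, ← (phi_idx hba).1, List.map_append, List.map_append, List.prod_append,
    List.prod_append, prod_gS ha, prod_gS hb, h]

/-- generators of the largest normal 2-subgroup of the centraliser of an involution -/
def qGens : List ℕ := [2, 10, 21, 27]

/-- the centraliser of the four generators in the Sylow subgroup, and the centre -/
def centOK : Bool :=
  (List.range 128).all (fun t =>
    (qGens.any fun q => !(idxOf (wS t ++ wS q) == idxOf (wS q ++ wS t))) || t == 0 || t == 125) &&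
  (List.range 128).all (fun t =>
    ([0, 1, 2].any fun j => !(idxOf (wS t ++ [j]) == idxOf ([j] ++ wS t))) || t == 0 || t == 125)

theorem centOK_true : centOK = true := by decide +kernel

/-- the central involution -/
noncomputable def zE : J := el (expand (wS 125))

/-- the elements of four generators -/
noncomputable def qE (i : Fin 4) : J := el (expand (wS (qGens.getD i 0)))

/-- the largest normal 2-subgroup of the centraliser -/
noncomputable def Q₀ : Subgroup J := Subgroup.closure (Set.range qE)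

theorem qE_mem (i : Fin 4) : qE i ∈ S₀ :=
  mem_S₀_of_word (phi_word (by fin_cases i <;> decide)).2

theorem Q₀_le : Q₀ ≤ S₀ := (Subgroup.closure_le _).mpr (by rintro _ ⟨i, rfl⟩; exact qE_mem i)

/-- the word of a product of generators -/
def qWord (d : List ℕ) : List ℕ := (d.map fun i => wS (qGens.getD i 0)).flatten

theorem mem_Q₀ : ∀ {d : List ℕ}, d.all (fun i => decide (i < 4)) = true →
    el (expand (qWord d)) ∈ Q₀ := by
  intro d
  induction d with
  | nil => intro _; simp [qWord, expand, el_nil]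
  | cons i d ih =>
    intro h
    simp only [List.all_cons, Bool.and_eq_true, decide_eq_true_eq] at h
    have e : expand (qWord (i :: d)) = expand (wS (qGens.getD i 0)) ++ expand (qWord d) := by
      simp [qWord, expand]
    rw [e, el_append]
    exact mul_mem (Subgroup.subset_closure ⟨⟨i, h.1⟩, rfl⟩) (ih h.2)

theorem z_mem_Q₀ : zE ∈ Q₀ := by
  have h : sameOn (expand (wS 125)) (expand (qWord [1, 0, 1, 0])) = true := by decide +kernel
  rw [zE, el_eq h]
  exact mem_Q₀ (by decide)

theorem center_cases {x : J} (hx : x ∈ S₀) (hc : ∀ j < 3, x * Mult.gS j = Mult.gS j * x) :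
    x = 1 ∨ x = zE := by
  obtain ⟨t, ht, rfl⟩ := exists_word hx
  have h := centOK_true
  simp only [centOK, Bool.and_eq_true] at h
  have h2 := List.all_eq_true.mp h.2 t (List.mem_range.mpr ht)
  simp only [Bool.or_eq_true, List.any_eq_true, Bool.not_eq_true', beq_eq_false_iff_ne, beq_iff_eq] at h2
  obtain ⟨e, hs⟩ := phi_word ht
  rcases h2 with (⟨j, hj, hne⟩ | rfl) | rfl
  · have hj3 : j < 3 := by simp at hj; omega
    refine absurd (comm_idx hs (by simp [smallW, hj3]) ?_) hne
    have := hc j hj3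
    rw [e, gS_eq hj3] at this
    simpa [expand] using this
  · exact Or.inl (Tab.phi_zero _ _)
  · exact Or.inr e

theorem cent_Q₀ {x : J} (hx : x ∈ S₀) (hc : ∀ i, x * qE i = qE i * x) : x ∈ Q₀ := by
  obtain ⟨t, ht, rfl⟩ := exists_word hx
  have h := centOK_true
  simp only [centOK, Bool.and_eq_true] at h
  have h2 := List.all_eq_true.mp h.1 t (List.mem_range.mpr ht)
  simp only [Bool.or_eq_true, List.any_eq_true, Bool.not_eq_true', beq_eq_false_iff_ne, beq_iff_eq] at h2
  obtain ⟨e, hs⟩ := phi_word ht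
  rcases h2 with (⟨q, hq, hne⟩ | rfl) | rfl
  · obtain ⟨i, hi, rfl⟩ := List.mem_iff_getElem.mp hq
    refine absurd (comm_idx hs (phi_word (t := qGens[i]) ?_).2 ?_) hne
    · simp [qGens] at hi ⊢; interval_cases i <;> simp
    · have := hc ⟨i, by simpa [qGens] using hi⟩
      rw [e, qE, List.getD_eq_getElem _ _ hi] at this
      exact this
  · rw [Tab.phi_zero]; exact one_mem _
  · rw [e]; exact z_mem_Q₀

/-- an involution of the centraliser -/
def tW : List ℕ := [1, 3, 2, 3, 2, 1, 0, 2, 0, 3, 0]
/-- another one, the product having order three -/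
def uW : List ℕ := [3, 0, 1, 0, 2, 3, 1, 0, 3, 2, 1]
/-- conjugates of the generators of `Q₀` -/
def tn : List (List ℕ) := [[0], [3], [2, 3, 1, 0], [1]]
/-- conjugates of the generators of `Q₀` -/
def un : List (List ℕ) := [[2], [3], [0], [1]]
/-- conjugates of the generators of `Q₀` under those of the Sylow subgroup -/
def sn : List (List (List ℕ)) :=
  [[[0], [0, 1, 0], [0, 2, 0], [0, 3, 0]], [[2], [3, 2, 1, 0], [0], [3]], [[1], [0], [2, 3, 1, 0], [3]]]

/-- the normalising checks -/
def normOK : Bool :=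
  ((List.range 4).all fun i =>
    let q := expand (wS (qGens.getD i 0))
    (tn.getD i []).all (fun k => decide (k < 4)) && (un.getD i []).all (fun k => decide (k < 4)) &&
    sameOn (tW ++ q ++ tW.reverse) (expand (qWord (tn.getD i []))) &&
    sameOn (uW ++ q ++ uW.reverse) (expand (qWord (un.getD i []))) &&
    (List.range 3).all fun j =>
      ((sn.getD j []).getD i []).all (fun k => decide (k < 4)) &&
      sameOn (sylGens.getD j [] ++ q ++ (sylGens.getD j []).reverse)
        (expand (qWord ((sn.getD j []).getD i [])))) &&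
  sameOn (tW ++ tW) [] && sameOn (uW ++ uW) [] &&
  ((List.range 3).all fun j =>
    let t := [54, 80, 118].getD j 0
    sameOn ((tW ++ uW) ++ sylGens.getD j [] ++ (tW ++ uW).reverse) (expand (wS t))) &&
  sameOn ((tW ++ uW) ++ (tW ++ uW) ++ (tW ++ uW)) [] && diffOn (tW ++ uW) [] &&
  sameOn (tW ++ expand (wS 125) ++ tW.reverse) (expand (wS 125)) &&
  sameOn (uW ++ expand (wS 125) ++ uW.reverse) (expand (wS 125)) &&
  sameOn ([3, 2, 1, 0] ++ expand (wS 125) ++ [3, 2, 1, 0].reverse) [0]

theorem normOK_true : normOK = true := by decide +kernel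

/-- `t s₁ t` is outside the Sylow subgroup -/
def outOfS : Bool :=
  (tW ++ sylGens.getD 1 [] ++ tW.reverse).all (fun i => decide (i < 4)) &&
  !(sylPts.contains ((List.range 5).map fun i =>
    wordAp (tW ++ sylGens.getD 1 [] ++ tW.reverse) (basePts.getD i 0)))

theorem outOfS_true : outOfS = true := by decide +kernel

theorem t_not_norm : el tW * Mult.gS 1 * (el tW)⁻¹ ∉ S₀ := by
  intro hm
  obtain ⟨t, ht, e⟩ := exists_word hm
  rw [gS_eq (by norm_num), el_inv, ← el_append, ← el_append] at e
  have h := outOfS_true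
  simp only [outOfS, Bool.and_eq_true, Bool.not_eq_true', List.all_eq_true, decide_eq_true_eq] at h
  obtain ⟨hw, hn⟩ := h
  have hp := ptsOK_true
  simp only [ptsOK, Bool.and_eq_true, List.all_eq_true, decide_eq_true_eq] at hp
  obtain ⟨⟨⟨⟨⟨⟨-, hlen⟩, -⟩, -⟩, -⟩, h5⟩, -⟩ := hp
  have ht' : t < sylPts.length := by rw [hlen]; exact ht
  rw [List.contains_eq_mem, decide_eq_false_iff_not] at hn
  refine hn ?_
  convert List.getElem_mem ht' using 1
  refine List.ext_getElem (by simp [h5 _ (List.getElem_mem ht')]) fun i h1 h2 => ?_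
  have hi : i < 5 := by simpa using h1
  have e1 := el_base hw i
  rw [e, phi_base t ht i hi, List.getD_eq_getElem _ _ ht', List.getD_eq_getElem _ _ h2] at e1
  simp [e1]

theorem g_norm : el (tW ++ uW) ∈ Subgroup.normalizer (S₀ : Set J) := by
  have h := normOK_true
  simp only [normOK, Bool.and_eq_true] at h
  have hg := h.1.1.1.1.1.2
  refine Subgroup.mem_normalizer_fintype fun x hx => ?_
  induction hx using Subgroup.closure_induction with
  | mem x hx =>
    obtain ⟨j, hj, rfl⟩ := hx
    change j < 3 at hj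
    have hc := List.all_eq_true.mp hg j (List.mem_range.mpr hj)
    rw [gS_eq hj, conj_eq_of hc]
    refine mem_S₀_of_word (phi_word ?_).2
    interval_cases j <;> decide
  | one => simp [one_mem]
  | mul x y _ _ hx hy =>
    have := mul_mem hx hy
    rwa [show el (tW ++ uW) * x * (el (tW ++ uW))⁻¹ * (el (tW ++ uW) * y * (el (tW ++ uW))⁻¹) =
      el (tW ++ uW) * (x * y) * (el (tW ++ uW))⁻¹ by group] at this
  | inv x _ hx =>
    have := inv_mem hx
    rwa [show (el (tW ++ uW) * x * (el (tW ++ uW))⁻¹)⁻¹ =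
      el (tW ++ uW) * x⁻¹ * (el (tW ++ uW))⁻¹ by group] at this

theorem normalizes_Q₀ {a : List ℕ} (h : ∀ i < 4, ∃ d : List ℕ, d.all (fun k => decide (k < 4)) = true ∧
    sameOn (a ++ expand (wS (qGens.getD i 0)) ++ a.reverse) (expand (qWord d)) = true) :
    el a ∈ Subgroup.normalizer (Q₀ : Set J) := by
  refine Subgroup.mem_normalizer_fintype fun x hx => ?_
  induction hx using Subgroup.closure_induction with
  | mem x hx =>
    obtain ⟨i, rfl⟩ := hx
    obtain ⟨d, hd, hs⟩ := h i i.isLt
    rw [qE, conj_eq_of hs]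
    exact mem_Q₀ hd
  | one => simp [one_mem]
  | mul x y _ _ hx hy =>
    have := mul_mem hx hy
    rwa [show el a * x * (el a)⁻¹ * (el a * y * (el a)⁻¹) = el a * (x * y) * (el a)⁻¹ by group] at this
  | inv x _ hx =>
    have := inv_mem hx
    rwa [show (el a * x * (el a)⁻¹)⁻¹ = el a * x⁻¹ * (el a)⁻¹ by group] at this

theorem norm_Q₀ : el tW ∈ Subgroup.normalizer (Q₀ : Set J) ∧ el uW ∈ Subgroup.normalizer (Q₀ : Set J) ∧
    S₀ ≤ Subgroup.normalizer (Q₀ : Set J) := by
  have h := normOK_true
  simp only [normOK, Bool.and_eq_true] at h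
  have hq := h.1.1.1.1.1.1.1.1
  refine ⟨normalizes_Q₀ fun i hi => ?_, normalizes_Q₀ fun i hi => ?_, (Subgroup.closure_le _).mpr ?_⟩
  · have hc := List.all_eq_true.mp hq i (List.mem_range.mpr hi)
    simp only [Bool.and_eq_true] at hc
    exact ⟨_, hc.1.1.1.1, hc.1.1.2⟩
  · have hc := List.all_eq_true.mp hq i (List.mem_range.mpr hi)
    simp only [Bool.and_eq_true] at hc
    exact ⟨_, hc.1.1.1.2, hc.1.2⟩
  · rintro _ ⟨j, hj, rfl⟩
    change j < 3 at hj
    rw [gS_eq hj]
    refine normalizes_Q₀ fun i hi => ?_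
    have hc := List.all_eq_true.mp hq i (List.mem_range.mpr hi)
    simp only [Bool.and_eq_true] at hc
    have := List.all_eq_true.mp hc.2 j (List.mem_range.mpr hj)
    simp only [Bool.and_eq_true] at this
    exact ⟨_, this.1, this.2⟩

theorem centralizer_refl_eq (k : Fin 315) :
    Subgroup.centralizer {lineRefl k} = (MulAction.stabilizer (Equiv.Perm (Fin 315)) k).subgroupOf J := by
  ext x
  rw [Subgroup.mem_centralizer_singleton_iff, Subgroup.mem_subgroupOf, MulAction.mem_stabilizer_iff,
    Equiv.Perm.smul_def, ← mul_inv_eq_iff_eq_mul, J_conj_lineRefl]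
  exact ⟨fun h => lineRefl_injective h, fun h => by rw [h]⟩

theorem card_centralizer_refl (k : Fin 315) :
    Nat.card (Subgroup.centralizer ({lineRefl k} : Set J)) = 1920 := by
  haveI : MulAction.IsPretransitive J (Fin 315) := ⟨fun a b => by
    obtain ⟨g, e⟩ := lineAct_transitive a b
    exact ⟨⟨lineAct g, g, rfl⟩, e⟩⟩
  have h1 : Subgroup.centralizer ({lineRefl k} : Set J) = MulAction.stabilizer J k := by
    rw [centralizer_refl_eq]; rfl
  rw [h1]
  have h2 := (MulAction.stabilizer J k).card_mul_index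
  rw [MulAction.index_stabilizer_of_transitive, Nat.card_fin, card_J] at h2
  omega

theorem card_centralizer_z : Nat.card (Subgroup.centralizer ({zE} : Set J)) = 1920 := by
  have h := normOK_true
  simp only [normOK, Bool.and_eq_true] at h
  have e : el [3, 2, 1, 0] * zE * (el [3, 2, 1, 0])⁻¹ = lineRefl 0 := by
    rw [zE, conj_eq_of h.2]
    refine Subtype.ext ?_
    simp only [el, wordE, List.map_cons, List.map_nil, List.prod_cons, List.prod_nil, mul_one,
      genE, lineRefl]
    rw [dif_pos (by norm_num : (0 : ℕ) < 4)]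
    rfl
  rw [← card_centralizer_refl 0, ← e]
  set a := el [3, 2, 1, 0]
  refine Nat.card_congr (((MulAut.conj a).toEquiv).subtypeEquiv fun x => ?_)
  rw [Subgroup.mem_centralizer_singleton_iff, Subgroup.mem_centralizer_singleton_iff]
  change _ ↔ (a * x * a⁻¹) * (a * zE * a⁻¹) = (a * zE * a⁻¹) * (a * x * a⁻¹)
  rw [show a * x * a⁻¹ * (a * zE * a⁻¹) = a * (x * zE) * a⁻¹ by group,
    show a * zE * a⁻¹ * (a * x * a⁻¹) = a * (zE * x) * a⁻¹ by group,
    mul_left_inj, mul_right_inj]

theorem zE_central : ∀ j < 3, zE * Mult.gS j = Mult.gS j * zE := by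
  intro j hj
  have h : (List.range 3).all (fun i => sameOn (expand (wS 125) ++ sylGens.getD i [])
      (sylGens.getD i [] ++ expand (wS 125))) = true := by decide +kernel
  rw [gS_eq hj, zE]
  exact comm_of (List.all_eq_true.mp h j (List.mem_range.mpr hj))

theorem zE_mem : zE ∈ S₀ := mem_S₀_of_word (phi_word (by norm_num)).2

theorem zE_ne_one : zE ≠ 1 := by
  have h : diffOn (expand (wS 125)) [] = true := by decide +kernel
  rw [zE, ← el_nil]; exact el_ne h

theorem normalizer_le_cent : Subgroup.normalizer (S₀ : Set J) ≤ Subgroup.centralizer {zE} := by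
  intro n hn
  have hm : n * zE * n⁻¹ ∈ S₀ := (Subgroup.mem_normalizer_iff.mp hn zE).mp zE_mem
  have hc : ∀ j < 3, n * zE * n⁻¹ * Mult.gS j = Mult.gS j * (n * zE * n⁻¹) := fun j hj => by
    have hs : n⁻¹ * Mult.gS j * n ∈ S₀ := (Subgroup.mem_normalizer_iff''.mp hn _).mp (gS_mem hj)
    have hz : zE * (n⁻¹ * Mult.gS j * n) = n⁻¹ * Mult.gS j * n * zE := by
      generalize n⁻¹ * Mult.gS j * n = y at hs ⊢
      induction hs using Subgroup.closure_induction with
      | mem x hx => obtain ⟨i, hi, rfl⟩ := hx; exact zE_central i hi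
      | one => simp
      | mul x y _ _ hx hy => rw [← mul_assoc, hx, mul_assoc, hy, mul_assoc]
      | inv x _ hx => exact (Commute.inv_right (show Commute zE x from hx)).eq
    calc n * zE * n⁻¹ * Mult.gS j = n * (zE * (n⁻¹ * Mult.gS j * n)) * n⁻¹ := by group
      _ = Mult.gS j * (n * zE * n⁻¹) := by rw [hz]; group
  rcases center_cases hm hc with h | h
  · exact absurd (conj_eq_one_iff.mp h) zE_ne_one
  · rw [Subgroup.mem_centralizer_singleton_iff]
    exact mul_inv_eq_iff_eq_mul.mp h

theorem t_mem_cent : el tW ∈ Subgroup.centralizer ({zE} : Set J) := by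
  have h := normOK_true
  simp only [normOK, Bool.and_eq_true] at h
  rw [Subgroup.mem_centralizer_singleton_iff]
  exact mul_inv_eq_iff_eq_mul.mp (conj_eq_of h.1.1.2)

theorem normalizer_eq :
    Subgroup.normalizer (S₀ : Set J) ≤ S₀ ⊔ Subgroup.zpowers (el (tW ++ uW)) := by
  have h := normOK_true
  simp only [normOK, Bool.and_eq_true] at h
  set g := el (tW ++ uW)
  have hg3 : g ^ 3 = 1 := by
    rw [pow_succ, pow_two]
    rw [← el_append, ← el_append, ← el_nil]
    exact el_eq h.1.1.1.1.2
  have hg1 : g ≠ 1 := by rw [← el_nil]; exact el_ne h.1.1.1.2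
  haveI : Fact (Nat.Prime 3) := ⟨Nat.prime_three⟩
  set K := S₀ ⊔ Subgroup.zpowers g
  have hKN : K ≤ Subgroup.normalizer (S₀ : Set J) :=
    sup_le Subgroup.le_normalizer (Subgroup.zpowers_le.mpr g_norm)
  have d1 : 128 ∣ Nat.card K := card_S₀ ▸ Subgroup.card_dvd_of_le le_sup_left
  have d2 : 3 ∣ Nat.card K := by
    have := Subgroup.card_dvd_of_le (le_sup_right : Subgroup.zpowers g ≤ K)
    rwa [Nat.card_zpowers, orderOf_eq_prime hg3 hg1] at this
  have d3 := Subgroup.card_dvd_of_le hKN
  have d4 := Subgroup.card_dvd_of_le normalizer_le_cent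
  rw [card_centralizer_z] at d4
  have hne : Nat.card (Subgroup.normalizer (S₀ : Set J)) ≠ 1920 := fun e => by
    have heq := Subgroup.eq_of_le_of_card_ge normalizer_le_cent (by rw [e, card_centralizer_z])
    exact t_not_norm ((Subgroup.mem_normalizer_iff.mp (heq ▸ t_mem_cent) _).mp (gS_mem (by norm_num)))
  have d5 : 384 ∣ Nat.card K := Nat.Coprime.mul_dvd_of_dvd_of_dvd (by norm_num : Nat.Coprime 128 3) d1 d2
  refine (Subgroup.eq_of_le_of_card_ge hKN ?_).ge
  obtain ⟨a, ha⟩ := d5.trans d3
  obtain ⟨b, hb⟩ := d4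
  rw [ha] at hne hb ⊢
  have ha5 : a ∣ 5 :=
    ⟨b, Nat.eq_of_mul_eq_mul_left (by norm_num : 0 < 384) (by rw [← mul_assoc, ← hb])⟩
  rcases (Nat.dvd_prime Nat.prime_five).mp ha5 with rfl | rfl
  · exact Nat.le_of_dvd Nat.card_pos d5
  · exact absurd rfl hne

/-- conjugators for the members of a generating set of fused elements -/
def fuseOK : Bool :=
  sameOn ([2, 3, 0, 1, 2, 3] ++ expand (wS 125) ++ [2, 3, 0, 1, 2, 3].reverse) (expand (wS 112)) &&
  sameOn ([3, 1, 2, 1, 0, 1, 3, 2] ++ expand (wS 22) ++ [3, 1, 2, 1, 0, 1, 3, 2].reverse)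
    (expand (wS 5)) &&
  sameOn ([3, 2, 1, 0, 3, 1, 0, 1, 2, 0] ++ expand (wS 22) ++
    [3, 2, 1, 0, 3, 1, 0, 1, 2, 0].reverse) (expand (wS 44)) &&
  sameOn (expand [0]) (expand (wS 125) ++ expand (wS 112)) &&
  sameOn (expand (wS 22)) (expand [0] ++ (expand [2] ++ expand [0] ++ (expand [2]).reverse)) &&
  sameOn (expand [1])
    (expand (wS 112) ++ expand (wS 5) ++ expand (wS 44) ++ expand (wS 112) ++ expand (wS 5)) &&
  sameOn (expand [2]) (expand (wS 112) ++ expand (wS 44) ++ expand (wS 5) ++ expand (wS 5) ++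
    expand (wS 5) ++ expand (wS 112))

theorem fuseOK_true : fuseOK = true := by decide +kernel

theorem closed_eq (T : Subgroup J) (hTS : T ≤ S₀)
    (hT : ∀ x ∈ T, ∀ h : J, h * x * h⁻¹ ∈ S₀ → h * x * h⁻¹ ∈ T) (hz : zE ∈ T) : T = S₀ := by
  have h := fuseOK_true
  simp only [fuseOK, Bool.and_eq_true] at h
  obtain ⟨⟨⟨⟨⟨⟨c1, c2⟩, c3⟩, e0⟩, eq'⟩, e1⟩, e2⟩ := h
  have mw : ∀ t, t < 128 → el (expand (wS t)) ∈ S₀ := fun t ht => mem_S₀_of_word (phi_word ht).2
  have m112 : el (expand (wS 112)) ∈ T := by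
    have := hT _ hz (el [2, 3, 0, 1, 2, 3]) (by rw [zE, conj_eq_of c1]; exact mw _ (by norm_num))
    rwa [zE, conj_eq_of c1] at this
  have m0 : el (expand [0]) ∈ T := by rw [el_eq e0, el_append]; exact mul_mem hz m112
  have m22 : el (expand (wS 22)) ∈ T := by
    have hs : el (expand [2]) ∈ S₀ := mem_S₀_of_word (by decide)
    rw [el_eq eq', el_append]
    refine mul_mem m0 ?_
    rw [el_append, el_append, ← el_inv]
    exact hT _ m0 _ (mul_mem (mul_mem hs (hTS m0)) (inv_mem hs))
  have m5 : el (expand (wS 5)) ∈ T := by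
    have := hT _ m22 (el [3, 1, 2, 1, 0, 1, 3, 2]) (by rw [conj_eq_of c2]; exact mw _ (by norm_num))
    rwa [conj_eq_of c2] at this
  have m44 : el (expand (wS 44)) ∈ T := by
    have := hT _ m22 (el [3, 2, 1, 0, 3, 1, 0, 1, 2, 0]) (by rw [conj_eq_of c3]; exact mw _ (by norm_num))
    rwa [conj_eq_of c3] at this
  have m1 : el (expand [1]) ∈ T := by
    rw [el_eq e1]; simp only [el_append]
    exact mul_mem (mul_mem (mul_mem (mul_mem m112 m5) m44) m112) m5
  have m2 : el (expand [2]) ∈ T := by
    rw [el_eq e2]; simp only [el_append]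
    exact mul_mem (mul_mem (mul_mem (mul_mem (mul_mem m112 m44) m5) m5) m5) m112
  refine le_antisymm hTS ((Subgroup.closure_le _).mpr ?_)
  rintro _ ⟨j, hj, rfl⟩
  change j < 3 at hj
  rw [SetLike.mem_coe, gS_eq hj]
  interval_cases j
  · simpa [expand] using m0
  · simpa [expand] using m1
  · simpa [expand] using m2

end CfsgLib.J2.Fus
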