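import Cfsg.Prelude.Def_Transfer
import Cfsg.Agent.Lib.J2.Fusion
import Cfsg.Agent.Lib.Extraspecial.Setting
import Cfsg.Agent.Lib.SL2.Tri

/-!
The centraliser of a reflection in `J2`.
-/

set_option autoImplicit false
set_option linter.style.haveILetI false

open scoped commutatorElement

namespace CfsgLib.J2.Cent

open Cfsg.Spor CfsgLib.J2.Mult CfsgLib.J2.Fus CfsgLib.Schur.InvTable

/-- indices of the elements of `Q₀` -/
def qIdx : List ℕ := [0, 2, 10, 21, 22, 27, 30, 36, 42, 48, 51, 52, 53, 54, 56, 60, 67, 69, 70, 72,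
  74, 85, 87, 88, 89, 94, 98, 99, 105, 107, 112, 125]

/-- the elements as products of the generators -/
def qPr : List (List ℕ) := [[], [0], [1], [2], [0, 1], [3], [1, 0], [2, 0], [0, 2], [3, 1], [2, 3],
  [0, 3], [1, 2, 0], [2, 3, 1, 0], [0, 1, 0], [3, 0], [0, 2, 0], [3, 2, 1, 0], [2, 1, 0], [1, 3],
  [3, 2], [2, 1], [2, 3, 1], [3, 1, 0], [3, 2, 0], [2, 3, 0], [1, 2], [3, 2, 1], [0, 3, 0],
  [1, 3, 0], [1, 0, 1], [1, 0, 1, 0]]

/-- an element of order three modulo `Q₀` -/
def bW : List ℕ := [2, 1, 3, 2, 0, 1, 0]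

/-- conjugates of the generators of `Q₀` -/
def bn : List (List ℕ) := [[3], [0, 1, 0], [0, 2, 0], [2, 3, 1, 0]]

/-- the word of a product of generators, the involution and the element of order three -/
def mixW (d : List ℕ) : List ℕ :=
  (d.map fun i => if i = 4 then tW else if i = 5 then bW else expand (wS (qGens.getD i 0))).flatten

/-- the checks -/
def qOK : Bool :=
  decide (qPr.length = 32) && decide (qIdx.length = 32) && decide qIdx.Nodup &&
  qIdx.all (fun t => decide (t < 128)) &&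
  ((List.range 32).all fun k => (qPr.getD k []).all (fun i => decide (i < 4)) &&
    smallW (qWord (qPr.getD k [])) && idxOf (qWord (qPr.getD k [])) == qIdx.getD k 0) &&
  qGens.all (fun q => smallW (wS q) && idxOf (wS q ++ wS q) == 0 &&
    qIdx.all fun t => qIdx.contains (idxOf (wS q ++ wS t))) &&
  (qIdx.all fun a => idxOf (wS a ++ wS a) == 0 || idxOf (wS a ++ wS a) == 125) &&
  (qIdx.all fun a => qIdx.all fun b =>
    let c := idxOf (wS a ++ wS b ++ (wS a).reverse ++ (wS b).reverse)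
    c == 0 || c == 125) &&
  !(idxOf (wS 2 ++ wS 10 ++ (wS 2).reverse ++ (wS 10).reverse) == 0)

theorem qOK_true : qOK = true := by decide +kernel

/-- the checks on the centraliser -/
def cenOK : Bool :=
  ((List.range 4).all fun i => (bn.getD i []).all (fun k => decide (k < 4)) &&
    sameOn (bW ++ expand (wS (qGens.getD i 0)) ++ bW.reverse) (expand (qWord (bn.getD i [])))) &&
  sameOn (bW ++ expand (wS 125)) (expand (wS 125) ++ bW) &&
  sameOn (bW ++ bW ++ bW) (expand (qWord [2, 1])) &&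
  sameOn (tW ++ bW ++ tW ++ bW ++ tW ++ bW ++ tW ++ bW ++ tW ++ bW) (expand (qWord [1, 0, 1, 0])) &&
  sameOn (sylGens.getD 0 []) (mixW [0]) &&
  sameOn (sylGens.getD 1 []) (mixW [5, 4, 5, 1, 5, 0]) &&
  sameOn (sylGens.getD 2 []) (mixW [4, 5, 4, 5, 5, 4, 5, 4, 1, 5, 0]) &&
  !(qIdx.any fun t => sameOn tW (expand (wS t))) &&
  !(qIdx.any fun t => sameOn bW (expand (wS t))) &&
  !(qIdx.any fun t => sameOn (tW ++ bW) (expand (wS t))) &&
  (tW ++ bW).all (fun i => decide (i < 4)) && qIdx.all (fun t => (expand (wS t)).all fun i => decide (i < 4))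

theorem cenOK_true : cenOK = true := by decide +kernel

theorem prod_wS {a b : ℕ} (ha : a < 128) (hb : b < 128) :
    el (expand (wS a)) * el (expand (wS b)) = sylTab.phi Mult.gS (idxOf (wS a ++ wS b)) := by
  have h : smallW (wS a ++ wS b) = true := by
    simp only [smallW, List.all_append, Bool.and_eq_true]
    exact ⟨(phi_word ha).2, (phi_word hb).2⟩
  rw [← (phi_idx h).1, List.map_append, List.prod_append, prod_gS (phi_word ha).2,
    prod_gS (phi_word hb).2]

theorem reverse_small {a : List ℕ} (h : smallW a = true) : smallW a.reverse = true := by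
  simpa [smallW, List.all_reverse] using h

theorem prod_reverse {a : List ℕ} : ((a.map Mult.gS).prod)⁻¹ = (a.reverse.map Mult.gS).prod := by
  induction a with
  | nil => simp
  | cons j a ih =>
    rw [List.map_cons, List.prod_cons, mul_inv_rev, ih, List.reverse_cons, List.map_append,
      List.prod_append, inv_eq_of_mul_eq_one_right (gS_sq j)]
    simp

theorem Q₀_elements : ∀ {x : J}, x ∈ Q₀ → ∃ t ∈ qIdx, x = el (expand (wS t)) := by
  have h := qOK_true
  simp only [qOK, Bool.and_eq_true, List.all_eq_true, beq_iff_eq, decide_eq_true_eq] at h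
  obtain ⟨⟨⟨⟨⟨⟨-, hlt⟩, -⟩, hq⟩, -⟩, -⟩, -⟩ := h
  have hstep : ∀ i : Fin 4, ∀ y, (∃ t ∈ qIdx, y = el (expand (wS t))) →
      ∃ t ∈ qIdx, qE i * y = el (expand (wS t)) := by
    rintro i _ ⟨t, ht, rfl⟩
    have hm : qGens.getD i 0 ∈ qGens := by
      rw [List.getD_eq_getElem _ _ (by simp [qGens])]; exact List.getElem_mem _
    obtain ⟨-, hcl⟩ := hq _ hm
    refine ⟨_, List.contains_iff_mem.mp (hcl t ht), ?_⟩
    rw [qE, prod_wS (by fin_cases i <;> simp [qGens]) (hlt t ht),
      ← (phi_word (hlt _ (List.contains_iff_mem.mp (hcl t ht)))).1]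
  intro x hx
  induction hx using Subgroup.closure_induction_left with
  | one => exact ⟨0, by simp [qIdx], by rw [← (phi_word (by norm_num)).1, Tab.phi_zero]⟩
  | mul_left a ha y _ ih => obtain ⟨i, rfl⟩ := ha; exact hstep i y ih
  | inv_mul_cancel a ha y _ ih =>
    obtain ⟨i, rfl⟩ := ha
    have hm : qGens.getD i 0 ∈ qGens := by
      rw [List.getD_eq_getElem _ _ (by simp [qGens])]; exact List.getElem_mem _
    have hlt' : qGens.getD i 0 < 128 := by fin_cases i <;> simp [qGens]
    have : qE i * qE i = 1 := by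
      rw [qE, prod_wS hlt' hlt', (hq _ hm).1.2, Tab.phi_zero]
    rw [inv_eq_of_mul_eq_one_right this]
    exact hstep i y ih

theorem mem_Q₀_iff {x : J} : x ∈ Q₀ ↔ ∃ t ∈ qIdx, x = el (expand (wS t)) := by
  refine ⟨Q₀_elements, ?_⟩
  rintro ⟨t, ht, rfl⟩
  obtain ⟨k, hk, rfl⟩ := List.mem_iff_getElem.mp ht
  have h := qOK_true
  simp only [qOK, Bool.and_eq_true, List.all_eq_true, beq_iff_eq, decide_eq_true_eq,
    List.mem_range] at h
  have hk' : k < 32 := by simpa [qIdx] using hk
  obtain ⟨⟨hd, hs⟩, e⟩ := h.1.1.1.1.2 k hk'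
  have hlt := h.1.1.1.1.1.2 qIdx[k] ht
  rw [List.getD_eq_getElem _ _ hk] at e
  have e2 : el (expand (wS qIdx[k])) = el (expand (qWord (qPr.getD k []))) := by
    rw [← prod_gS hs, (phi_idx hs).1, e]
    exact (phi_word hlt).1.symm
  refine (congrArg (fun u : J => u ∈ Q₀) e2).mpr ?_
  exact mem_Q₀ (List.all_eq_true.mpr fun i hi => decide_eq_true (hd i hi))

theorem card_Q₀ : Nat.card Q₀ = 32 := by
  have h := qOK_true
  simp only [qOK, Bool.and_eq_true, List.all_eq_true, beq_iff_eq, decide_eq_true_eq] at h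
  obtain ⟨⟨⟨⟨⟨⟨⟨⟨-, hlen⟩, hnd⟩, hlt⟩, -⟩, -⟩, -⟩, -⟩, -⟩ := h
  have hb : Function.Bijective fun k : Fin qIdx.length =>
      (⟨el (expand (wS qIdx[k])), mem_Q₀_iff.mpr ⟨_, List.getElem_mem _, rfl⟩⟩ : Q₀) := by
    refine ⟨fun a b hab => ?_, ?_⟩
    · have e := congrArg Subtype.val hab
      simp only at e
      have la := hlt qIdx[a] (List.getElem_mem _)
      have lb := hlt qIdx[b] (List.getElem_mem _)
      rw [← (phi_word la).1, ← (phi_word lb).1] at e
      exact Fin.ext ((List.Nodup.getElem_inj_iff hnd).mp (phi_inj _ _ la lb e))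
    · rintro ⟨x, hx⟩
      obtain ⟨t, ht, rfl⟩ := Q₀_elements hx
      obtain ⟨k, hk, rfl⟩ := List.mem_iff_getElem.mp ht
      exact ⟨⟨k, hk⟩, rfl⟩
  rw [← Nat.card_congr (Equiv.ofBijective _ hb), Nat.card_fin, hlen]

theorem commute_zE {x : J} (hx : x ∈ S₀) : zE * x = x * zE := by
  induction hx using Subgroup.closure_induction with
  | mem x hx => obtain ⟨i, hi, rfl⟩ := hx; exact zE_central i hi
  | one => simp
  | mul x y _ _ hx hy => rw [← mul_assoc, hx, mul_assoc, hy, mul_assoc]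
  | inv x _ hx => exact (Commute.inv_right (show Commute zE x from hx)).eq

/-- the centraliser of the central involution -/
noncomputable def Cz : Subgroup J := Subgroup.centralizer {zE}

theorem S₀_le_Cz : S₀ ≤ Cz := fun _ hx => Subgroup.mem_centralizer_singleton_iff.mpr (commute_zE hx).symm

theorem Q₀_le_Cz : Q₀ ≤ Cz := Q₀_le.trans S₀_le_Cz

theorem gen_mem : el tW ∈ Cz ∧ el bW ∈ Cz := by
  have h := cenOK_true
  simp only [cenOK, Bool.and_eq_true] at h
  refine ⟨t_mem_cent, Subgroup.mem_centralizer_singleton_iff.mpr ?_⟩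
  exact comm_of h.1.1.1.1.1.1.1.1.1.1.2

theorem Cz_le (K : Subgroup J) (hQ : Q₀ ≤ K) (ht : el tW ∈ K) (hb : el bW ∈ K) (hK : K ≤ Cz) :
    S₀ ≤ K := by
  have h := cenOK_true
  simp only [cenOK, Bool.and_eq_true] at h
  have hmix : ∀ d : List ℕ, d.all (fun i => decide (i < 6)) = true → el (mixW d) ∈ K := by
    intro d
    induction d with
    | nil => intro _; simp [mixW, el_nil]
    | cons i d ih =>
      intro hd
      simp only [List.all_cons, Bool.and_eq_true, decide_eq_true_eq] at hd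
      have e : mixW (i :: d) =
          (if i = 4 then tW else if i = 5 then bW else expand (wS (qGens.getD i 0))) ++ mixW d := by
        simp [mixW]
      rw [e, el_append]
      refine mul_mem ?_ (ih hd.2)
      split_ifs with h4 h5
      · exact ht
      · exact hb
      · exact hQ (Subgroup.subset_closure ⟨⟨i, by omega⟩, rfl⟩)
  refine (Subgroup.closure_le _).mpr ?_
  rintro _ ⟨j, hj, rfl⟩
  change j < 3 at hj
  rw [SetLike.mem_coe, gS_eq hj]
  interval_cases j
  · rw [el_eq h.1.1.1.1.1.1.1.2]; exact hmix _ (by decide)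
  · rw [el_eq h.1.1.1.1.1.1.2]; exact hmix _ (by decide)
  · rw [el_eq h.1.1.1.1.1.2]; exact hmix _ (by decide)

theorem b_norm : el bW ∈ Subgroup.normalizer (Q₀ : Set J) := by
  have h := cenOK_true
  simp only [cenOK, Bool.and_eq_true] at h
  refine normalizes_Q₀ fun i hi => ?_
  have hc := List.all_eq_true.mp h.1.1.1.1.1.1.1.1.1.1.1 i (List.mem_range.mpr hi)
  simp only [Bool.and_eq_true] at hc
  exact ⟨_, hc.1, hc.2⟩

theorem not_mem_Q₀ {w : List ℕ} (hw : w.all (fun i => decide (i < 4)) = true)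
    (h : qIdx.any (fun t => sameOn w (expand (wS t))) = false) : el w ∉ Q₀ := by
  intro hm
  obtain ⟨t, ht, e⟩ := Q₀_elements hm
  have h' := h
  rw [List.any_eq_false] at h'
  refine h' t ht ?_
  have hc := cenOK_true
  simp only [cenOK, Bool.and_eq_true] at hc
  have hwt := List.all_eq_true.mp hc.2 t ht
  simp only [sameOn, Bool.and_eq_true, List.all_eq_true, List.mem_range]
  refine ⟨⟨List.all_eq_true.mp hw, List.all_eq_true.mp hwt⟩, fun i _ => ?_⟩
  have hw' : ∀ j ∈ w, j < 4 := fun j hj => of_decide_eq_true (List.all_eq_true.mp hw j hj)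
  have hwt' : ∀ j ∈ expand (wS t), j < 4 := fun j hj => of_decide_eq_true (List.all_eq_true.mp hwt j hj)
  rw [← el_base hw', ← el_base hwt', e]
  simp

set_option maxHeartbeats 1600000 in
theorem structureCz : ∃ (Q : Subgroup Cz) (_ : Q.Normal), Nat.card Q = 32 ∧ Cfsg.IsExtraspecial 2 Q ∧
    Nonempty (Cz ⧸ Q ≃* alternatingGroup (Fin 5)) := by
  haveI := Fact.mk Nat.prime_two
  obtain ⟨ht, hb⟩ := gen_mem
  obtain ⟨hNt, -, hNS⟩ := norm_Q₀
  have hc := cenOK_true
  simp only [cenOK, Bool.and_eq_true, Bool.not_eq_true'] at hc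
  obtain ⟨⟨⟨⟨⟨⟨⟨⟨⟨⟨⟨-, -⟩, hb3⟩, hc5⟩, -⟩, -⟩, -⟩, nt⟩, nb⟩, nc⟩, hsmall⟩, -⟩ := hc
  set a : Cz := ⟨el tW, ht⟩
  set b : Cz := ⟨el bW, hb⟩
  set H : Subgroup J := Q₀ ⊔ Subgroup.closure {el tW, el bW}
  have hH : H ≤ Cz := sup_le Q₀_le_Cz ((Subgroup.closure_le _).mpr (by rintro _ (rfl | rfl) <;> assumption))
  have hHn : H ≤ Subgroup.normalizer (Q₀ : Set J) :=
    sup_le Subgroup.le_normalizer ((Subgroup.closure_le _).mpr (by
      rintro _ (rfl | rfl)
      · exact hNt
      · exact b_norm))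
  have hall : ∀ {w : List ℕ}, (∀ i ∈ w, i ∈ tW ++ bW) → w.all (fun i => decide (i < 4)) = true :=
    fun {w} hw => List.all_eq_true.mpr fun i hi => List.all_eq_true.mp hsmall i (hw i hi)
  have n1 : el tW ∉ Q₀ := not_mem_Q₀ (hall fun i hi => List.mem_append_left _ hi) nt
  have n2 : el bW ∉ Q₀ := not_mem_Q₀ (hall fun i hi => List.mem_append_right _ hi) nb
  have n3 : el tW * el bW ∉ Q₀ := by rw [← el_append]; exact not_mem_Q₀ hsmall nc
  have b3 : el bW ^ 3 ∈ Q₀ := by
    rw [pow_succ, pow_two, ← el_append, ← el_append, el_eq hb3]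
    exact mem_Q₀ (by decide)
  have c5 : (el tW * el bW) ^ 5 ∈ Q₀ := by
    rw [pow_succ, pow_succ, pow_succ, pow_two]
    simp only [← el_append, List.append_assoc]
    simp only [List.append_assoc] at hc5
    rw [el_eq hc5]
    exact mem_Q₀ (by decide)
  have t2 : el tW ^ 2 ∈ Q₀ := by
    have h := Fus.normOK_true
    simp only [Fus.normOK, Bool.and_eq_true] at h
    rw [sq, mul_self_eq_one h.1.1.1.1.1.1.1.2]; exact one_mem _
  haveI hQH : (Q₀.subgroupOf H).Normal :=
    (Subgroup.normal_subgroupOf_iff_le_normalizer le_sup_left).mpr hHn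
  have memH : ∀ {x : J}, x = el tW ∨ x = el bW → x ∈ H := fun hx =>
    Subgroup.mem_sup_right (Subgroup.subset_closure hx)
  have horder : ∀ {x : J} (hx : x ∈ H) {p : ℕ} (_ : p.Prime), x ∉ Q₀ → x ^ p ∈ Q₀ →
      orderOf ((⟨x, hx⟩ : H) : H ⧸ Q₀.subgroupOf H) = p := by
    intro x hx p hp hn hpow
    haveI := Fact.mk hp
    refine orderOf_eq_prime ?_ fun e => hn (Subgroup.mem_subgroupOf.mp
      ((QuotientGroup.eq_one_iff (N := Q₀.subgroupOf H) ⟨x, hx⟩).mp e))
    rw [← QuotientGroup.mk_pow, QuotientGroup.eq_one_iff]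
    exact Subgroup.mem_subgroupOf.mpr hpow
  have hS : S₀ ≤ H := Cz_le H le_sup_left (memH (Or.inl rfl)) (memH (Or.inr rfl)) hH
  have hcq : Nat.card (H ⧸ Q₀.subgroupOf H) * 32 = Nat.card H := by
    rw [← card_Q₀, ← Nat.card_congr (Subgroup.subgroupOfEquivOfLe (le_sup_left : Q₀ ≤ H)).toEquiv,
      ← Subgroup.card_eq_card_quotient_mul_card_subgroup]
  have hd : ∀ {x : J} (hx : x ∈ H) {p : ℕ}, p.Prime → x ∉ Q₀ → x ^ p ∈ Q₀ →
      p ∣ Nat.card (H ⧸ Q₀.subgroupOf H) := fun hx _ hp hn hpow => by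
    have := orderOf_dvd_natCard (((⟨_, hx⟩ : H)) : H ⧸ Q₀.subgroupOf H)
    rwa [horder hx hp hn hpow] at this
  have d3 := hd (memH (Or.inr rfl)) Nat.prime_three n2 b3
  have d5 := hd (mul_mem (memH (Or.inl rfl)) (memH (Or.inr rfl))) Nat.prime_five n3 c5
  have d128 : 128 ∣ Nat.card H := card_S₀ ▸ Subgroup.card_dvd_of_le hS
  have hCz : H = Cz := by
    refine Subgroup.eq_of_le_of_card_ge hH ?_
    rw [show Nat.card Cz = 1920 from card_centralizer_z]
    refine Nat.le_of_dvd Nat.card_pos ?_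
    have h15 : 15 ∣ Nat.card (H ⧸ Q₀.subgroupOf H) :=
      Nat.Coprime.mul_dvd_of_dvd_of_dvd (by norm_num : Nat.Coprime 3 5) d3 d5
    have : 15 ∣ Nat.card H := hcq ▸ h15.mul_right 32
    exact Nat.Coprime.mul_dvd_of_dvd_of_dvd (by norm_num : Nat.Coprime 128 15) d128 this
  rw [← hCz]
  have hq60 : Nat.card (H ⧸ Q₀.subgroupOf H) = 60 := by
    have := hcq
    rw [show Nat.card H = 1920 from hCz ▸ card_centralizer_z] at this
    omega
  refine ⟨Q₀.subgroupOf H, hQH, ?_, ?_, ?_⟩
  · rw [Nat.card_congr (Subgroup.subgroupOfEquivOfLe (le_sup_left : Q₀ ≤ H)).toEquiv, card_Q₀]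
  · refine CfsgLib.Extraspecial.isExtraspecial_congr
      (Subgroup.subgroupOfEquivOfLe (le_sup_left : Q₀ ≤ H)).symm ?_
    have h := qOK_true
    simp only [qOK, Bool.and_eq_true, List.all_eq_true, beq_iff_eq, decide_eq_true_eq, Bool.or_eq_true,
      Bool.not_eq_true', beq_eq_false_iff_ne] at h
    obtain ⟨⟨⟨⟨⟨-, hlt⟩, -⟩, -⟩, hsq⟩, hcm⟩ := h.1
    have hne := h.2
    have hcen : ∀ x : Q₀, x ∈ Subgroup.center Q₀ ↔ (x : J) = 1 ∨ (x : J) = zE := by
      intro x
      rw [Subgroup.mem_center_iff]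
      constructor
      · intro hx
        obtain ⟨t, ht', e⟩ := exists_word (Q₀_le x.2)
        have hcent := centOK_true
        simp only [centOK, Bool.and_eq_true] at hcent
        have h2 := List.all_eq_true.mp hcent.1 t (List.mem_range.mpr ht')
        simp only [Bool.or_eq_true, List.any_eq_true, Bool.not_eq_true', beq_eq_false_iff_ne,
          beq_iff_eq] at h2
        rcases h2 with (⟨q, hq, hne'⟩ | rfl) | rfl
        · obtain ⟨i, hi, rfl⟩ := List.mem_iff_getElem.mp hq
          have hql : qGens[i] < 128 := by simp [qGens] at hi ⊢; interval_cases i <;> simp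
          refine absurd (comm_idx (phi_word ht').2 (phi_word hql).2 ?_) hne'
          have := congrArg Subtype.val (hx ⟨el (expand (wS qGens[i])),
            Subgroup.subset_closure ⟨⟨i, by simpa [qGens] using hi⟩, by rw [qE, List.getD_eq_getElem _ _ hi]⟩⟩)
          simp only [Subgroup.coe_mul] at this
          rw [e, (phi_word ht').1] at this
          exact this.symm
        · exact Or.inl (e.trans (Tab.phi_zero _ _))
        · exact Or.inr (e.trans (phi_word ht').1)
      · rintro (e | e) y <;> refine Subtype.ext ?_ <;> simp only [Subgroup.coe_mul, e]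
        · simp
        · exact (commute_zE (Q₀_le y.2)).symm
    have hval : ∀ (x : Q₀) (d : List ℕ), smallW d = true → (x : J) = (d.map Mult.gS).prod →
        (idxOf d = 0 ∨ idxOf d = 125) → x ∈ Subgroup.center Q₀ := by
      intro x d hd hx h0
      rw [hcen, hx, (phi_idx hd).1]
      rcases h0 with h0 | h0 <;> rw [h0]
      · exact Or.inl (Tab.phi_zero _ _)
      · exact Or.inr (phi_word (by norm_num)).1
    refine CfsgLib.Extraspecial.isExtraspecial_of (IsPGroup.of_card (n := 5) (by rw [card_Q₀]; norm_num))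
      ?_ (fun x y => ?_) (fun x => ?_) ?_
    · refine Nat.card_eq_two_iff.mpr ⟨1, ⟨⟨zE, z_mem_Q₀⟩, (hcen _).mpr (Or.inr rfl)⟩, fun e => ?_, ?_⟩
      · exact zE_ne_one (congrArg (fun v : Subgroup.center Q₀ => ((v : Q₀) : J)) e).symm
      · refine Set.eq_univ_iff_forall.mpr fun v => ?_
        rcases (hcen _).mp v.2 with e | e
        · exact Or.inl (Subtype.ext (Subtype.ext e))
        · exact Or.inr (Subtype.ext (Subtype.ext e))
    · obtain ⟨i, hi, ei⟩ := Q₀_elements x.2
      obtain ⟨j, hj, ej⟩ := Q₀_elements y.2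
      have si := (phi_word (hlt i hi)).2
      have sj := (phi_word (hlt j hj)).2
      refine hval _ (wS i ++ wS j ++ (wS i).reverse ++ (wS j).reverse) ?_ ?_ (hcm i hi j hj)
      · have := reverse_small si
        have := reverse_small sj
        simp only [smallW, List.all_append, Bool.and_eq_true] at *
        exact ⟨⟨⟨si, sj⟩, by assumption⟩, by assumption⟩
      · simp only [List.map_append, List.prod_append, ← prod_reverse, prod_gS si, prod_gS sj, ← ei, ← ej]
        rw [commutatorElement_def]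
        simp [mul_assoc]
    · obtain ⟨i, hi, ei⟩ := Q₀_elements x.2
      have si := (phi_word (hlt i hi)).2
      refine hval _ (wS i ++ wS i) ?_ ?_ (hsq i hi)
      · simp only [smallW, List.all_append, Bool.and_eq_true] at *; exact ⟨si, si⟩
      · rw [List.map_append, List.prod_append, prod_gS si, ← ei, sq]; rfl
    · refine ⟨⟨_, mem_Q₀_iff.mpr ⟨2, by simp [qIdx], rfl⟩⟩, ⟨_, mem_Q₀_iff.mpr ⟨10, by simp [qIdx], rfl⟩⟩,
        fun e => hne ?_⟩
      have e' := congrArg Subtype.val e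
      have s2 := (phi_word (show (2 : ℕ) < 128 by norm_num)).2
      have s10 := (phi_word (show (10 : ℕ) < 128 by norm_num)).2
      have sd : smallW (wS 2 ++ wS 10 ++ (wS 2).reverse ++ (wS 10).reverse) = true := by
        have := reverse_small s2
        have := reverse_small s10
        simp only [smallW, List.all_append, Bool.and_eq_true] at *
        exact ⟨⟨⟨s2, s10⟩, by assumption⟩, by assumption⟩
      refine phi_inj _ _ (phi_idx sd).2 (by decide) ?_
      rw [← (phi_idx sd).1, Tab.phi_zero]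
      simp only [List.map_append, List.prod_append, ← prod_reverse, prod_gS s2, prod_gS s10]
      simpa [commutatorElement_def, mul_assoc] using e'
  · refine CfsgLib.SL2.tri_five (a := ((⟨el tW, memH (Or.inl rfl)⟩ : H) : H ⧸ Q₀.subgroupOf H))
      (b := ((⟨el bW, memH (Or.inr rfl)⟩ : H) : H ⧸ Q₀.subgroupOf H)) ?_
      (horder _ Nat.prime_two n1 t2) (horder _ Nat.prime_three n2 b3)
      (by rw [← QuotientGroup.mk_mul]; exact horder _ Nat.prime_five n3 c5) hq60.le
    set K := Subgroup.closure ({((⟨el tW, memH (Or.inl rfl)⟩ : H) : H ⧸ Q₀.subgroupOf H),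
      ((⟨el bW, memH (Or.inr rfl)⟩ : H) : H ⧸ Q₀.subgroupOf H)} : Set (H ⧸ Q₀.subgroupOf H)) with hK
    refine eq_top_iff.mpr fun q _ => ?_
    obtain ⟨x, rfl⟩ := QuotientGroup.mk_surjective q
    have hle : H ≤ (K.comap (QuotientGroup.mk' (Q₀.subgroupOf H))).map H.subtype := by
      refine sup_le (fun y hy => ?_) ((Subgroup.closure_le _).mpr ?_)
      · refine ⟨⟨y, Subgroup.mem_sup_left hy⟩, ?_, rfl⟩
        show QuotientGroup.mk' _ _ ∈ K
        rw [QuotientGroup.mk'_apply, (QuotientGroup.eq_one_iff _).mpr (Subgroup.mem_subgroupOf.mpr hy)]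
        exact one_mem _
      · rintro _ (rfl | rfl)
        · exact ⟨⟨el tW, memH (Or.inl rfl)⟩, Subgroup.subset_closure (Set.mem_insert _ _), rfl⟩
        · exact ⟨⟨el bW, memH (Or.inr rfl)⟩, Subgroup.subset_closure (Set.mem_insert_of_mem _ rfl), rfl⟩
    obtain ⟨y, hy, e⟩ := hle x.2
    rw [← Subtype.ext e]
    exact hy

theorem transfer {A B : Type*} [Group A] [Group B] [Finite A] (e : A ≃* B)
    (h : ∃ (Q : Subgroup A) (_ : Q.Normal), Nat.card Q = 32 ∧ Cfsg.IsExtraspecial 2 Q ∧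
      Nonempty (A ⧸ Q ≃* alternatingGroup (Fin 5))) :
    ∃ (Q : Subgroup B) (_ : Q.Normal), Nat.card Q = 32 ∧ Cfsg.IsExtraspecial 2 Q ∧
      Nonempty (B ⧸ Q ≃* alternatingGroup (Fin 5)) := by
  haveI := Fact.mk Nat.prime_two
  haveI : Finite B := Finite.of_equiv _ e.toEquiv
  obtain ⟨Q, hQ, h32, hex, ⟨f⟩⟩ := h
  haveI hQ' : (Q.map e.toMonoidHom).Normal := hQ.map _ e.surjective
  refine ⟨Q.map e.toMonoidHom, hQ', ?_, ?_, ⟨(@QuotientGroup.congr _ _ _ _ Q (Q.map e.toMonoidHom) hQ hQ' e rfl).symm.trans f⟩⟩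
  · rw [Subgroup.card_map_of_injective (K := Q) e.injective, h32]
  · exact CfsgLib.Extraspecial.isExtraspecial_congr (Q.equivMapOfInjective e.toMonoidHom e.injective) hex

theorem centralizer_refl (f : Equiv.Perm icoLeech) (hf : IsIcoReflection f) (hfm : f ∈ twoJ2) :
    ∃ (Q : Subgroup ↥(Subgroup.centralizer {(QuotientGroup.mk ⟨f, hfm⟩ : J2)})) (_ : Q.Normal),
      Nat.card Q = 32 ∧ Cfsg.IsExtraspecial 2 Q ∧
      Nonempty (↥(Subgroup.centralizer {(QuotientGroup.mk ⟨f, hfm⟩ : J2)}) ⧸ Q ≃*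
        alternatingGroup (Fin 5)) := by
  obtain ⟨k, hk⟩ := isIcoReflection_iff.mp hf
  have hz : el [3, 2, 1, 0] * zE * (el [3, 2, 1, 0])⁻¹ = lineRefl 0 := by
    have h := Fus.normOK_true
    simp only [Fus.normOK, Bool.and_eq_true] at h
    rw [zE, conj_eq_of h.2]
    refine Subtype.ext ?_
    simp only [el, wordE, List.map_cons, List.map_nil, List.prod_cons, List.prod_nil, mul_one,
      genE, lineRefl]
    rw [dif_pos (by norm_num : (0 : ℕ) < 4)]
    rfl
  obtain ⟨g, hg⟩ := lineAct_transitive 0 k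
  set a : J := (⟨lineAct g, g, rfl⟩ : J) * el [3, 2, 1, 0]
  have ha : a * zE * a⁻¹ = equivJ (QuotientGroup.mk ⟨f, hfm⟩) := by
    rw [show a * zE * a⁻¹ = (⟨lineAct g, g, rfl⟩ : J) * (el [3, 2, 1, 0] * zE * (el [3, 2, 1, 0])⁻¹) *
      (⟨lineAct g, g, rfl⟩ : J)⁻¹ by simp only [a]; group, hz, lineRefl_conj, hg]
    refine Subtype.ext ?_
    subst hk
    rfl
  haveI : Finite Cz := Subtype.finite
  let φ : J ≃* J2 := (MulAut.conj a).trans equivJ.symm
  have hφ : φ zE = QuotientGroup.mk ⟨f, hfm⟩ := by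
    show equivJ.symm (a * zE * a⁻¹) = _
    rw [ha, MulEquiv.symm_apply_apply]
  have hmap : Cz.map φ.toMonoidHom = Subgroup.centralizer {(QuotientGroup.mk ⟨f, hfm⟩ : J2)} := by
    ext x
    rw [Subgroup.mem_map_equiv, Cz, Subgroup.mem_centralizer_singleton_iff,
      Subgroup.mem_centralizer_singleton_iff, ← hφ]
    constructor
    · intro h
      have := congrArg φ h
      simpa using this
    · intro h
      apply φ.injective
      simpa using h
  exact transfer ((φ.subgroupMap Cz).trans (MulEquiv.subgroupCongr hmap)) structureCz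

end CfsgLib.J2.Cent
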