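import Cfsg.Agent.Lib.J2.ClassDefs

/-! Class certificates, part A. -/

set_option autoImplicit false

namespace CfsgLib.J2

theorem cert0_ok : cert0.ok = true := by decide +kernel
theorem cert1_ok : cert1.ok = true := by decide +kernel
theorem cert2_ok : cert2.ok = true := by decide +kernel
theorem cert3_ok : cert3.ok = true := by decide +kernel
theorem cert4_ok : cert4.ok = true := by decide +kernel
theorem cert5_ok : cert5.ok = true := by decide +kernel
theorem cert6_ok : cert6.ok = true := by decide +kernel

end CfsgLib.J2
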