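import Cfsg.Agent.Lib.J2.ClassDefs

/-! Class certificates, part B. -/

set_option autoImplicit false

namespace CfsgLib.J2

theorem cert7_ok : cert7.ok = true := by decide +kernel
theorem cert8_ok : cert8.ok = true := by decide +kernel
theorem cert9_ok : cert9.ok = true := by decide +kernel
theorem cert10_ok : cert10.ok = true := by decide +kernel
theorem cert11_ok : cert11.ok = true := by decide +kernel
theorem cert12_ok : cert12.ok = true := by decide +kernel
theorem cert13_ok : cert13.ok = true := by decide +kernel

end CfsgLib.J2
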