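import Cfsg.Agent.Lib.J2.ClassDefs

/-! Class certificates, part C. -/

set_option autoImplicit false

namespace CfsgLib.J2

theorem cert14_ok : cert14.ok = true := by decide +kernel
theorem cert15_ok : cert15.ok = true := by decide +kernel
theorem cert16_ok : cert16.ok = true := by decide +kernel
theorem cert17_ok : cert17.ok = true := by decide +kernel
theorem cert18_ok : cert18.ok = true := by decide +kernel
theorem cert19_ok : cert19.ok = true := by decide +kernel
theorem cert20_ok : cert20.ok = true := by decide +kernel

end CfsgLib.J2
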