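import Cfsg.Agent.Lib.J2.ColCheck
import Cfsg.Agent.Lib.J2.ClassData

/-!
The checks of a class certificate.
-/

set_option autoImplicit false

namespace CfsgLib.J2

/-- iterates of a packed permutation -/
def iterP (P : ℕ) : ℕ → ℕ → ℕ
  | 0, x => x
  | m + 1, x => dig9 P (iterP P m x)

/-- a point with its iterates -/
def orbitL (P : ℕ) : ℕ → ℕ → List ℕ
  | 0, _ => []
  | n + 1, x => x :: orbitL P n (dig9 P x)

/-- a commuting element fixing `pref` could move `p` to `c` -/
def consistentL (pref : List ℕ) (p c : ℕ) : List ℕ → List ℕ → Bool
  | a :: as, b :: bs =>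
      Nat.beq (colAt a c) (colAt b p) &&
        (pref.all fun q => Nat.beq (colAt a q) (colAt b q)) && consistentL pref p c as bs
  | _, _ => true

/-- the numbers of possible images are as listed -/
def countsOK (P n : ℕ) : List ℕ → List ℕ → List ℕ → Bool
  | _, [], [] => true
  | pref, p :: ps, s :: ss =>
      let op := orbitL P n p
      decide (p < 315) &&
        ((List.range 315).filter fun c => consistentL pref p c (orbitL P n c) op).length == s &&
        countsOK P n (pref ++ [p]) ps ss
  | _, _, _ => false

/-- the bound of the centraliser -/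
def ClassCert.bound (c : ClassCert) : ℕ := if c.ord = 1 then 604800 else c.sizes.prod

/-- colour invariant of a packed permutation power -/
def histP (P m : ℕ) : ℕ :=
  ((List.range 315).map fun x => 1000 ^ colAt x (iterP P m x)).sum

/-- the check of a certificate -/
def ClassCert.ok (c : ClassCert) : Bool :=
  let P := c.perm
  let B := basePts.take 5
  c.word.all (fun i => decide (i < 4)) &&
  ((List.range 315).all fun x => Nat.beq (dig9 P x) (wordAp c.word x)) &&
  decide (0 < c.ord) &&
  (B.all fun b => iterP P c.ord b == b) &&
  ((List.range c.ord).all fun m => m == 0 || B.any fun b => !(iterP P m b == b)) &&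
  (c.ord == 1 || B.all fun b => c.pts.any fun p => (orbitL P c.ord p).contains b) &&
  countsOK P c.ord [] c.pts c.sizes &&
  histP P 1 == c.hist1 && histP P 3 == c.hist3

end CfsgLib.J2
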