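import Cfsg.Agent.Lib.J2.PermGroup
import Cfsg.Agent.Lib.J2.ClassCheckA
import Cfsg.Agent.Lib.J2.ClassCheckB
import Cfsg.Agent.Lib.J2.ClassCheckC

/-!
The 21 certified classes exhaust the group on the lines.
-/

set_option autoImplicit false

namespace CfsgLib.J2

theorem reachTree_mem_spec {ap : ℕ → ℕ → ℕ} {ok : ℕ → Bool} {P : ℕ → Prop} :
    ∀ (es : List (ℕ × ℕ)) (m m' : ℕ), reachTree ap ok es m = some m' →
      (∀ x i, (x, i) ∈ es → ok i = true → P x → P (ap i x)) →
      (∀ y, m.testBit y = true → P y) → ∀ y, m'.testBit y = true → P y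
  | [], m, m', h, _, hm => by simp only [reachTree, Option.some.injEq] at h; exact h ▸ hm
  | (x, i) :: es, m, m', h, hstep, hm => by
    simp only [reachTree] at h
    split at h
    · rename_i hc
      simp only [Bool.and_eq_true] at hc
      refine reachTree_mem_spec es _ m' h (fun a b hab => hstep a b (List.mem_cons_of_mem _ hab))
        fun y hy => ?_
      rw [Nat.testBit_or, Bool.or_eq_true, Nat.testBit_two_pow, decide_eq_true_eq] at hy
      rcases hy with hy | hy
      · exact hm y hy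
      · exact hy ▸ hstep x i (List.mem_cons_self ..) hc.2 (hm x hc.1)
    · exact absurd h (by simp)

theorem genE_sq_apply (i : ℕ) (k : Fin 315) : lineAct (genE i) (lineAct (genE i) k) = k := by
  have h : genE i * genE i = 1 := by
    nth_rewrite 1 [← genE_inv (g := i)]
    exact inv_mul_cancel _
  rw [← Equiv.Perm.mul_apply, ← map_mul, h, map_one, Equiv.Perm.one_apply]

theorem colAt_spec (a b : Fin 315) : colAt a b = colSmall (colC a b) := by
  have hlin := linesOK_true
  simp only [linesOK, beq_iff_eq] at hlin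
  refine (reachTree_mem_spec (P := fun y => ∃ hy : y < 315, ∀ b : Fin 315,
    colAt y b = colSmall (colC y b)) lineTree _ _ hlin ?_ ?_ a
    (by rw [Nat.testBit_two_pow_sub_one]; simp)).2 b
  · rintro x i hmem hi ⟨hx, hP⟩
    simp only [decide_eq_true_eq] at hi
    have ha := genE_apply hi ⟨x, hx⟩
    refine ⟨ha ▸ Fin.isLt _, fun b => ?_⟩
    have h := colEdgesOK_true
    simp only [colEdgesOK, List.all_eq_true] at h
    have he := h _ hmem
    simp only [edgeOK, List.all_eq_true, List.mem_range] at he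
    have heq := Nat.eq_of_beq_eq_true (he b b.isLt)
    have hb := genE_apply hi b
    calc colAt (genAp i x) b = colAt x (genAp i b) := heq
      _ = colSmall (colC x (lineAct (genE i) b)) := by rw [← hb]; exact hP _
      _ = colSmall (colC (genAp i x) b) := by
        rw [← colC_invariant (genE i) ⟨x, hx⟩ (lineAct (genE i) b), genE_sq_apply, ha]
  · intro y hy
    rw [Nat.testBit_two_pow, decide_eq_true_eq] at hy
    subst hy
    refine ⟨by norm_num, fun b => ?_⟩
    have h := colRow0OK_true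
    simp only [colRow0OK, List.all_eq_true, List.mem_range, beq_iff_eq] at h
    have h' := row0OK_true
    simp only [row0OK, List.all_eq_true, List.mem_range, beq_iff_eq] at h'
    rw [h b b.isLt, h' b b.isLt]

theorem colAt_invariant {g : Equiv.Perm (Fin 315)} (hg : g ∈ J) (a b : Fin 315) :
    colAt (g a) (g b) = colAt a b := by
  rw [colAt_spec, colAt_spec, colC_J hg]

/-- The permutation of a certificate. -/
noncomputable def ClassCert.elt (c : ClassCert) : Equiv.Perm (Fin 315) := lineAct (wordE c.word)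

theorem ClassCert.elt_mem (c : ClassCert) : c.elt ∈ J := ⟨_, rfl⟩

variable {c : ClassCert}

theorem ClassCert.parts (h : c.ok = true) :
    (∀ i ∈ c.word, i < 4) ∧ (∀ x < 315, dig9 c.perm x = wordAp c.word x) ∧ 0 < c.ord ∧
    (∀ b ∈ basePts.take 5, iterP c.perm c.ord b = b) ∧
    (∀ m < c.ord, m ≠ 0 → ∃ b ∈ basePts.take 5, iterP c.perm m b ≠ b) ∧
    (c.ord ≠ 1 → ∀ b ∈ basePts.take 5, ∃ p ∈ c.pts, b ∈ orbitL c.perm c.ord p) ∧
    countsOK c.perm c.ord [] c.pts c.sizes = true ∧
    histP c.perm 1 = c.hist1 ∧ histP c.perm 3 = c.hist3 := by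
  simp only [ClassCert.ok, Bool.and_eq_true, List.all_eq_true, List.mem_range, decide_eq_true_eq,
    beq_iff_eq, Bool.or_eq_true, List.any_eq_true, Bool.not_eq_true', beq_eq_false_iff_ne,
    List.contains_iff_mem] at h
  obtain ⟨⟨⟨⟨⟨⟨⟨⟨h1, h2⟩, h3⟩, h4⟩, h5⟩, h6⟩, h7⟩, h8⟩, h9⟩ := h
  refine ⟨h1, fun x hx => Nat.eq_of_beq_eq_true (h2 x hx), h3, h4, fun m hm hm0 => ?_, fun hn b hb => ?_, h7, h8, h9⟩
  · exact (h5 m hm).resolve_left hm0
  · exact (h6.resolve_left hn) b hb

theorem elt_apply (h : c.ok = true) (x : Fin 315) :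
    ((c.elt x : Fin 315) : ℕ) = dig9 c.perm x := by
  obtain ⟨h1, h2, -⟩ := ClassCert.parts h
  rw [h2 x x.isLt, ClassCert.elt, wordE_apply h1]

theorem elt_pow_apply (h : c.ok = true) (m : ℕ) (x : Fin 315) :
    (((c.elt ^ m) x : Fin 315) : ℕ) = iterP c.perm m x := by
  induction m with
  | zero => simp [iterP]
  | succ m ih => rw [pow_succ', Equiv.Perm.mul_apply, elt_apply h, ih]; rfl

theorem pow_eq_one_iff_base (h : c.ok = true) (m : ℕ) :
    c.elt ^ m = 1 ↔ ∀ b ∈ basePts.take 5, iterP c.perm m b = b := by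
  have hb : ∀ b ∈ basePts.take 5, ∃ i < 5, basePts.getD i 0 = b := fun b hb => by
    simp [basePts] at hb
    rcases hb with rfl | rfl | rfl | rfl | rfl
    exacts [⟨0, by simp [basePts]⟩, ⟨1, by simp [basePts]⟩, ⟨2, by simp [basePts]⟩,
      ⟨3, by simp [basePts]⟩, ⟨4, by simp [basePts]⟩]
  constructor
  · intro he b hb'
    obtain ⟨i, -, rfl⟩ := hb b hb'
    have := elt_pow_apply h m (bpt i)
    rw [he, Equiv.Perm.one_apply] at this
    exact this.symm
  · intro hall
    have : c.elt ^ m ∈ fixJ 5 := mem_fixJ.mpr ⟨pow_mem c.elt_mem m, fun i hi => Fin.ext ?_⟩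
    · rwa [fixJ_five, Subgroup.mem_bot] at this
    · rw [elt_pow_apply h]
      refine hall _ ?_
      interval_cases i <;> simp [bpt, basePts]

theorem orderOf_elt (h : c.ok = true) : orderOf c.elt = c.ord := by
  obtain ⟨-, -, h3, h4, h5, -⟩ := ClassCert.parts h
  refine (orderOf_eq_iff h3).mpr ⟨(pow_eq_one_iff_base h _).mpr h4, fun m hm hm0 he => ?_⟩
  obtain ⟨b, hb, hne⟩ := h5 m hm (Nat.pos_iff_ne_zero.mp hm0)
  exact hne ((pow_eq_one_iff_base h m).mp he b hb)

/-- The elements commuting with `g` and fixing a set. -/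
noncomputable def fixC (g : Equiv.Perm (Fin 315)) (s : Set (Fin 315)) :
    Subgroup (Equiv.Perm (Fin 315)) :=
  J ⊓ Subgroup.centralizer {g} ⊓ fixingSubgroup (Equiv.Perm (Fin 315)) s

theorem mem_fixC {g h : Equiv.Perm (Fin 315)} {s : Set (Fin 315)} :
    h ∈ fixC g s ↔ h ∈ J ∧ h * g = g * h ∧ ∀ x ∈ s, h x = x := by
  simp only [fixC, Subgroup.mem_inf, Subgroup.mem_centralizer_singleton_iff,
    mem_fixingSubgroup_iff, Equiv.Perm.smul_def, and_assoc]

theorem consistentL_image (hok : c.ok = true) {s : Set (Fin 315)} {h : Equiv.Perm (Fin 315)}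
    (hh : h ∈ fixC c.elt s) {pref : List ℕ} (hpref : ∀ q ∈ pref, ∃ hq : q < 315, (⟨q, hq⟩ : Fin 315) ∈ s)
    (p : Fin 315) : ∀ (n : ℕ) (y : Fin 315),
    consistentL pref p (h p) (orbitL c.perm n (h y)) (orbitL c.perm n y) = true
  | 0, _ => rfl
  | n + 1, y => by
    obtain ⟨hJ, hcomm, hfix⟩ := mem_fixC.mp hh
    have ih := consistentL_image hok hh hpref p n (c.elt y)
    have e : h (c.elt y) = c.elt (h y) := by
      rw [← Equiv.Perm.mul_apply, hcomm, Equiv.Perm.mul_apply]
    rw [e, elt_apply hok, elt_apply hok] at ih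
    simp only [orbitL, consistentL, Bool.and_eq_true, List.all_eq_true]
    refine ⟨⟨?_, fun q hq => ?_⟩, ih⟩
    · rw [colAt_invariant hJ]; exact Nat.beq_refl _
    · obtain ⟨hq', hqs⟩ := hpref q hq
      have := colAt_invariant hJ y ⟨q, hq'⟩
      rw [hfix _ hqs] at this
      simp only at this
      rw [this]; exact Nat.beq_refl _

theorem fixC_step (g : Equiv.Perm (Fin 315)) (s : Set (Fin 315)) (p : Fin 315)
    (t : Set (Fin 315)) (ht : ∀ h ∈ fixC g s, h p ∈ t) :
    Nat.card (fixC g s) ≤ t.ncard * Nat.card (fixC g (insert p s)) := by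
  have horb : MulAction.orbit (fixC g s) p ⊆ t := by
    rintro x ⟨h, rfl⟩
    exact ht h h.2
  have h2 : Nat.card (MulAction.stabilizer (fixC g s) p) = Nat.card (fixC g (insert p s)) := by
    refine Nat.card_congr
      { toFun := fun h => ⟨(h.1 : Equiv.Perm (Fin 315)), ?_⟩
        invFun := fun h => ⟨⟨h.1, ?_⟩, ?_⟩
        left_inv := fun h => rfl
        right_inv := fun h => rfl }
    · obtain ⟨hJ, hc, hf⟩ := mem_fixC.mp h.1.2
      refine mem_fixC.mpr ⟨hJ, hc, fun x hx => ?_⟩
      rcases hx with rfl | hx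
      · exact h.2
      · exact hf x hx
    · obtain ⟨hJ, hc, hf⟩ := mem_fixC.mp h.2
      exact mem_fixC.mpr ⟨hJ, hc, fun x hx => hf x (Or.inr hx)⟩
    · exact (mem_fixC.mp h.2).2.2 p (Or.inl rfl)
  rw [← h2, Nat.card_congr (MulAction.orbitProdStabilizerEquivGroup (fixC g s) p).symm,
    Nat.card_prod, Nat.card_coe_set_eq]
  exact Nat.mul_le_mul_right _ (Set.ncard_le_ncard horb)

theorem counts_bound (hok : c.ok = true) : ∀ (ps ss pref : List ℕ) (s : Set (Fin 315)),
    countsOK c.perm c.ord pref ps ss = true →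
    (∀ q ∈ pref, ∃ hq : q < 315, (⟨q, hq⟩ : Fin 315) ∈ s) →
    ∃ t : Set (Fin 315), s ⊆ t ∧ (∀ q ∈ pref ++ ps, ∃ hq : q < 315, (⟨q, hq⟩ : Fin 315) ∈ t) ∧
      Nat.card (fixC c.elt s) ≤ ss.prod * Nat.card (fixC c.elt t) := by
  intro ps
  induction ps with
  | nil =>
    intro ss pref s h hpref
    cases ss with
    | nil => exact ⟨s, subset_rfl, by simpa using hpref, by simp⟩
    | cons a b => simp [countsOK] at h
  | cons p ps ih =>
    intro ss pref s h hpref
    cases ss with
    | nil => simp [countsOK] at h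
    | cons a ss =>
      simp only [countsOK, Bool.and_eq_true, decide_eq_true_eq, beq_iff_eq] at h
      obtain ⟨⟨hp, hlen⟩, hrest⟩ := h
      obtain ⟨t, hst, ht, hle⟩ := ih ss (pref ++ [p]) (insert ⟨p, hp⟩ s) hrest (fun q hq => by
        rcases List.mem_append.mp hq with hq | hq
        · obtain ⟨a, b⟩ := hpref q hq; exact ⟨a, Or.inr b⟩
        · rw [List.mem_singleton.mp hq]; exact ⟨hp, Or.inl rfl⟩)
      refine ⟨t, (Set.subset_insert _ _).trans hst, by simpa using ht, ?_⟩
      let P : ℕ → Bool := fun x =>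
        consistentL pref p x (orbitL c.perm c.ord x) (orbitL c.perm c.ord p)
      have hstep := fixC_step c.elt s ⟨p, hp⟩ {x : Fin 315 | P x = true}
        fun h hh => consistentL_image hok hh hpref ⟨p, hp⟩ c.ord ⟨p, hp⟩
      have hcard : {x : Fin 315 | P x = true}.ncard = a := by
        rw [← hlen, ← Set.ncard_image_of_injective _ Fin.val_injective]
        have : Fin.val '' {x : Fin 315 | P x = true} =
            ↑(((List.range 315).filter P).toFinset) := by
          ext y
          simp only [Set.mem_image, Set.mem_setOf_eq, List.coe_toFinset, List.mem_filter,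
            List.mem_range]
          exact ⟨fun ⟨x, hx, e⟩ => e ▸ ⟨x.isLt, hx⟩, fun ⟨h, h'⟩ => ⟨⟨y, h⟩, h', rfl⟩⟩
        rw [this, Set.ncard_coe_finset, List.toFinset_card_of_nodup (List.nodup_range.filter _)]
      rw [hcard] at hstep
      rw [List.prod_cons, mul_assoc]
      exact hstep.trans (Nat.mul_le_mul_left _ hle)

theorem mem_orbitL {P : ℕ} : ∀ (n x b : ℕ), b ∈ orbitL P n x → ∃ m, iterP P m x = b
  | 0, x, b, h => by simp [orbitL] at h
  | n + 1, x, b, h => by
    simp only [orbitL, List.mem_cons] at h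
    rcases h with rfl | h
    · exact ⟨0, rfl⟩
    · obtain ⟨m, e⟩ := mem_orbitL n _ b h
      have key : ∀ m, iterP P m (dig9 P x) = iterP P (m + 1) x := by
        intro m
        induction m with
        | zero => rfl
        | succ m ih => simp only [iterP] at ih ⊢; rw [ih]
      exact ⟨m + 1, by rw [← key]; exact e⟩

theorem fixC_empty_le (hok : c.ok = true) : Nat.card (fixC c.elt ∅) ≤ c.bound := by
  obtain ⟨-, -, -, -, -, hcov, hcnt, -⟩ := ClassCert.parts hok
  unfold ClassCert.bound
  split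
  · refine le_of_le_of_eq (Subgroup.card_le_of_le ?_) card_J
    intro h hh
    exact (mem_fixC.mp hh).1
  · rename_i hn
    obtain ⟨t, -, ht, hle⟩ := counts_bound hok c.pts c.sizes [] ∅ hcnt (by simp)
    have hbot : fixC c.elt t = ⊥ := by
      rw [Subgroup.eq_bot_iff_forall]
      intro h hh
      obtain ⟨hJ, hc, hf⟩ := mem_fixC.mp hh
      have : h ∈ fixJ 5 := mem_fixJ.mpr ⟨hJ, fun i hi => ?_⟩
      · rwa [fixJ_five, Subgroup.mem_bot] at this
      obtain ⟨p, hp, hmem⟩ := hcov hn (basePts.getD i 0) (by interval_cases i <;> simp [basePts])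
      obtain ⟨hp', hpt⟩ := ht p (by simpa using hp)
      obtain ⟨m, em⟩ := mem_orbitL _ _ _ hmem
      have e : (c.elt ^ m) ⟨p, hp'⟩ = bpt i := Fin.ext (by rw [elt_pow_apply hok]; exact em)
      have hcm : h * c.elt ^ m = c.elt ^ m * h := Commute.pow_right hc m
      rw [← e, ← Equiv.Perm.mul_apply, hcm, Equiv.Perm.mul_apply, hf _ hpt]
    rw [hbot, Subgroup.card_bot, mul_one] at hle
    exact hle

/-- The colour invariant of a permutation. -/
noncomputable def histE (g : Equiv.Perm (Fin 315)) : ℕ := ∑ x : Fin 315, 1000 ^ colAt x (g x)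

theorem histE_conj {g h : Equiv.Perm (Fin 315)} (hh : h ∈ J) :
    histE (h * g * h⁻¹) = histE g := by
  unfold histE
  refine (Equiv.sum_comp h fun x => 1000 ^ colAt x ((h * g * h⁻¹) x)).symm.trans ?_
  refine Finset.sum_congr rfl fun x _ => ?_
  rw [Equiv.Perm.mul_apply, Equiv.Perm.mul_apply, Equiv.Perm.inv_def, Equiv.symm_apply_apply,
    colAt_invariant hh]

theorem histE_elt (hok : c.ok = true) (m : ℕ) : histE (c.elt ^ m) = histP c.perm m := by
  unfold histE histP
  simp only [elt_pow_apply hok]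
  rw [Fin.sum_univ_eq_sum_range (fun x => 1000 ^ colAt x (iterP c.perm m x)) 315]
  rfl

/-- All certificates. -/
def certs : List ClassCert :=
  [cert0, cert1, cert2, cert3, cert4, cert5, cert6, cert7, cert8, cert9, cert10, cert11, cert12,
    cert13, cert14, cert15, cert16, cert17, cert18, cert19, cert20]

theorem certs_ok : ∀ c ∈ certs, c.ok = true := by
  simp only [certs, List.forall_mem_cons, List.forall_mem_nil, and_true, List.not_mem_nil,
    false_imp_iff, implies_true, cert0_ok, cert1_ok, cert2_ok, cert3_ok, cert4_ok, cert5_ok,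
    cert6_ok, cert7_ok, cert8_ok, cert9_ok, cert10_ok, cert11_ok, cert12_ok, cert13_ok, cert14_ok,
    cert15_ok, cert16_ok, cert17_ok, cert18_ok, cert19_ok, cert20_ok, and_self]

theorem certs_equation : (certs.map fun c => 604800 / c.bound).sum = 604800 ∧
    (certs.map fun c => (c.hist1, c.hist3)).Nodup ∧
    (certs.map fun c => c.ord).toFinset = {1, 2, 3, 4, 5, 6, 7, 8, 10, 12, 15} := by
  decide +kernel

/-- The representative of a class. -/
noncomputable def classRep (i : Fin certs.length) : J := ⟨certs[i].elt, certs[i].elt_mem⟩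

/-- The class of a certified element. -/
noncomputable def classOf (i : Fin certs.length) : Set J :=
  MulAction.orbit (ConjAct J) (classRep i)

theorem classOf_ncard_ge : ∀ i, 604800 / certs[i].bound ≤ (classOf i).ncard := by
  intro i
  have hcard : Nat.card (MulAction.stabilizer (ConjAct J) (classRep i)) =
      Nat.card (fixC (certs[i].elt) ∅) := by
    refine Nat.card_congr
      { toFun := fun h => ⟨((ConjAct.ofConjAct h.1 : J) : Equiv.Perm (Fin 315)), ?_⟩
        invFun := fun h => ⟨ConjAct.toConjAct ⟨h.1, (mem_fixC.mp h.2).1⟩, ?_⟩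
        left_inv := fun h => rfl
        right_inv := fun h => rfl }
    · refine mem_fixC.mpr ⟨(ConjAct.ofConjAct h.1).2, ?_, by simp⟩
      have e := congrArg Subtype.val (MulAction.mem_stabilizer_iff.mp h.2)
      rw [ConjAct.smul_def] at e
      exact mul_inv_eq_iff_eq_mul.mp e
    · rw [MulAction.mem_stabilizer_iff, ConjAct.smul_def]
      exact Subtype.ext (mul_inv_eq_iff_eq_mul.mpr (mem_fixC.mp h.2).2.1)
  have hp := Nat.card_congr (MulAction.orbitProdStabilizerEquivGroup (ConjAct J) (classRep i))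
  rw [Nat.card_prod, Nat.card_coe_set_eq, hcard] at hp
  have hc : Nat.card (ConjAct J) = 604800 := card_J
  rw [hc] at hp
  have hle := fixC_empty_le (certs_ok _ (List.getElem_mem i.isLt))
  change (classOf i).ncard * _ = _ at hp
  have hpos : 0 < Nat.card (fixC (certs[i].elt) ∅) := Nat.card_pos
  calc 604800 / certs[i].bound ≤ 604800 / Nat.card (fixC (certs[i].elt) ∅) :=
        Nat.div_le_div_left hle hpos
    _ = (classOf i).ncard := by rw [← hp, Nat.mul_div_cancel _ hpos]
theorem classOf_inv : ∀ i, ∀ z ∈ classOf i,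
    histE z.1 = certs[i].hist1 ∧ histE (z.1 ^ 3) = certs[i].hist3 := by
  rintro i z ⟨h, rfl⟩
  have ok := certs_ok _ (List.getElem_mem i.isLt)
  obtain ⟨-, -, -, -, -, -, -, e1, e3⟩ := ClassCert.parts ok
  set k : Equiv.Perm (Fin 315) := ((ConjAct.ofConjAct h : J) : Equiv.Perm (Fin 315)) with hk
  have hkJ : k ∈ J := (ConjAct.ofConjAct h).2
  have e : ((h • classRep i : J) : Equiv.Perm (Fin 315)) = k * certs[i].elt * k⁻¹ := by
    rw [ConjAct.smul_def]; rfl
  refine ⟨?_, ?_⟩
  · change histE ((h • classRep i : J) : Equiv.Perm (Fin 315)) = _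
    rw [e, histE_conj hkJ, ← pow_one certs[i].elt]
    exact (histE_elt ok 1).trans e1
  · change histE (((h • classRep i : J) : Equiv.Perm (Fin 315)) ^ 3) = _
    rw [e, conj_pow, histE_conj hkJ]
    exact (histE_elt ok 3).trans e3
theorem classOf_disjoint : Pairwise (Function.onFun Disjoint classOf) := by
  obtain ⟨-, hnd, -⟩ := certs_equation
  intro i j hij
  refine Set.disjoint_left.mpr fun z hi hj => hij ?_
  obtain ⟨a1, a3⟩ := classOf_inv i z hi
  obtain ⟨b1, b3⟩ := classOf_inv j z hj
  have hi' : i.1 < (certs.map fun c => (c.hist1, c.hist3)).length := by simp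
  have hj' : j.1 < (certs.map fun c => (c.hist1, c.hist3)).length := by simp
  refine Fin.ext ((List.Nodup.getElem_inj_iff hnd (hi := hi') (hj := hj')).mp ?_)
  simp only [List.getElem_map]
  exact Prod.ext (a1.symm.trans b1) (a3.symm.trans b3)
theorem classOf_exhaust :
    (⋃ i, classOf i) = Set.univ ∧ ∀ i, (classOf i).ncard = 604800 / certs[i].bound := by
  obtain ⟨hsum, -, -⟩ := certs_equation
  have hs : ∑ i : Fin certs.length, 604800 / certs[i].bound = 604800 := by
    conv_rhs => rw [← hsum]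
    rw [← List.sum_ofFn]
    exact congrArg List.sum (List.ofFn_getElem_eq_map certs (fun c => 604800 / c.bound))
  have htot : (⋃ i, classOf i).ncard = ∑ i, (classOf i).ncard := by
    rw [Set.ncard_iUnion_of_finite (fun i => Set.toFinite _) classOf_disjoint,
      finsum_eq_sum_of_fintype]
  have hle : (⋃ i, classOf i).ncard ≤ 604800 := by
    rw [← card_J, ← Set.ncard_univ]
    exact Set.ncard_le_ncard (Set.subset_univ _)
  have hge : ∑ i : Fin certs.length, 604800 / certs[i].bound ≤ ∑ i, (classOf i).ncard :=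
    Finset.sum_le_sum fun i _ => classOf_ncard_ge i
  refine ⟨Set.eq_of_subset_of_ncard_le (Set.subset_univ _) ?_, fun i => ?_⟩
  · rw [Set.ncard_univ, card_J]; omega
  · exact (((Finset.sum_eq_sum_iff_of_le fun i _ => classOf_ncard_ge i).mp (by omega)) i
      (Finset.mem_univ i)).symm

/-- Every element is conjugate to a certified one. -/
theorem conj_cert {x : Equiv.Perm (Fin 315)} (hx : x ∈ J) :
    ∃ c ∈ certs, ∃ h ∈ J, h * c.elt * h⁻¹ = x := by
  obtain ⟨i, h, e⟩ := Set.mem_iUnion.mp (classOf_exhaust.1 ▸ Set.mem_univ (⟨x, hx⟩ : J))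
  refine ⟨certs[i], List.getElem_mem i.isLt, _, (ConjAct.ofConjAct h).2, ?_⟩
  have := congrArg Subtype.val e
  change ((h • classRep i : J) : Equiv.Perm (Fin 315)) = x at this
  rwa [ConjAct.smul_def] at this

theorem orderOf_range_J : Set.range (orderOf : J → ℕ) = {1, 2, 3, 4, 5, 6, 7, 8, 10, 12, 15} := by
  have h := certs_equation.2.2
  have hord : ∀ n, n ∈ ({1, 2, 3, 4, 5, 6, 7, 8, 10, 12, 15} : Finset ℕ) ↔
      ∃ c ∈ certs, c.ord = n := fun n => by
    rw [← h, List.mem_toFinset, List.mem_map]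
  ext n
  have hn := hord n
  simp only [Finset.mem_insert, Finset.mem_singleton] at hn
  simp only [Set.mem_range, Set.mem_insert_iff, Set.mem_singleton_iff, hn]
  constructor
  · rintro ⟨x, rfl⟩
    obtain ⟨c, hc, k, -, e⟩ := conj_cert x.2
    refine ⟨c, hc, ?_⟩
    rw [← Subgroup.orderOf_coe, ← e, ← orderOf_elt (certs_ok c hc)]
    exact (MulAut.conj k).orderOf_eq c.elt |>.symm
  · rintro ⟨c, hc, rfl⟩
    exact ⟨⟨c.elt, c.elt_mem⟩, by rw [← Subgroup.orderOf_coe]; exact orderOf_elt (certs_ok c hc)⟩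

end CfsgLib.J2
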