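import Cfsg.Agent.Lib.J2.Fusion
import Cfsg.Agent.Lib.IsolatedMin.Basic

/-!
The 2-fusion system of a group isomorphic to `J2` is simple.
-/

set_option autoImplicit false
set_option linter.style.haveILetI false

namespace CfsgLib.J2.Fus

open Cfsg Cfsg.FusionSystem CfsgLib.Fusion CfsgLib.J2.Mult

theorem isPGroup_S₀ : IsPGroup 2 S₀ :=
  IsPGroup.of_card (n := 7) (by rw [card_S₀]; norm_num)

theorem zE_mem_of_normal {T : Subgroup J} (hT : T ≠ ⊥) (hTS : T ≤ S₀)
    (hn : ∀ x ∈ T, ∀ s ∈ S₀, s * x * s⁻¹ ∈ T) : zE ∈ T := by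
  haveI : (T.subgroupOf S₀).Normal := ⟨fun x hx s => hn _ hx _ s.2⟩
  haveI := Fact.mk Nat.prime_two
  have hne : T.subgroupOf S₀ ≠ ⊥ := fun h => hT (by
    rw [Subgroup.subgroupOf_eq_bot] at h
    exact disjoint_self.mp (h.mono_right hTS))
  obtain ⟨x, hx, hx1⟩ := (Subgroup.bot_or_exists_ne_one _).resolve_left
    (CfsgLib.IsolatedMin.inf_center_ne_bot isPGroup_S₀ _ hne)
  rcases center_cases x.2 (fun j hj =>
      (congrArg Subtype.val (Subgroup.mem_center_iff.mp hx.2 ⟨_, gS_mem hj⟩)).symm) with h | h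
  · exact absurd (Subtype.ext h) hx1
  · exact h ▸ hx.1

theorem g_eq : el (tW ++ uW) = el tW * el uW := el_append _ _

theorem two_part_order {a : List ℕ} (h : sameOn (a ++ a) [] = true) :
    ∃ k : ℕ, orderOf (el a) = 2 ^ k := by
  obtain ⟨k, -, hk⟩ := (Nat.dvd_prime_pow Nat.prime_two).mp
    (show orderOf (el a) ∣ 2 ^ 1 from orderOf_dvd_of_pow_eq_one (by
      rw [pow_one, sq]; exact mul_self_eq_one h))
  exact ⟨k, hk⟩

theorem isSimple {G : Type*} [Group G] [Finite G] (hG : Cfsg.Spor.IsoJ2 G) (S : Sylow 2 G) :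
    (Cfsg.groupFusionSystem (S : Subgroup G)).IsSimple 2 := by
  haveI := Fact.mk Nat.prime_two
  obtain ⟨ψ⟩ := hG
  let e₀ : J ≃* G := (ψ.trans equivJ).symm
  obtain ⟨c, hc⟩ := exists_conj_le_sylow S (isPGroup_S₀.map e₀.toMonoidHom)
  let e : J ≃* G := e₀.trans (MulAut.conj c)
  have hmap : S₀.map e.toMonoidHom = (S : Subgroup G) := by
    have hle : S₀.map e.toMonoidHom ≤ (S : Subgroup G) := by
      rw [show e.toMonoidHom = (MulAut.conj c).toMonoidHom.comp e₀.toMonoidHom from rfl,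
        ← Subgroup.map_map]
      exact hc
    refine Subgroup.eq_of_le_of_card_ge hle ?_
    rw [Subgroup.card_map_of_injective (K := S₀) e.injective, card_S₀]
    obtain ⟨n, hn⟩ := IsPGroup.iff_card.mp S.isPGroup'
    have hd := (S : Subgroup G).card_subgroup_dvd_card
    rw [hn, ← Nat.card_congr e.toEquiv, card_J] at hd
    rw [hn]
    by_contra hlt
    have h8 : 8 ≤ n := by
      by_contra h
      exact hlt ((Nat.pow_le_pow_right two_pos (by omega : n ≤ 7)).trans (by norm_num))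
    exact absurd ((pow_dvd_pow 2 h8).trans hd) (by norm_num)
  have memS : ∀ {x : J}, e x ∈ (S : Subgroup G) ↔ x ∈ S₀ := fun {x} => by
    rw [← hmap]
    exact Subgroup.mem_map_equiv.trans (by rw [MulEquiv.symm_apply_apply])
  have memR : ∀ {x : J}, e x ∈ Q₀.map e.toMonoidHom ↔ x ∈ Q₀ := fun {x} =>
    Subgroup.mem_map_equiv.trans (by rw [MulEquiv.symm_apply_apply])
  refine isSimple_group S ?_ (fun T hT => ?_) ?_
  · intro h
    have := memS.mpr zE_mem
    rw [h, Subgroup.mem_bot] at this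
    exact zE_ne_one (e.injective (this.trans e.map_one.symm))
  · refine or_iff_not_imp_left.mpr fun hne => ?_
    set T' := T.comap e.toMonoidHom
    have hT'S : T' ≤ S₀ := fun x hx => memS.mp (hT.1 hx)
    have hcl : ∀ x ∈ T', ∀ h : J, h * x * h⁻¹ ∈ S₀ → h * x * h⁻¹ ∈ T' := by
      intro x hx h hh
      have hP : Subgroup.zpowers (e x) ≤ T := Subgroup.zpowers_le.mpr hx
      have hm := memS.mpr hh
      rw [map_mul, map_mul, map_inv] at hm
      have hmapS : ∀ y ∈ Subgroup.zpowers (e x), e h * y * (e h)⁻¹ ∈ (S : Subgroup G) := by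
        rintro _ ⟨i, rfl⟩
        show e h * e x ^ i * (e h)⁻¹ ∈ _
        rw [← conj_zpow]; exact zpow_mem hm i
      obtain ⟨φ, hφ, hv⟩ := isMap_group_iff.mpr ⟨hP.trans hT.1, hmapS, e h, fun _ _ => rfl⟩
      have := hT.2 _ hP φ hφ ⟨e x, Subgroup.mem_zpowers _⟩
      rw [hv] at this
      show e (h * x * h⁻¹) ∈ T
      simpa using this
    have hne' : T' ≠ ⊥ := fun h => hne (by
      rw [← Subgroup.map_comap_eq_self_of_surjective (f := e.toMonoidHom) e.surjective T]
      show T'.map e.toMonoidHom = ⊥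
      rw [h, Subgroup.map_bot])
    have hz := zE_mem_of_normal hne' hT'S fun x hx s hs =>
      hcl x hx s (mul_mem (mul_mem hs (hT'S hx)) (inv_mem hs))
    rw [← hmap, ← closed_eq T' hT'S hcl hz]
    exact (Subgroup.map_comap_eq_self_of_surjective (f := e.toMonoidHom) e.surjective T).symm
  · have hR : Q₀.map e.toMonoidHom ≤ (S : Subgroup G) := hmap ▸ Subgroup.map_mono Q₀_le
    obtain ⟨hNt, hNu, hNS⟩ := norm_Q₀
    have hnorm : ∀ {x : J}, x ∈ Subgroup.normalizer (Q₀ : Set J) →
        e x ∈ Subgroup.normalizer ((Q₀.map e.toMonoidHom : Subgroup G) : Set G) := fun {x} hx =>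
      Subgroup.mem_normalizer_fintype fun y hy => by
        obtain ⟨q, hq, rfl⟩ := hy
        show e x * e q * (e x)⁻¹ ∈ _
        rw [← map_inv, ← map_mul, ← map_mul]
        exact memR.mpr ((Subgroup.mem_normalizer_iff.mp hx q).mp hq)
    have hSN : (S : Subgroup G) ≤ Subgroup.normalizer ((Q₀.map e.toMonoidHom : Subgroup G) : Set G) := by
      rw [← hmap]
      rintro _ ⟨s, hs, rfl⟩
      exact hnorm (hNS hs)
    have hfn : (groupFusionSystem (S : Subgroup G)).IsFullyNormalized (Q₀.map e.toMonoidHom) := by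
      refine ⟨hR, fun P hP => Subgroup.card_le_of_le ?_⟩
      exact inf_le_left.trans (le_inf le_rfl hSN)
    have hcen : (groupFusionSystem (S : Subgroup G)).IsCentric (Q₀.map e.toMonoidHom) := by
      refine isCentric_of_fullyCentralized S.isPGroup' (isSaturated_group S)
        (isFullyCentralized_group_of_normalized S hR hfn) ?_
      rintro y ⟨hy, hyc⟩
      obtain ⟨x, rfl⟩ := e.surjective y
      refine memR.mpr (cent_Q₀ (memS.mp hy) fun i => e.injective ?_)
      rw [map_mul, map_mul]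
      exact (Subgroup.mem_centralizer_iff.mp hyc _
        (memR.mpr (Subgroup.subset_closure (Set.mem_range_self i)))).symm
    refine le_trans ?_ (le_iSup₂_of_le (Q₀.map e.toMonoidHom) ⟨hfn, hcen⟩ le_rfl)
    intro α hα
    obtain ⟨n, -, hv⟩ := (mem_autInducedBy_iff _ _ _).1 hα
    refine (mem_autInducedBy_iff _ _ _).2 ⟨n, ?_, hv⟩
    set A := Subgroup.closure {g : G | g ∈ Subgroup.normalizer
      ((Q₀.map e.toMonoidHom : Subgroup G) : Set G) ∧ ∃ k : ℕ, orderOf g = 2 ^ k}
    obtain ⟨x, rfl⟩ := e.surjective n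
    have hxn : x ∈ Subgroup.normalizer (S₀ : Set J) := Subgroup.mem_normalizer_fintype fun s hs => by
      refine memS.mp ?_
      rw [map_mul, map_mul, map_inv]
      have := hv ⟨e s, memS.mpr hs⟩
      simp only at this
      rw [← this]
      exact SetLike.coe_mem _
    have hle : S₀ ⊔ Subgroup.zpowers (el (tW ++ uW)) ≤ A.comap e.toMonoidHom := by
      refine sup_le (fun s hs => ?_) (Subgroup.zpowers_le.mpr ?_)
      · refine Subgroup.subset_closure ⟨hnorm (hNS hs), ?_⟩
        obtain ⟨k, hk⟩ := IsPGroup.iff_orderOf.1 isPGroup_S₀ ⟨s, hs⟩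
        exact ⟨k, by rw [← hk, ← Subgroup.orderOf_coe]; exact e.orderOf_eq s⟩
      · have h := normOK_true
        simp only [normOK, Bool.and_eq_true] at h
        rw [g_eq, Subgroup.mem_comap, map_mul]
        refine mul_mem (Subgroup.subset_closure ⟨hnorm hNt, ?_⟩) (Subgroup.subset_closure ⟨hnorm hNu, ?_⟩)
        · obtain ⟨k, hk⟩ := two_part_order h.1.1.1.1.1.1.1.2
          exact ⟨k, (e.orderOf_eq _).trans hk⟩
        · obtain ⟨k, hk⟩ := two_part_order h.1.1.1.1.1.1.2
          exact ⟨k, (e.orderOf_eq _).trans hk⟩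
    exact hle (normalizer_eq hxn)

end CfsgLib.J2.Fus
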