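import Cfsg.Agent.Lib.J2.QuatData

/-!
The icosian ring in coordinates: membership is a parity condition.
-/

set_option autoImplicit false

namespace CfsgLib.J2

open Quaternion Cfsg.Spor

/-- the parities of the coordinates as one number below 256 -/
def parIdx (x : Q) : ℕ :=
  (x.a0 % 2).toNat + 2 * ((x.b0 % 2).toNat + 2 * ((x.a1 % 2).toNat + 2 * ((x.b1 % 2).toNat +
    2 * ((x.a2 % 2).toNat + 2 * ((x.b2 % 2).toNat + 2 * ((x.a3 % 2).toNat +
      2 * (x.b3 % 2).toNat))))))

/-- the parity code as a bit mask -/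
def codeMask : ℕ := 57896044672683303739491374337242194723106152940323587100272175209821643997185

/-- membership in the icosian ring -/
def inI (x : Q) : Bool := Nat.testBit codeMask (parIdx x)

/-- membership in twice the icosian ring -/
def inI2 (x : Q) : Bool := x.even && inI (Q.half x)

/-- the basis -/
def basis : List Q := basisIdx.map fun i => units.getD i Q.zero

/-- integer combination -/
def comb : List ℤ → List Q → Q
  | c :: cs, b :: bs => Q.add (Q.smul c b) (comb cs bs)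
  | _, _ => Q.zero

/-- twice the coordinate vectors -/
def twos : List Q :=
  [⟨2, 0, 0, 0, 0, 0, 0, 0⟩, ⟨0, 2, 0, 0, 0, 0, 0, 0⟩, ⟨0, 0, 2, 0, 0, 0, 0, 0⟩,
    ⟨0, 0, 0, 2, 0, 0, 0, 0⟩, ⟨0, 0, 0, 0, 2, 0, 0, 0⟩, ⟨0, 0, 0, 0, 0, 2, 0, 0⟩,
    ⟨0, 0, 0, 0, 0, 0, 2, 0⟩, ⟨0, 0, 0, 0, 0, 0, 0, 2⟩]

/-- the generator `i` -/
def gI : Q := ⟨0, 0, 2, 0, 0, 0, 0, 0⟩
/-- the generator `½(1 + σi + τk)` -/
def gS : Q := ⟨1, 0, 1, -1, 0, 0, 0, 1⟩
/-- the element `h` -/
def hQ : Q := ⟨1, -2, 1, 0, 1, 0, 1, 0⟩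
/-- the conjugate of `h` -/
def hQb : Q := Q.conj hQ

/-- the two generators by index -/
def gen2 : ℕ → Q
  | 0 => gI
  | _ => gS

/-- checks of the unit tree -/
def unitTreeOK : Bool :=
  Q.beq (units.getD 0 Q.zero) Q.one && units.length == 120 &&
    ((List.range 119).all fun n =>
      decide ((unitTree.getD n (0, 0)).2 ≤ n) &&
        (let y := Q.raw (gen2 (unitTree.getD n (0, 0)).1) (units.getD (unitTree.getD n (0, 0)).2 Q.zero)
         Q.beq y (Q.smul 2 (units.getD (n + 1) Q.zero))))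

/-- checks of the code and basis -/
def codeOK : Bool :=
  basis.all inI && inI gI && inI gS && inI Q.zero && inI Q.one &&
  code.all (fun x => code.all fun y => inI (Q.add x y) && Q.beq (Q.mod2 x) x) &&
  code.all (fun x => Q.beq (Q.mod2 x) x && inI (Q.neg x)) &&
  code.length == 16 &&
  (List.range 16).all (fun k => Q.beq (comb (codeCoef.getD k []) basis) (code.getD k Q.zero)) &&
  (List.range 8).all (fun k => Q.beq (comb (twoCoef.getD k []) basis) (twos.getD k Q.zero)) &&
  basis.all (fun x => basis.all fun y => (Q.raw x y).even && inI (Q.mul x y))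

theorem unitTreeOK_true : unitTreeOK = true := by decide +kernel

theorem codeOK_true : codeOK = true := by decide +kernel

theorem two_ne : (2 : ℍ[ℝ]) ≠ 0 := fun h => by
  have := congrArg (fun z : ℍ[ℝ] => z.re) h
  simp [← one_add_one_eq_two] at this

/-- zero and one -/
def bits : List ℤ := [0, 1]

/-- the bit mask is the code -/
def maskOK : Bool :=
  bits.all fun a0 => bits.all fun b0 => bits.all fun a1 => bits.all fun b1 =>
    bits.all fun a2 => bits.all fun b2 => bits.all fun a3 => bits.all fun b3 =>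
      inI ⟨a0, b0, a1, b1, a2, b2, a3, b3⟩ == code.any (Q.beq ⟨a0, b0, a1, b1, a2, b2, a3, b3⟩)

theorem maskOK_true : maskOK = true := by decide +kernel

theorem inI_iff {x : Q} : inI x = true ↔ Q.mod2 x ∈ code := by
  have hb : ∀ a : ℤ, a % 2 ∈ bits := fun a => by
    rcases Int.emod_two_eq_zero_or_one a with h | h <;> simp [bits, h]
  have h := maskOK_true
  simp only [maskOK, List.all_eq_true, beq_iff_eq] at h
  have h' := h _ (hb x.a0) _ (hb x.b0) _ (hb x.a1) _ (hb x.b1) _ (hb x.a2) _ (hb x.b2) _ (hb x.a3)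
    _ (hb x.b3)
  have e : inI x = inI (Q.mod2 x) := by simp [inI, parIdx, Q.mod2]
  rw [e, Q.mod2, h', List.any_eq_true]
  exact ⟨fun ⟨c, hc, h⟩ => Q.eq_of_beq h ▸ hc, fun h => ⟨_, h, Q.beq_self _⟩⟩

attribute [irreducible] inI codeMask

theorem mod2_add (x y : Q) : Q.mod2 (Q.add (Q.mod2 x) (Q.mod2 y)) = Q.mod2 (Q.add x y) := by
  simp only [Q.mod2, Q.add, Q.mk.injEq]
  refine ⟨?_, ?_, ?_, ?_, ?_, ?_, ?_, ?_⟩ <;> exact (Int.add_emod _ _ _).symm

theorem mod2_neg (x : Q) : Q.mod2 (Q.neg x) = Q.mod2 x := by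
  simp only [Q.mod2, Q.neg, Q.mk.injEq]
  refine ⟨?_, ?_, ?_, ?_, ?_, ?_, ?_, ?_⟩ <;> omega

theorem mod2_conj (x : Q) : Q.mod2 (Q.conj x) = Q.mod2 x := by
  simp only [Q.mod2, Q.conj, Q.mk.injEq]
  refine ⟨?_, ?_, ?_, ?_, ?_, ?_, ?_, ?_⟩ <;> first | trivial | exact Int.neg_emod_two _

theorem inI_add {x y : Q} (hx : inI x = true) (hy : inI y = true) : inI (Q.add x y) = true := by
  have h := codeOK_true
  simp only [codeOK, Bool.and_eq_true, List.all_eq_true] at h
  have h5 := (h.1.1.1.1.1.2 _ (inI_iff.mp hx) _ (inI_iff.mp hy)).1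
  rw [inI_iff, mod2_add] at h5
  exact inI_iff.mpr h5

theorem inI_neg {x : Q} (hx : inI x = true) : inI (Q.neg x) = true := by
  rw [inI_iff, mod2_neg]; exact inI_iff.mp hx

theorem inI_conj {x : Q} (hx : inI x = true) : inI (Q.conj x) = true := by
  rw [inI_iff, mod2_conj]; exact inI_iff.mp hx

theorem inI_sub {x y : Q} (hx : inI x = true) (hy : inI y = true) : inI (Q.sub x y) = true := by
  have h := inI_add hx (inI_neg hy)
  simpa [Q.add, Q.neg, Q.sub, sub_eq_add_neg] using h

theorem unit_mem_icosians : ∀ n, n < 120 → phi (units.getD n Q.zero) ∈ icosians := by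
  have h := unitTreeOK_true
  simp only [unitTreeOK, Bool.and_eq_true, List.all_eq_true, List.mem_range,
    decide_eq_true_eq] at h
  intro n
  induction n using Nat.strong_induction_on with
  | _ n ih =>
    intro hn
    rcases n with _ | m
    · rw [Q.eq_of_beq h.1.1, phi_one]; exact one_mem _
    · obtain ⟨hle, he⟩ := h.2 m (by omega)
      have h2 := congrArg phi (Q.eq_of_beq he)
      rw [phi_raw, phi_two] at h2
      rw [← mul_left_cancel₀ two_ne h2]
      refine mul_mem ?_ (ih _ (Nat.lt_succ_of_le hle) (by omega))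
      rcases (unitTree.getD m (0, 0)).1 with _ | k
      · refine Subring.subset_closure (Or.inl ?_)
        ext <;> simp [gen2, gI, qI]
      · refine Subring.subset_closure (Or.inr ?_)
        ext <;> simp [gen2, gS, sig_eq, sub_eq_add_neg]

/-- The additive group spanned by the basis. -/
noncomputable def span : AddSubgroup ℍ[ℝ] := AddSubgroup.closure (phi '' {x | x ∈ basis})

theorem phi_comb_mem : ∀ (c : List ℤ) (l : List Q), (∀ b ∈ l, b ∈ basis) → phi (comb c l) ∈ span
  | [], l, _ => by simp [comb, phi_zero]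
  | _ :: _, [], _ => by simp [comb, phi_zero]
  | c :: cs, b :: bs, hl => by
    rw [comb, phi_add, phi_smul]
    refine add_mem ?_ (phi_comb_mem cs bs fun x hx => hl x (List.mem_cons_of_mem _ hx))
    have hb : phi b ∈ span :=
      AddSubgroup.subset_closure ⟨b, hl b (List.mem_cons_self ..), rfl⟩
    rw [Int.cast_smul_eq_zsmul]
    exact zsmul_mem hb c

theorem span_le_icosians : span ≤ icosians.toAddSubgroup := by
  refine (AddSubgroup.closure_le _).mpr ?_
  rintro _ ⟨x, hx, rfl⟩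
  simp only [Set.mem_setOf_eq, basis, List.mem_map] at hx
  obtain ⟨i, hi, rfl⟩ := hx
  refine unit_mem_icosians i ?_
  simp only [basisIdx, List.mem_cons, List.not_mem_nil, or_false] at hi
  omega

theorem phi_mem_span {x : Q} (hx : inI x = true) : phi x ∈ span := by
  have h := codeOK_true
  simp only [codeOK, Bool.and_eq_true, List.all_eq_true, List.mem_range, beq_iff_eq] at h
  obtain ⟨k, hk, hke⟩ := List.mem_iff_getElem.mp (inI_iff.mp hx)
  have hc : phi (Q.mod2 x) ∈ span := by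
    have h2 := h.1.1.2 k (h.1.1.1.2 ▸ hk)
    rw [List.getD_eq_getElem _ _ hk, hke] at h2
    rw [← Q.eq_of_beq h2]
    exact phi_comb_mem _ _ fun b hb => hb
  have ht : ∀ k, k < 8 → phi (twos.getD k Q.zero) ∈ span := fun k hk => by
    rw [← Q.eq_of_beq (h.1.2 k hk)]
    exact phi_comb_mem _ _ fun b hb => hb
  have hd : phi x = phi (Q.mod2 x) + ((x.a0 / 2) • phi (twos.getD 0 Q.zero)
      + (x.b0 / 2) • phi (twos.getD 1 Q.zero) + (x.a1 / 2) • phi (twos.getD 2 Q.zero)
      + (x.b1 / 2) • phi (twos.getD 3 Q.zero) + (x.a2 / 2) • phi (twos.getD 4 Q.zero)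
      + (x.b2 / 2) • phi (twos.getD 5 Q.zero) + (x.a3 / 2) • phi (twos.getD 6 Q.zero)
      + (x.b3 / 2) • phi (twos.getD 7 Q.zero)) := by
    have e : ∀ a : ℤ, (a : ℝ) = ((a % 2 : ℤ) : ℝ) + 2 * ((a / 2 : ℤ) : ℝ) := fun a => by
      exact_mod_cast (Int.emod_add_mul_ediv a 2).symm
    ext <;> simp [twos, Q.mod2]
    · linear_combination (1 / 2 : ℝ) * e x.a0 + tau / 2 * e x.b0
    · linear_combination (1 / 2 : ℝ) * e x.a1 + tau / 2 * e x.b1
    · linear_combination (1 / 2 : ℝ) * e x.a2 + tau / 2 * e x.b2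
    · linear_combination (1 / 2 : ℝ) * e x.a3 + tau / 2 * e x.b3
  rw [hd]
  exact add_mem hc (add_mem (add_mem (add_mem (add_mem (add_mem (add_mem (add_mem
    (zsmul_mem (ht 0 (by omega)) _) (zsmul_mem (ht 1 (by omega)) _))
    (zsmul_mem (ht 2 (by omega)) _)) (zsmul_mem (ht 3 (by omega)) _))
    (zsmul_mem (ht 4 (by omega)) _)) (zsmul_mem (ht 5 (by omega)) _))
    (zsmul_mem (ht 6 (by omega)) _)) (zsmul_mem (ht 7 (by omega)) _))

/-- The parity subgroup. -/
noncomputable def par : AddSubgroup ℍ[ℝ] where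
  carrier := phi '' {x | inI x = true}
  zero_mem' := ⟨Q.zero, by decide +kernel, phi_zero⟩
  add_mem' := by
    rintro _ _ ⟨x, hx, rfl⟩ ⟨y, hy, rfl⟩
    exact ⟨_, inI_add hx hy, phi_add x y⟩
  neg_mem' := by
    rintro _ ⟨x, hx, rfl⟩
    exact ⟨_, inI_neg hx, phi_neg x⟩

theorem span_eq_par : span = par := by
  refine le_antisymm ((AddSubgroup.closure_le _).mpr ?_) ?_
  · rintro _ ⟨x, hx, rfl⟩
    have h := codeOK_true
    simp only [codeOK, Bool.and_eq_true, List.all_eq_true] at h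
    exact ⟨x, h.1.1.1.1.1.1.1.1.1.1 x hx, rfl⟩
  · rintro _ ⟨x, hx, rfl⟩
    exact phi_mem_span hx

theorem mul_mem_span {a b : ℍ[ℝ]} (ha : a ∈ span) (hb : b ∈ span) : a * b ∈ span := by
  refine AddSubgroup.closure_induction₂ (p := fun u v _ _ => u * v ∈ span) ?_ ?_ ?_ ?_ ?_ ?_ ?_
    ha hb
  · rintro _ _ ⟨x, hx, rfl⟩ ⟨y, hy, rfl⟩
    have h := codeOK_true
    simp only [codeOK, Bool.and_eq_true, List.all_eq_true] at h
    obtain ⟨he, hm⟩ := h.2 x hx y hy
    have h2 := congrArg phi (smul_two_half he)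
    rw [phi_two, phi_raw] at h2
    rw [← mul_left_cancel₀ two_ne h2]
    exact phi_mem_span hm
  · intros; simp
  · intros; simp
  · intro a b c _ _ _ h1 h2; rw [add_mul]; exact add_mem h1 h2
  · intro a b c _ _ _ h1 h2; rw [mul_add]; exact add_mem h1 h2
  · intro a b _ _ h1; rw [neg_mul]; exact neg_mem h1
  · intro a b _ _ h1; rw [mul_neg]; exact neg_mem h1

theorem mem_icosians_iff {a : ℍ[ℝ]} :
    a ∈ icosians ↔ ∃ x : Q, inI x = true ∧ phi x = a := by
  constructor
  · intro h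
    have : a ∈ span := by
      refine Subring.closure_induction (p := fun u _ => u ∈ span) ?_ ?_ ?_ ?_ ?_ ?_ h
      · intro u hu
        have hg := codeOK_true
        simp only [codeOK, Bool.and_eq_true] at hg
        rcases hu with rfl | hu
        · have e : phi gI = qI := by ext <;> simp [gI, qI]
          exact e ▸ phi_mem_span hg.1.1.1.1.1.1.1.1.1.2
        · rcases hu with rfl
          have e : phi gS = ⟨1 / 2, sig / 2, 0, tau / 2⟩ := by
            ext <;> simp [gS, sig_eq, sub_eq_add_neg]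
          exact e ▸ phi_mem_span hg.1.1.1.1.1.1.1.1.2
      · exact zero_mem _
      · have hg := codeOK_true
        simp only [codeOK, Bool.and_eq_true] at hg
        exact phi_one ▸ phi_mem_span hg.1.1.1.1.1.1.2
      · intros; exact add_mem ‹_› ‹_›
      · intros; exact neg_mem ‹_›
      · intros; exact mul_mem_span ‹_› ‹_›
    rw [span_eq_par] at this
    exact this
  · rintro ⟨x, hx, rfl⟩
    exact span_le_icosians (phi_mem_span hx)

theorem phi_mem_iff {x : Q} : phi x ∈ icosians ↔ inI x = true := by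
  rw [mem_icosians_iff]
  exact ⟨fun ⟨y, hy, e⟩ => phi_injective e ▸ hy, fun h => ⟨x, h, rfl⟩⟩

theorem raw_eq {x y : Q} (hx : inI x = true) (hy : inI y = true) :
    Q.raw x y = Q.smul 2 (Q.mul x y) ∧ inI (Q.mul x y) = true := by
  obtain ⟨z, hz, e⟩ := mem_icosians_iff.mp (mul_mem (phi_mem_iff.mpr hx) (phi_mem_iff.mpr hy))
  have h1 : Q.raw x y = Q.smul 2 z := phi_injective (by rw [phi_raw, phi_two, e])
  rw [Q.mul, h1, half_smul_two]
  exact ⟨rfl, hz⟩

theorem phi_mul {x y : Q} (hx : inI x = true) (hy : inI y = true) :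
    phi (Q.mul x y) = phi x * phi y := by
  have h := congrArg phi (raw_eq hx hy).1
  rw [phi_raw, phi_two] at h
  exact (mul_left_cancel₀ two_ne h).symm

theorem inI_mul {x y : Q} (hx : inI x = true) (hy : inI y = true) : inI (Q.mul x y) = true :=
  (raw_eq hx hy).2

theorem inI2_iff {x : Q} : inI2 x = true ↔ ∃ y, inI y = true ∧ x = Q.smul 2 y := by
  simp only [inI2, Bool.and_eq_true]
  constructor
  · rintro ⟨he, hh⟩
    exact ⟨_, hh, (smul_two_half he).symm⟩
  · rintro ⟨y, hy, rfl⟩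
    exact ⟨even_smul_two y, by rwa [half_smul_two]⟩

theorem leftIdeal_iff {q qb : Q} (hq : inI q = true) (hqb : inI qb = true)
    (h1 : Q.mul q qb = Q.smul 2 Q.one) (h2 : Q.mul qb q = Q.smul 2 Q.one) {x : Q}
    (hx : inI x = true) :
    phi x ∈ leftIdeal (phi q) ↔ inI2 (Q.mul x qb) = true := by
  have e1 : phi q * phi qb = 2 := by rw [← phi_mul hq hqb, h1, phi_two, phi_one, mul_one]
  have e2 : phi qb * phi q = 2 := by rw [← phi_mul hqb hq, h2, phi_two, phi_one, mul_one]
  have h2c : ∀ a : ℍ[ℝ], a * 2 = 2 * a := fun a => by rw [mul_two, two_mul]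
  rw [inI2_iff]
  constructor
  · rintro ⟨a, ha, he⟩
    obtain ⟨y, hy, rfl⟩ := mem_icosians_iff.mp ha
    refine ⟨y, hy, phi_injective ?_⟩
    rw [phi_mul hx hqb, he, mul_assoc, e1, phi_two, h2c]
  · rintro ⟨y, hy, he⟩
    refine ⟨phi y, phi_mem_iff.mpr hy, ?_⟩
    have := congrArg phi he
    rw [phi_mul hx hqb, phi_two] at this
    refine mul_left_cancel₀ two_ne ?_
    rw [← mul_assoc, ← this, mul_assoc, e2, h2c]

theorem phi_hQ : phi hQ = icoH := by
  ext <;> simp [hQ, icoH, sqrt_five_eq] <;> ring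

theorem phi_hQb : phi hQb = star icoH := by rw [hQb, phi_conj, phi_hQ]

end CfsgLib.J2
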