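import Cfsg.Agent.Lib.J2.Ico

/-!
The icosian Leech lattice: four generators, reflections, and the linearity of their products.
-/

set_option autoImplicit false

namespace CfsgLib.J2

open Quaternion Cfsg.Spor

/-- A triple of doubled quaternions. -/
structure V where
  /-- first component -/
  x : Q
  /-- second component -/
  y : Q
  /-- third component -/
  z : Q
deriving DecidableEq

namespace V

/-- fast equality -/
def beq (v w : V) : Bool := Q.beq v.x w.x && Q.beq v.y w.y && Q.beq v.z w.z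

theorem eq_of_beq {v w : V} (h : beq v w = true) : v = w := by
  cases v; cases w
  simp only [beq, Bool.and_eq_true] at h
  simp [Q.eq_of_beq h.1.1, Q.eq_of_beq h.1.2, Q.eq_of_beq h.2]

theorem beq_self (v : V) : beq v v = true := by simp [beq, Q.beq_self]

end V

/-- The vector of a triple. -/
noncomputable def phiV (v : V) : Fin 3 → ℍ[ℝ] := ![phi v.x, phi v.y, phi v.z]

theorem phiV_injective : Function.Injective phiV := by
  rintro ⟨a, b, c⟩ ⟨a', b', c'⟩ h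
  have h0 := congrFun h 0
  have h1 := congrFun h 1
  have h2 := congrFun h 2
  simp [phiV] at h0 h1 h2
  simp [phi_injective h0, phi_injective h1, phi_injective h2]

/-- left multiplication -/
noncomputable def lsmul (a : ℍ[ℝ]) (v : Fin 3 → ℍ[ℝ]) : Fin 3 → ℍ[ℝ] := fun t => a * v t

/-- left multiplication in coordinates -/
def V.lmul (a : Q) (v : V) : V := ⟨Q.mul a v.x, Q.mul a v.y, Q.mul a v.z⟩

/-- all components icosian -/
def V.ok (v : V) : Bool := inI v.x && inI v.y && inI v.z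

/-- membership in the lattice -/
def inL (v : V) : Bool :=
  v.ok && inI2 (Q.mul (Q.sub v.x v.y) hQb) && inI2 (Q.mul (Q.sub v.y v.z) hQb) &&
    inI2 (Q.mul (Q.add (Q.add v.x v.y) v.z) hQ)

theorem V.ok_iff {v : V} :
    v.ok = true ↔ inI v.x = true ∧ inI v.y = true ∧ inI v.z = true := by
  simp [V.ok, and_assoc]

theorem phiV_lmul {a : Q} {v : V} (ha : inI a = true) (hv : v.ok = true) :
    phiV (V.lmul a v) = lsmul (phi a) (phiV v) := by
  obtain ⟨h1, h2, h3⟩ := V.ok_iff.mp hv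
  funext t
  fin_cases t <;> simp [phiV, V.lmul, lsmul, phi_mul, ha, h1, h2, h3]

/-- checks of the constants -/
def constOK : Bool :=
  inI hQ && inI hQb && Q.beq (Q.mul hQ hQb) (Q.smul 2 Q.one) &&
    Q.beq (Q.mul hQb hQ) (Q.smul 2 Q.one) && inI ⟨2, -4, 0, 0, 0, 0, 0, 0⟩ &&
    Q.beq (Q.add hQ hQb) ⟨2, -4, 0, 0, 0, 0, 0, 0⟩

theorem constOK_true : constOK = true := by decide +kernel

theorem hh : icoH * star icoH = 2 ∧ star icoH * icoH = 2 ∧ icoH ∈ icosians ∧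
    star icoH ∈ icosians ∧ icoH + star icoH = phi ⟨2, -4, 0, 0, 0, 0, 0, 0⟩ ∧
    phi ⟨2, -4, 0, 0, 0, 0, 0, 0⟩ ∈ icosians := by
  have h := constOK_true
  simp only [constOK, Bool.and_eq_true] at h
  obtain ⟨⟨⟨⟨⟨h1, h2⟩, h3⟩, h4⟩, h5⟩, h6⟩ := h
  rw [← phi_hQb, ← phi_hQ, phi_mem_iff, phi_mem_iff, ← phi_mul h1 h2, ← phi_mul h2 h1,
    Q.eq_of_beq h3, Q.eq_of_beq h4, phi_two, phi_one, mul_one, ← phi_add, Q.eq_of_beq h6]
  exact ⟨rfl, rfl, h1, h2, rfl, phi_mem_iff.mpr h5⟩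

theorem phi_intCast (k : ℤ) : phi (Q.smul k Q.one) = (k : ℍ[ℝ]) := by
  ext <;> simp [Q.smul, Q.one]

theorem two_comm (a : ℍ[ℝ]) : a * 2 = 2 * a := by rw [mul_two, two_mul]

theorem inL_iff {v : V} (hv : v.ok = true) : phiV v ∈ icoLeech ↔ inL v = true := by
  obtain ⟨h1, h2, h3⟩ := V.ok_iff.mp hv
  have hc := constOK_true
  simp only [constOK, Bool.and_eq_true] at hc
  obtain ⟨⟨⟨⟨⟨c1, c2⟩, c3⟩, c4⟩, -⟩, -⟩ := hc
  have iA : ∀ {x : Q}, inI x = true →
      (phi x ∈ leftIdeal icoH ↔ inI2 (Q.mul x hQb) = true) := fun hx => by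
    rw [← phi_hQ]; exact leftIdeal_iff c1 c2 (Q.eq_of_beq c3) (Q.eq_of_beq c4) hx
  have iB : ∀ {x : Q}, inI x = true →
      (phi x ∈ leftIdeal (star icoH) ↔ inI2 (Q.mul x hQ) = true) := fun hx => by
    rw [← phi_hQb]; exact leftIdeal_iff c2 c1 (Q.eq_of_beq c4) (Q.eq_of_beq c3) hx
  have e1 := iA (inI_sub h1 h2)
  have e2 := iA (inI_sub h2 h3)
  have e3 := iB (inI_add (inI_add h1 h2) h3)
  rw [phi_sub] at e1 e2
  rw [phi_add, phi_add] at e3
  have hm : ∀ t, phiV v t ∈ icosians := by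
    intro t
    fin_cases t
    · simpa [phiV] using phi_mem_iff.mpr h1
    · simpa [phiV] using phi_mem_iff.mpr h2
    · simpa [phiV] using phi_mem_iff.mpr h3
  have p0 : phiV v 0 = phi v.x := by simp [phiV]
  have p1 : phiV v 1 = phi v.y := by simp [phiV]
  have p2 : phiV v 2 = phi v.z := by simp [phiV]
  rw [← p0, ← p1] at e1
  rw [← p1, ← p2] at e2
  rw [← p0, ← p1, ← p2] at e3
  unfold inL
  rw [hv, Bool.true_and, Bool.and_eq_true, Bool.and_eq_true, ← e1, ← e2, ← e3]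
  exact ⟨fun h => ⟨⟨h.2.1, h.2.2.1⟩, h.2.2.2⟩, fun h => ⟨hm, h.1.1, h.1.2, h.2⟩⟩

theorem ok_of_inL {v : V} (h : inL v = true) : v.ok = true := by
  simp only [inL, Bool.and_eq_true] at h; exact h.1.1.1

theorem mem_of_inL {v : V} (h : inL v = true) : phiV v ∈ icoLeech := (inL_iff (ok_of_inL h)).mpr h

theorem exists_coords {x : Fin 3 → ℍ[ℝ]} (hx : x ∈ icoLeech) :
    ∃ v : V, inL v = true ∧ phiV v = x := by
  obtain ⟨a, ha, ea⟩ := mem_icosians_iff.mp (hx.1 0)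
  obtain ⟨b, hb, eb⟩ := mem_icosians_iff.mp (hx.1 1)
  obtain ⟨c, hc, ec⟩ := mem_icosians_iff.mp (hx.1 2)
  have e : phiV ⟨a, b, c⟩ = x := by
    funext t; fin_cases t <;> simp [phiV, ea, eb, ec]
  exact ⟨⟨a, b, c⟩, (inL_iff (v := ⟨a, b, c⟩) ((V.ok_iff (v := ⟨a, b, c⟩)).mpr ⟨ha, hb, hc⟩)).mp (by rw [e]; exact hx), e⟩

theorem lsmul_mem {a : ℍ[ℝ]} (ha : a ∈ icosians) {v : Fin 3 → ℍ[ℝ]} (hv : v ∈ icoLeech) :
    lsmul a v ∈ icoLeech := by
  obtain ⟨h0, ⟨p, hp, ep⟩, ⟨q, hq, eq⟩, r, hr, er⟩ := hv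
  exact ⟨fun t => mul_mem ha (h0 t), ⟨a * p, mul_mem ha hp, by simp [lsmul, ← mul_sub, ep, mul_assoc]⟩,
    ⟨a * q, mul_mem ha hq, by simp [lsmul, ← mul_sub, eq, mul_assoc]⟩,
    a * r, mul_mem ha hr, by simp [lsmul, ← mul_add, er, mul_assoc]⟩

theorem sub_mem_icoLeech {v w : Fin 3 → ℍ[ℝ]} (hv : v ∈ icoLeech) (hw : w ∈ icoLeech) :
    v - w ∈ icoLeech := by
  obtain ⟨h0, ⟨p, hp, ep⟩, ⟨q, hq, eq⟩, r, hr, er⟩ := hv
  obtain ⟨g0, ⟨p', hp', ep'⟩, ⟨q', hq', eq'⟩, r', hr', er'⟩ := hw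
  refine ⟨fun t => sub_mem (h0 t) (g0 t), ⟨p - p', sub_mem hp hp', ?_⟩,
    ⟨q - q', sub_mem hq hq', ?_⟩, r - r', sub_mem hr hr', ?_⟩
  · rw [Pi.sub_apply, Pi.sub_apply, sub_mul, ← ep, ← ep']; abel
  · rw [Pi.sub_apply, Pi.sub_apply, sub_mul, ← eq, ← eq']; abel
  · rw [Pi.sub_apply, Pi.sub_apply, Pi.sub_apply, sub_mul, ← er, ← er']; abel

/-- the four generators -/
def gensV : List V :=
  [⟨hQ, hQ, Q.smul (-2) hQ⟩, ⟨hQb, hQb, hQb⟩, ⟨Q.zero, hQ, hQ⟩, ⟨Q.zero, Q.zero, Q.smul 2 Q.one⟩]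

/-- The four generators as vectors. -/
noncomputable def G4 : Fin 4 → Fin 3 → ℍ[ℝ] :=
  ![![icoH, icoH, -(2 * icoH)], ![star icoH, star icoH, star icoH], ![0, icoH, icoH], ![0, 0, 2]]

theorem G4_eq (i : Fin 4) : G4 i = phiV (gensV.get ⟨i.val, by simp [gensV, i.isLt]⟩) := by
  have hn : phi (Q.smul (-2) hQ) = -(2 * phi hQ) := by
    rw [two_mul]; ext <;> simp [hQ, Q.smul] <;> ring
  funext t
  fin_cases i <;> fin_cases t <;>
    simp [G4, gensV, phiV, phi_zero, phi_two, phi_one, phi_hQ, phi_hQb, hn]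

theorem decompose {v : Fin 3 → ℍ[ℝ]} (hv : v ∈ icoLeech) :
    ∃ c : Fin 4 → ℍ[ℝ], (∀ i, c i ∈ icosians) ∧ v = ∑ i, lsmul (c i) (G4 i) := by
  obtain ⟨hI, hIb, hH, hHb, hs, hsI⟩ := hh
  obtain ⟨h0, ⟨a', ha', ea⟩, ⟨b', hb', eb⟩, r, hr, er⟩ := hv
  set H := icoH with hHdef
  set K := star icoH with hKdef
  set s := phi (⟨2, -4, 0, 0, 0, 0, 0, 0⟩ : Q) with hsdef
  have hs5 : s * s = 5 := by
    have : Q.raw ⟨2, -4, 0, 0, 0, 0, 0, 0⟩ ⟨2, -4, 0, 0, 0, 0, 0, 0⟩ =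
        Q.smul 2 (Q.smul 5 Q.one) := by decide +kernel
    have h := congrArg phi this
    rw [phi_raw, phi_two, phi_intCast, Int.cast_ofNat] at h
    rw [hsdef, mul_left_cancel₀ two_ne h]
  have hone : (s - 2 * K) * H + s * K = 1 := by
    rw [sub_mul, mul_assoc, hIb]
    calc s * H - 2 * 2 + s * K = s * (H + K) - 2 * 2 := by rw [mul_add]; abel
      _ = 5 - 2 * 2 := by rw [hs, hs5]
      _ = 1 := by norm_num
  set c := v 0 * (s - 2 * K) with hc
  set d := v 0 * s with hd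
  set a := -a' with haa
  set b := -b' with hbb
  have hci : c ∈ icosians := mul_mem (h0 0) (sub_mem hsI (two_mul K ▸ add_mem hHb hHb))
  have hdi : d ∈ icosians := mul_mem (h0 0) hsI
  have hai : a ∈ icosians := neg_mem ha'
  have hbi : b ∈ icosians := neg_mem hb'
  have e0 : v 0 = c * H + d * K := by
    rw [hc, hd, mul_assoc, mul_assoc, ← mul_add, hone, mul_one]
  have e1 : v 1 = v 0 + a * H := by rw [haa, neg_mul, ← ea]; abel
  have e2 : v 2 = v 1 + b * H := by rw [hbb, neg_mul, ← eb]; abel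
  set x := (c + c + c + b) * H with hx
  set f := r - (d + d + d) - a * H * H with hf
  have hxK : x = f * K := by
    have hS : (r - (d + d + d)) * K = (c + c + c + b) * H + (a * H + a * H) := by
      rw [sub_mul, ← er, e2, e1, e0]
      simp only [add_mul]
      abel
    rw [hx, hf, sub_mul (r - (d + d + d)), hS, mul_assoc (a * H) H K, hI, mul_two]
    abel
  have hfi : f ∈ icosians :=
    sub_mem (sub_mem hr (add_mem (add_mem hdi hdi) hdi)) (mul_mem (mul_mem hai hH) hH)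
  set g := c + c + c + b + f with hg
  have hgi : g ∈ icosians := add_mem (add_mem (add_mem (add_mem hci hci) hci) hbi) hfi
  have hxs : x * s = 2 * g := by
    rw [← hs, mul_add]
    conv_lhs => arg 1; rw [hxK, mul_assoc, hIb]
    conv_lhs => arg 2; rw [hx, mul_assoc, hI]
    rw [hg, two_comm, two_comm, mul_add 2 (c + c + c + b)]
    abel
  set e := g * s - 2 * x with he
  have hxe : x = 2 * e := by
    have h5 : x * 5 = 2 * (g * s) := by rw [← hs5, ← mul_assoc, hxs, mul_assoc]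
    rw [he, mul_sub, ← h5, ← mul_assoc]
    have : (5 : ℍ[ℝ]) = 2 * 2 + 1 := by norm_num
    rw [this, mul_add, mul_one, ← two_comm (2 : ℍ[ℝ]), show x * (2 * 2) = 2 * 2 * x by
      rw [← mul_assoc, two_comm, two_comm, ← mul_assoc]]
    abel
  have hei : e ∈ icosians := sub_mem (mul_mem hgi hsI)
    (two_mul x ▸ add_mem (mul_mem (add_mem (add_mem (add_mem hci hci) hci) hbi) hH)
      (mul_mem (add_mem (add_mem (add_mem hci hci) hci) hbi) hH))
  refine ⟨![c, d, a, e], fun i => by fin_cases i <;> simpa, ?_⟩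
  funext t
  fin_cases t <;>
    simp only [Fin.zero_eta, Fin.mk_one, Fin.reduceFinMk, Finset.sum_apply, lsmul, G4,
      Fin.sum_univ_four, Matrix.cons_val, mul_zero, add_zero]
  · exact e0
  · rw [e1, e0]
  · rw [e2, e1, e0, two_comm e, ← hxe, hx, mul_neg, ← mul_assoc, two_comm c]
    simp only [add_mul, two_mul]
    abel

/-! ### The Hermitian product -/

theorem qip_add_left (x y r : Fin 3 → ℍ[ℝ]) : qip (x + y) r = qip x r + qip y r := by
  simp [qip, add_mul, Finset.sum_add_distrib]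

theorem qip_sub_left (x y r : Fin 3 → ℍ[ℝ]) : qip (x - y) r = qip x r - qip y r := by
  simp [qip, sub_mul, Finset.sum_sub_distrib]

theorem qip_sub_right (x y r : Fin 3 → ℍ[ℝ]) : qip r (x - y) = qip r x - qip r y := by
  simp [qip, mul_sub, Finset.sum_sub_distrib]

theorem qip_lsmul_left (a : ℍ[ℝ]) (x r : Fin 3 → ℍ[ℝ]) :
    qip (lsmul a x) r = a * qip x r := by
  simp [qip, lsmul, Finset.mul_sum, mul_assoc]

theorem qip_lsmul_right (a : ℍ[ℝ]) (x r : Fin 3 → ℍ[ℝ]) :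
    qip x (lsmul a r) = qip x r * star a := by
  simp [qip, lsmul, Finset.sum_mul, mul_assoc]

theorem star_qip (x r : Fin 3 → ℍ[ℝ]) : star (qip x r) = qip r x := by
  simp [qip, star_sum]

theorem qip_sum_left {ι : Type*} (s : Finset ι) (f : ι → Fin 3 → ℍ[ℝ]) (r : Fin 3 → ℍ[ℝ]) :
    qip (∑ i ∈ s, f i) r = ∑ i ∈ s, qip (f i) r := by
  simp only [qip, Finset.sum_apply, Finset.sum_mul]
  exact Finset.sum_comm

/-- the product in coordinates -/
def ip (v w : V) : Q :=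
  Q.add (Q.add (Q.mul v.x (Q.conj w.x)) (Q.mul v.y (Q.conj w.y))) (Q.mul v.z (Q.conj w.z))

theorem inI_ip {v w : V} (hv : v.ok = true) (hw : w.ok = true) : inI (ip v w) = true := by
  obtain ⟨a, b, c⟩ := V.ok_iff.mp hv
  obtain ⟨d, e, f⟩ := V.ok_iff.mp hw
  exact inI_add (inI_add (inI_mul a (inI_conj d)) (inI_mul b (inI_conj e)))
    (inI_mul c (inI_conj f))

theorem qip_phiV {v w : V} (hv : v.ok = true) (hw : w.ok = true) :
    qip (phiV v) (phiV w) = phi (ip v w) := by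
  obtain ⟨a, b, c⟩ := V.ok_iff.mp hv
  obtain ⟨d, e, f⟩ := V.ok_iff.mp hw
  simp [qip, Fin.sum_univ_three, phiV, ip, phi_add, phi_mul, phi_conj, inI_conj, a, b, c, d, e, f]

/-! ### Reflections -/

/-- A root: a norm four lattice vector with even products. -/
structure IsRoot (r : Fin 3 → ℍ[ℝ]) : Prop where
  mem : r ∈ icoLeech
  norm : qip r r = 4
  even : ∀ x ∈ icoLeech, ∃ w ∈ icosians, qip x r = 2 * w

theorem qrefl_eq {r x : Fin 3 → ℍ[ℝ]} {w : ℍ[ℝ]} (h : qip x r = 2 * w) :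
    qrefl r x = x - lsmul w r := by
  funext t
  have : (1 / 2 : ℝ) • (2 * w) = w := by
    rw [two_mul]; ext <;> simp <;> ring
  simp only [qrefl, lsmul, h, this, Pi.sub_apply]

theorem qrefl_mem {r x : Fin 3 → ℍ[ℝ]} (hr : IsRoot r) (hx : x ∈ icoLeech) :
    qrefl r x ∈ icoLeech := by
  obtain ⟨w, hw, e⟩ := hr.even x hx
  rw [qrefl_eq e]
  exact sub_mem_icoLeech hx (lsmul_mem hw hr.mem)

theorem qrefl_qrefl {r x : Fin 3 → ℍ[ℝ]} (hr : IsRoot r) (hx : x ∈ icoLeech) :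
    qrefl r (qrefl r x) = x := by
  obtain ⟨w, hw, e⟩ := hr.even x hx
  have e' : qip (qrefl r x) r = 2 * (-w) := by
    rw [qrefl_eq e, qip_sub_left, qip_lsmul_left, hr.norm, e,
      show (4 : ℍ[ℝ]) = 2 * 2 by norm_num, ← mul_assoc, two_comm, two_comm w]
    simp only [two_mul, add_mul]
    abel
  rw [qrefl_eq e', qrefl_eq e]
  funext t
  simp [lsmul]

/-- The reflection of a root as a permutation of the lattice. -/
noncomputable def refl {r : Fin 3 → ℍ[ℝ]} (hr : IsRoot r) : Equiv.Perm icoLeech where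
  toFun x := ⟨qrefl r x.1, qrefl_mem hr x.2⟩
  invFun x := ⟨qrefl r x.1, qrefl_mem hr x.2⟩
  left_inv x := Subtype.ext (qrefl_qrefl hr x.2)
  right_inv x := Subtype.ext (qrefl_qrefl hr x.2)

theorem refl_inv {r : Fin 3 → ℍ[ℝ]} (hr : IsRoot r) : (refl hr)⁻¹ = refl hr := rfl

theorem qrefl_isometry {r x y : Fin 3 → ℍ[ℝ]} (hr : IsRoot r) (hx : x ∈ icoLeech)
    (hy : y ∈ icoLeech) : qip (qrefl r x) (qrefl r y) = qip x y := by
  obtain ⟨w, hw, e⟩ := hr.even x hx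
  obtain ⟨v, hv, f⟩ := hr.even y hy
  have f' : qip r y = 2 * star v := by
    rw [← star_qip, f, star_mul, star_ofNat, two_comm]
  rw [qrefl_eq e, qrefl_eq f, qip_sub_left, qip_sub_right, qip_sub_right, qip_lsmul_left,
    qip_lsmul_left, qip_lsmul_right, qip_lsmul_right, hr.norm, e, f',
    show (4 : ℍ[ℝ]) = 2 * 2 by norm_num]
  simp only [two_mul, mul_add, add_mul]
  abel

theorem qrefl_lsmul (r x : Fin 3 → ℍ[ℝ]) (a : ℍ[ℝ]) :
    qrefl r (lsmul a x) = lsmul a (qrefl r x) := by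
  funext t
  simp [qrefl, qip_lsmul_left, lsmul, mul_sub, mul_assoc]

theorem qrefl_add (r x y : Fin 3 → ℍ[ℝ]) : qrefl r (x + y) = qrefl r x + qrefl r y := by
  funext t
  simp [qrefl, qip_add_left, smul_add, add_mul]
  abel

theorem qrefl_lsmul_root {u : ℍ[ℝ]} (hu : star u * u = 1) (r x : Fin 3 → ℍ[ℝ]) :
    qrefl (lsmul u r) x = qrefl r x := by
  funext t
  simp only [qrefl, qip_lsmul_right, lsmul]
  rw [smul_mul_assoc, smul_mul_assoc, mul_assoc (qip x r), ← mul_assoc (star u) u, hu, one_mul]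

theorem IsRoot.lsmul {r : Fin 3 → ℍ[ℝ]} (hr : IsRoot r) {u : ℍ[ℝ]} (hu : u ∈ icosians)
    (hus : star u ∈ icosians) (h1 : u * star u = 1) : IsRoot (CfsgLib.J2.lsmul u r) where
  mem := lsmul_mem hu hr.mem
  norm := by
    rw [qip_lsmul_left, qip_lsmul_right, hr.norm, ← mul_assoc,
      show u * 4 = 4 * u from (Commute.ofNat_right u 4).eq, mul_assoc, h1, mul_one]
  even x hx := by
    obtain ⟨w, hw, e⟩ := hr.even x hx
    exact ⟨w * star u, mul_mem hw hus, by rw [qip_lsmul_right, e, mul_assoc]⟩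

/-- norm four -/
def normOK (v : V) : Bool :=
  (v.x.nsq.1 + v.y.nsq.1 + v.z.nsq.1 == 16) && (v.x.nsq.2 + v.y.nsq.2 + v.z.nsq.2 == 0)

theorem qip_self_iff (v : V) : qip (phiV v) (phiV v) = 4 ↔ normOK v = true := by
  have h4 : (4 : ℍ[ℝ]) = ((4 : ℝ) : ℍ[ℝ]) := by norm_cast
  have hq : qip (phiV v) (phiV v) = ((((v.x.nsq.1 : ℝ) + v.x.nsq.2 * tau) / 4 +
      ((v.y.nsq.1 : ℝ) + v.y.nsq.2 * tau) / 4 +
      ((v.z.nsq.1 : ℝ) + v.z.nsq.2 * tau) / 4 : ℝ) : ℍ[ℝ]) := by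
    rw [Quaternion.coe_add, Quaternion.coe_add, ← phi_nsq, ← phi_nsq, ← phi_nsq]
    simp [qip, Fin.sum_univ_three, phiV]
  rw [hq, h4, Quaternion.coe_inj]
  simp only [normOK, Bool.and_eq_true, beq_iff_eq]
  constructor
  · intro h
    exact int_tau_inj (by push_cast; linarith)
  · rintro ⟨a, b⟩
    have a' : (v.x.nsq.1 : ℝ) + v.y.nsq.1 + v.z.nsq.1 = 16 := by exact_mod_cast a
    have b' : (v.x.nsq.2 : ℝ) + v.y.nsq.2 + v.z.nsq.2 = 0 := by exact_mod_cast b
    linear_combination (1 / 4 : ℝ) * a' + tau / 4 * b'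

/-- the generators multiply into twice the ring -/
def gensEvenOK : Bool :=
  gensV.all fun g => gensV.all fun k => g.ok && inI2 (ip g k)

theorem gensEvenOK_true : gensEvenOK = true := by decide +kernel

theorem lattice_even {x y : Fin 3 → ℍ[ℝ]} (hx : x ∈ icoLeech) (hy : y ∈ icoLeech) :
    ∃ w ∈ icosians, qip x y = 2 * w := by
  have hb : ∀ i j : Fin 4, ∃ w ∈ icosians, qip (G4 i) (G4 j) = 2 * w := fun i j => by
    have h := gensEvenOK_true
    simp only [gensEvenOK, List.all_eq_true, Bool.and_eq_true] at h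
    have hi : gensV.get ⟨i.val, by simp [gensV, i.isLt]⟩ ∈ gensV := List.get_mem _ _
    have hj : gensV.get ⟨j.val, by simp [gensV, j.isLt]⟩ ∈ gensV := List.get_mem _ _
    obtain ⟨w, hw, e⟩ := inI2_iff.mp (h _ hi _ hj).2
    exact ⟨phi w, phi_mem_iff.mpr hw,
      by rw [G4_eq, G4_eq, qip_phiV (h _ hi _ hj).1 (h _ hj _ hi).1, e, phi_two]⟩
  choose W hW e using hb
  obtain ⟨c, hc, rfl⟩ := decompose hx
  obtain ⟨d, hd, rfl⟩ := decompose hy
  refine ⟨∑ i, c i * ∑ j, W i j * star (d j), sum_mem fun i _ => mul_mem (hc i) <|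
    sum_mem fun j _ => mul_mem (hW i j) ?_, ?_⟩
  · obtain ⟨D, hD, e⟩ := mem_icosians_iff.mp (hd j)
    rw [← e, ← phi_conj]; exact phi_mem_iff.mpr (inI_conj hD)
  rw [qip_sum_left, Finset.mul_sum]
  refine Finset.sum_congr rfl fun i _ => ?_
  rw [qip_lsmul_left, ← mul_assoc, ← two_comm, mul_assoc]
  congr 1
  rw [← star_qip, qip_sum_left, star_sum, Finset.mul_sum]
  refine Finset.sum_congr rfl fun j _ => ?_
  rw [star_qip, qip_lsmul_right, e, mul_assoc]

/-- root test -/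
def rootOK (r : V) : Bool := normOK r && inL r

theorem rootOK_inL {r : V} (h : rootOK r = true) : inL r = true := by
  simp only [rootOK, Bool.and_eq_true] at h; exact h.2

theorem isRoot_of_rootOK {r : V} (h : rootOK r = true) : IsRoot (phiV r) := by
  simp only [rootOK, Bool.and_eq_true] at h
  exact ⟨mem_of_inL h.2, (qip_self_iff r).mpr h.1,
    fun x hx => lattice_even hx (mem_of_inL h.2)⟩

/-- reflection in coordinates -/
def reflV (r x : V) : V :=
  let w := Q.half (ip x r)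
  ⟨Q.sub x.x (Q.mul w r.x), Q.sub x.y (Q.mul w r.y), Q.sub x.z (Q.mul w r.z)⟩

theorem reflV_spec {r x : V} (hr : rootOK r = true) (hx : inL x = true) :
    phiV (reflV r x) = qrefl (phiV r) (phiV x) ∧ inL (reflV r x) = true := by
  have hR := isRoot_of_rootOK hr
  have hrok := ok_of_inL (rootOK_inL hr)
  have hxok := ok_of_inL hx
  obtain ⟨w, hw, e⟩ := hR.even _ (mem_of_inL hx)
  obtain ⟨W, hW, rfl⟩ := mem_icosians_iff.mp hw
  rw [qip_phiV hxok hrok, ← phi_two] at e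
  have hh : Q.half (ip x r) = W := by rw [phi_injective e, half_smul_two]
  obtain ⟨h1, h2, h3⟩ := V.ok_iff.mp hxok
  obtain ⟨k1, k2, k3⟩ := V.ok_iff.mp hrok
  have hok : (reflV r x).ok = true := by
    simp [reflV, hh, V.ok_iff, inI_sub, inI_mul, h1, h2, h3, k1, k2, k3, hW]
  have he : phiV (reflV r x) = qrefl (phiV r) (phiV x) := by
    rw [qrefl_eq (w := phi W) (by rw [qip_phiV hxok hrok, e, phi_two])]
    funext t
    fin_cases t <;> simp [reflV, hh, phiV, lsmul, phi_sub, phi_mul, hW, k1, k2, k3]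
  exact ⟨he, (inL_iff hok).mp (he ▸ qrefl_mem hR (mem_of_inL hx))⟩

end CfsgLib.J2
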