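import Cfsg.Agent.Lib.J2.Reflect

/-!
Elements of the reflection group are linear isometries; their action on the 315 lines.
-/

set_option autoImplicit false

namespace CfsgLib.J2

open Quaternion Cfsg.Spor

/-- The permutation comes from a left linear isometry. -/
structure IsLinIso (g : Equiv.Perm icoLeech) (L : (Fin 3 → ℍ[ℝ]) → Fin 3 → ℍ[ℝ]) : Prop where
  map_add : ∀ x y, L (x + y) = L x + L y
  map_lsmul : ∀ a x, L (lsmul a x) = lsmul a (L x)
  isom : ∀ x ∈ icoLeech, ∀ y ∈ icoLeech, qip (L x) (L y) = qip x y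
  apply_eq : ∀ x : icoLeech, ((g x : icoLeech) : Fin 3 → ℍ[ℝ]) = L x

theorem IsLinIso.mem {g : Equiv.Perm icoLeech} {L : (Fin 3 → ℍ[ℝ]) → Fin 3 → ℍ[ℝ]}
    (h : IsLinIso g L) {x : Fin 3 → ℍ[ℝ]} (hx : x ∈ icoLeech) : L x ∈ icoLeech :=
  h.apply_eq ⟨x, hx⟩ ▸ (g ⟨x, hx⟩).2

theorem isLinIso_one : IsLinIso 1 id :=
  ⟨fun _ _ => rfl, fun _ _ => rfl, fun _ _ _ _ => rfl, fun _ => rfl⟩

theorem IsLinIso.mul {g h : Equiv.Perm icoLeech} {L M : (Fin 3 → ℍ[ℝ]) → Fin 3 → ℍ[ℝ]}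
    (hg : IsLinIso g L) (hh : IsLinIso h M) : IsLinIso (g * h) (L ∘ M) where
  map_add x y := by simp [hh.map_add, hg.map_add]
  map_lsmul a x := by simp [hh.map_lsmul, hg.map_lsmul]
  isom x hx y hy := by
    simp only [Function.comp_apply]
    rw [hg.isom _ (hh.mem hx) _ (hh.mem hy), hh.isom x hx y hy]
  apply_eq x := by rw [Equiv.Perm.mul_apply, hg.apply_eq, hh.apply_eq]; rfl

theorem isLinIso_refl {r : Fin 3 → ℍ[ℝ]} (hr : IsRoot r) : IsLinIso (refl hr) (qrefl r) :=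
  ⟨qrefl_add r, fun a x => qrefl_lsmul r x a, fun _ hx _ hy => qrefl_isometry hr hx hy, fun _ => rfl⟩

theorem exists_linIso {g : Equiv.Perm icoLeech} (hg : g ∈ twoJ2) : ∃ L, IsLinIso g L := by
  induction hg using Subgroup.closure_induction_left with
  | one => exact ⟨id, isLinIso_one⟩
  | mul_left x hx y _ ih =>
    obtain ⟨k, rfl⟩ := isIcoReflection_iff.mp hx
    obtain ⟨L, hL⟩ := ih
    exact ⟨_, (isLinIso_refl (isRoot_rep k)).mul hL⟩
  | inv_mul_cancel x hx y _ ih =>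
    obtain ⟨k, rfl⟩ := isIcoReflection_iff.mp hx
    obtain ⟨L, hL⟩ := ih
    exact ⟨_, (isLinIso_refl (isRoot_rep k)).mul hL⟩

/-- The doubled coordinate vectors. -/
noncomputable def eVec (t : Fin 3) : Fin 3 → ℍ[ℝ] := fun s => if s = t then 2 else 0

theorem two_lsmul_eq (x : Fin 3 → ℍ[ℝ]) : lsmul 2 x = ∑ t, lsmul (x t) (eVec t) := by
  funext s
  simp [lsmul, eVec, Finset.sum_apply, Fin.sum_univ_three, mul_ite]
  fin_cases s <;> simp [two_comm]

theorem IsLinIso.map_sum {g : Equiv.Perm icoLeech} {L : (Fin 3 → ℍ[ℝ]) → Fin 3 → ℍ[ℝ]}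
    (h : IsLinIso g L) (x : Fin 3 → ℍ[ℝ]) :
    lsmul 2 (L x) = ∑ t, lsmul (x t) (L (eVec t)) := by
  rw [← h.map_lsmul, two_lsmul_eq, Fin.sum_univ_three, Fin.sum_univ_three, h.map_add, h.map_add,
    h.map_lsmul, h.map_lsmul, h.map_lsmul]

theorem lsmul_two_injective {x y : Fin 3 → ℍ[ℝ]} (h : lsmul 2 x = lsmul 2 y) : x = y := by
  funext t
  exact mul_left_cancel₀ two_ne (congrFun h t)

theorem linIso_ext {g : Equiv.Perm icoLeech} {L M : (Fin 3 → ℍ[ℝ]) → Fin 3 → ℍ[ℝ]}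
    {h : Equiv.Perm icoLeech} (hg : IsLinIso g L) (hh : IsLinIso h M)
    (he : ∀ t, L (eVec t) = M (eVec t)) : g = h := by
  refine Equiv.ext fun x => Subtype.ext ?_
  rw [hg.apply_eq, hh.apply_eq]
  refine lsmul_two_injective ?_
  rw [hg.map_sum, hh.map_sum]
  simp only [he]

theorem exists_image (g : twoJ2) (k : Fin 315) :
    ∃ m : Fin 315, ∃ u ∈ units,
      (((g : Equiv.Perm icoLeech) (repX k) : icoLeech) : Fin 3 → ℍ[ℝ]) =
        lsmul (phi u) (phiV (rep m)) := by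
  obtain ⟨L, hL⟩ := exists_linIso g.2
  obtain ⟨u, hu, m, e⟩ := exists_rep ((g : Equiv.Perm icoLeech) (repX k)).2
    (by rw [hL.apply_eq, hL.isom _ (repX k).2 _ (repX k).2]; exact (isRoot_rep k).norm)
  exact ⟨m, u, hu, e⟩

/-- The line of the image of a line. -/
noncomputable def lineMap (g : twoJ2) (k : Fin 315) : Fin 315 := (exists_image g k).choose

theorem lineMap_eq {g : twoJ2} {k m : Fin 315} {w : ℍ[ℝ]} (hw : w * star w = 1)
    (hw' : star w * w = 1)
    (h : (((g : Equiv.Perm icoLeech) (repX k) : icoLeech) : Fin 3 → ℍ[ℝ]) =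
      lsmul w (phiV (rep m))) : lineMap g k = m := by
  obtain ⟨u, hu, e⟩ := (exists_image g k).choose_spec
  obtain ⟨-, u1, u2⟩ := unit_spec hu
  refine rep_eq (w := star (phi u) * w) ?_ ?_ ?_
  · rw [star_mul, star_star, mul_assoc, ← mul_assoc w, hw, one_mul, u2]
  · rw [star_mul, star_star, mul_assoc, ← mul_assoc (phi u), u1, one_mul, hw']
  · rw [← lsmul_lsmul, ← h, e, lsmul_lsmul, u2, one_lsmul]
    rfl

theorem lineMap_one (k : Fin 315) : lineMap 1 k = k :=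
  lineMap_eq (w := 1) (by simp) (by simp) (by rw [one_lsmul]; rfl)

theorem lineMap_mul (g h : twoJ2) (k : Fin 315) : lineMap (g * h) k = lineMap g (lineMap h k) := by
  obtain ⟨u, hu, e⟩ := (exists_image h k).choose_spec
  obtain ⟨v, hv, f⟩ := (exists_image g (lineMap h k)).choose_spec
  obtain ⟨L, hL⟩ := exists_linIso g.2
  obtain ⟨ui, u1, u2⟩ := unit_spec hu
  obtain ⟨vi, v1, v2⟩ := unit_spec hv
  refine lineMap_eq (w := phi u * phi v) ?_ ?_ ?_
  · rw [star_mul, mul_assoc, ← mul_assoc (phi v), v1, one_mul, u1]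
  · rw [star_mul, mul_assoc, ← mul_assoc (star (phi u)), u2, one_mul, v2]
  · have f' : L (phiV (rep (lineMap h k))) = lsmul (phi v) (phiV (rep (lineMap g (lineMap h k)))) :=
      (hL.apply_eq (repX (lineMap h k))).symm.trans f
    rw [Subgroup.coe_mul, Equiv.Perm.mul_apply, hL.apply_eq, e]
    change L (lsmul (phi u) (phiV (rep (lineMap h k)))) = _
    rw [hL.map_lsmul]
    rw [f', lsmul_lsmul]

/-- The action of the reflection group on the lines. -/
noncomputable def lineAct : twoJ2 →* Equiv.Perm (Fin 315) :=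
  MonoidHom.toHomPerm
    { toFun := lineMap
      map_one' := funext lineMap_one
      map_mul' := fun g h => funext (lineMap_mul g h) }

theorem lineAct_apply (g : twoJ2) (k : Fin 315) : lineAct g k = lineMap g k := rfl

theorem lineAct_spec (g : twoJ2) (k : Fin 315) :
    ∃ u ∈ units, (((g : Equiv.Perm icoLeech) (repX k) : icoLeech) : Fin 3 → ℍ[ℝ]) =
        lsmul (phi u) (phiV (rep (lineAct g k))) :=
  (exists_image g k).choose_spec

theorem conj_refR (g : twoJ2) (k : Fin 315) :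
    (g : Equiv.Perm icoLeech) * refR k * (g : Equiv.Perm icoLeech)⁻¹ = refR (lineAct g k) := by
  obtain ⟨u, hu, e⟩ := lineAct_spec g k
  obtain ⟨L, hL⟩ := exists_linIso g.2
  refine Equiv.ext fun x => Subtype.ext ?_
  set y := (g : Equiv.Perm icoLeech)⁻¹ x with hy
  have hxy : (g : Equiv.Perm icoLeech) y = x := by simp [hy]
  rw [Equiv.Perm.mul_apply, Equiv.Perm.mul_apply, hL.apply_eq, refR_apply, refR_apply, ← hy, ← hxy,
    hL.apply_eq y]
  rw [hL.apply_eq, show ((repX k : icoLeech) : Fin 3 → ℍ[ℝ]) = phiV (rep k) from rfl] at e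
  rw [← qrefl_lsmul_root (unit_spec hu).2.2 (phiV (rep (lineAct g k))), ← e]
  obtain ⟨w, -, ew⟩ := (isRoot_rep k).even _ y.2
  have ew' : qip (L y) (L (phiV (rep k))) = 2 * w := by
    rw [hL.isom _ y.2 _ (isRoot_rep k).mem, ew]
  rw [qrefl_eq ew, qrefl_eq ew', eq_sub_iff_add_eq, ← hL.map_lsmul, ← hL.map_add, sub_add_cancel]

end CfsgLib.J2
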