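import Cfsg.Agent.Lib.J2.MinVecCheck

/-!
The minimal vectors of the icosian Leech lattice are the unit multiples of 315 roots.
-/

set_option autoImplicit false

namespace CfsgLib.J2

open Quaternion Cfsg.Spor

theorem quad_nonneg (p : ℤ × ℤ) : 0 ≤ quad p := by
  simp only [quad]; nlinarith [sq_nonneg (p.1 + p.2), sq_nonneg p.1, sq_nonneg p.2]

theorem mem_pairsP {p : ℤ × ℤ} (h : quad p ≤ 16) : p ∈ pairsP := by
  obtain ⟨a, b⟩ := p
  simp only [quad] at h
  have h1 : -2 ≤ b := by nlinarith [sq_nonneg (2 * a + b), sq_nonneg (b + 3)]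
  have h2 : b ≤ 2 := by nlinarith [sq_nonneg (2 * a + b), sq_nonneg (b - 3)]
  have h3 : -3 ≤ a := by nlinarith [sq_nonneg (a + 3 * b), sq_nonneg (a + 4)]
  have h4 : a ≤ 3 := by nlinarith [sq_nonneg (a + 3 * b), sq_nonneg (a - 4)]
  interval_cases a <;> interval_cases b <;> first | omega | decide

theorem pairsQ_spec {p : ℤ × ℤ} (h : quad p ≤ 16) :
    ∃ t ∈ pairsQ, t.1 = p ∧ (t.2.1 : ℤ) = quad p ∧ t.2.2 = (p.1 % 2).toNat + 2 * (p.2 % 2).toNat := by
  have hp := pairsOK_true
  simp only [pairsOK, List.all_eq_true, List.any_eq_true, Bool.and_eq_true, beq_iff_eq] at hp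
  obtain ⟨t, ht, ⟨⟨a, b⟩, c⟩, d⟩ := hp p (mem_pairsP h)
  exact ⟨t, ht, Prod.ext a b, c.symm, d.symm⟩

theorem small {x : Q} (hS : x.S ≤ 16) : smallChk x = true := by
  simp only [Q.S] at hS
  have h := smallOK_true
  have n0 := quad_nonneg (x.a0, x.b0)
  have n1 := quad_nonneg (x.a1, x.b1)
  have n2 := quad_nonneg (x.a2, x.b2)
  have n3 := quad_nonneg (x.a3, x.b3)
  obtain ⟨p, hp, p1, p2, p3⟩ := pairsQ_spec (p := (x.a0, x.b0)) (by linarith)
  obtain ⟨q, hq, q1, q2, q3⟩ := pairsQ_spec (p := (x.a1, x.b1)) (by linarith)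
  obtain ⟨r, hr, r1, r2, r3⟩ := pairsQ_spec (p := (x.a2, x.b2)) (by linarith)
  obtain ⟨s, hs, s1, s2, s3⟩ := pairsQ_spec (p := (x.a3, x.b3)) (by linarith)
  simp only [smallOK, List.all_eq_true, Bool.or_eq_true, Bool.not_eq_true', Nat.blt_eq] at h
  rcases h p hp q hq with h' | h'
  · clear h; omega
  rcases h' r hr with h'' | h''
  · clear h h'; omega
  rcases h'' s hs with (h3 | h3) | h3
  · clear h h' h''; omega
  · have hI : inI x = false := by
      rw [inI]
      refine Eq.trans (congrArg (Nat.testBit codeMask) ?_) h3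
      clear h h' h'' h3 p2 q2 r2 s2
      rw [parIdx, p3, q3, r3, s3]
      simp only
      omega
    simp [smallChk, hI]
  · rw [p1, q1, r1, s1] at h3
    exact h3

theorem Q.S_nonneg (x : Q) : 0 ≤ x.S := by
  have := quad_nonneg (x.a0, x.b0); have := quad_nonneg (x.a1, x.b1)
  have := quad_nonneg (x.a2, x.b2); have := quad_nonneg (x.a3, x.b3)
  simp only [Q.S]; linarith

theorem quad_eq_zero {a b : ℤ} (h : quad (a, b) ≤ 0) : a = 0 ∧ b = 0 := by
  simp only [quad] at h
  have hb : b = 0 := sq_eq_zero_iff.mp (le_antisymm (by nlinarith [sq_nonneg (2 * a + b)]) (sq_nonneg b))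
  subst hb
  exact ⟨sq_eq_zero_iff.mp (le_antisymm (by nlinarith) (sq_nonneg a)), rfl⟩

theorem Q.eq_zero_of_S {x : Q} (h : x.S ≤ 0) : x = Q.zero := by
  have := quad_nonneg (x.a0, x.b0); have := quad_nonneg (x.a1, x.b1)
  have := quad_nonneg (x.a2, x.b2); have := quad_nonneg (x.a3, x.b3)
  simp only [Q.S] at h
  obtain ⟨a0, b0⟩ := quad_eq_zero (a := x.a0) (b := x.b0) (by linarith)
  obtain ⟨a1, b1⟩ := quad_eq_zero (a := x.a1) (b := x.b1) (by linarith)
  obtain ⟨a2, b2⟩ := quad_eq_zero (a := x.a2) (b := x.b2) (by linarith)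
  obtain ⟨a3, b3⟩ := quad_eq_zero (a := x.a3) (b := x.b3) (by linarith)
  cases x; simp_all [Q.zero]

theorem Q.S_eq (x : Q) : x.S = 2 * x.nsq.1 + x.nsq.2 := by
  simp only [Q.S, quad, Q.nsq]; ring

theorem eight_le {x : Q} (hx : inI x = true) (h0 : x ≠ Q.zero) : 8 ≤ x.S := by
  by_contra hc
  push Not at hc
  have h := small (x := x) (by linarith)
  simp only [smallChk, hx, Bool.not_true, Bool.false_or, Bool.and_eq_true, Bool.or_eq_true,
    beq_iff_eq, decide_eq_true_eq] at h
  rcases h.1.1.1 with (h | h) | h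
  · exact h0 (Q.eq_zero_of_S h.le)
  · linarith
  · linarith

theorem twelve_le {x : Q} (hx : inI x = true) (h8 : 8 < x.S) : 12 ≤ x.S := by
  by_contra hc
  push Not at hc
  have h := small (x := x) (by linarith)
  simp only [smallChk, hx, Bool.not_true, Bool.false_or, Bool.and_eq_true, Bool.or_eq_true,
    beq_iff_eq, decide_eq_true_eq] at h
  rcases h.1.1.1 with (h | h) | h <;> linarith

theorem mem_units_of_S {x : Q} (hx : inI x = true) (hS : x.S = 8) : x ∈ units := by
  have h := small (x := x) (by linarith)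
  simp only [smallChk, hx, Bool.not_true, Bool.false_or, Bool.and_eq_true, Bool.or_eq_true,
    hS, bne_self_eq_false, Bool.false_eq_true, false_or, List.any_eq_true] at h
  obtain ⟨u, hu, he⟩ := h.1.1.2
  exact Q.eq_of_beq he ▸ hu

theorem sixteen_le {x : Q} (hx : inI x = true) (hi : inI2 (Q.mul x hQb) = true) (h0 : x ≠ Q.zero) :
    16 ≤ x.S ∧ (x.S ≤ 16 → x ∈ H16) := by
  have key : x.S ≤ 16 → x.S = 16 ∧ x ∈ H16 := fun hS => by
    have h := small hS
    simp only [smallChk, hx, hi, Bool.not_true, Bool.false_or, Bool.and_eq_true, Bool.or_eq_true,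
      beq_iff_eq, List.any_eq_true] at h
    rcases h.1.2 with h | ⟨h, u, hu, he⟩
    · exact absurd (Q.eq_zero_of_S h.le) h0
    · exact ⟨h, Q.eq_of_beq he ▸ hu⟩
  refine ⟨?_, fun h => (key h).2⟩
  by_contra hc
  push Not at hc
  linarith [(key hc.le).1]

theorem mem_smallB {x : Q} (hx : inI x = true) (hi : inI2 (Q.mul (Q.sub x Q.one) hQb) = true)
    (hS : x.S ≤ 16) : x ∈ smallB := by
  have h := small hS
  simp only [smallChk, hx, hi, Bool.not_true, Bool.false_or, Bool.and_eq_true,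
    List.any_eq_true] at h
  obtain ⟨u, hu, he⟩ := h.2
  exact Q.eq_of_beq he ▸ hu

/-! ### Units -/

theorem unit_spec {u : Q} (hu : u ∈ units) :
    inI u = true ∧ phi u * star (phi u) = 1 ∧ star (phi u) * phi u = 1 := by
  have h := unitsOK_true
  simp only [unitsOK, List.all_eq_true, Bool.and_eq_true] at h
  obtain ⟨⟨h1, h2⟩, h3⟩ := h u hu
  rw [← phi_conj, ← phi_mul h1 (inI_conj h1), ← phi_mul (inI_conj h1) h1, Q.eq_of_beq h2,
    Q.eq_of_beq h3, phi_one]
  exact ⟨h1, rfl, rfl⟩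

theorem mem_units_iff {u : Q} :
    u ∈ units ↔ inI u = true ∧ phi u * star (phi u) = 1 := by
  refine ⟨fun h => ⟨(unit_spec h).1, (unit_spec h).2.1⟩, fun ⟨h, h1⟩ => mem_units_of_S h ?_⟩
  rw [phi_nsq, ← Quaternion.coe_one, Quaternion.coe_inj] at h1
  obtain ⟨a, b⟩ := int_tau_inj (a := u.nsq.1) (b := u.nsq.2) (c := 4) (d := 0)
    (by push_cast; linarith)
  rw [Q.S_eq, a, b]; norm_num

theorem units_conj {u : Q} (hu : u ∈ units) : Q.conj u ∈ units := by
  obtain ⟨h, h1, h2⟩ := unit_spec hu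
  exact mem_units_iff.mpr ⟨inI_conj h, by rw [phi_conj, star_star, h2]⟩

theorem units_mul {u w : Q} (hu : u ∈ units) (hw : w ∈ units) : Q.mul u w ∈ units := by
  obtain ⟨h, h1, -⟩ := unit_spec hu
  obtain ⟨g, g1, -⟩ := unit_spec hw
  refine mem_units_iff.mpr ⟨inI_mul h g, ?_⟩
  rw [phi_mul h g, star_mul, mul_assoc, ← mul_assoc (phi w), g1, one_mul, h1]

/-! ### Minimal vectors -/

theorem isMin_iff {v : V} (hv : v.ok = true) :
    isMin v = true ↔ phiV v ∈ icoLeech ∧ qip (phiV v) (phiV v) = 4 := by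
  rw [inL_iff hv, qip_self_iff, isMin, Bool.and_eq_true, and_comm]

theorem isMin_S {v : V} (h : isMin v = true) : v.x.S + v.y.S + v.z.S = 32 := by
  simp only [isMin, normOK, Bool.and_eq_true, beq_iff_eq] at h
  simp only [Q.S_eq]; linarith [h.1.1, h.1.2]

theorem lsmul_lsmul (a b : ℍ[ℝ]) (v : Fin 3 → ℍ[ℝ]) : lsmul a (lsmul b v) = lsmul (a * b) v := by
  funext t; simp [lsmul, mul_assoc]

theorem one_lsmul (v : Fin 3 → ℍ[ℝ]) : lsmul 1 v = v := by funext t; simp [lsmul]

theorem isMin_lmul {u : Q} (hu : u ∈ units) {v : V} (h : isMin v = true) :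
    isMin (V.lmul u v) = true := by
  have hv : v.ok = true := by
    simp only [isMin, Bool.and_eq_true] at h; exact ok_of_inL h.2
  obtain ⟨hi, h1, -⟩ := unit_spec hu
  obtain ⟨a, b, c⟩ := V.ok_iff.mp hv
  have hok : (V.lmul u v).ok = true := by simp [V.lmul, V.ok_iff, inI_mul, hi, a, b, c]
  obtain ⟨hL, hn⟩ := (isMin_iff hv).mp h
  refine (isMin_iff hok).mpr ?_
  rw [phiV_lmul hi hv, qip_lsmul_left, qip_lsmul_right, hn, ← mul_assoc,
    show phi u * 4 = 4 * phi u from (Commute.ofNat_right (phi u) 4).eq, mul_assoc, h1, mul_one]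
  exact ⟨lsmul_mem (phi_mem_iff.mpr hi) hL, rfl⟩

/-- A unit multiple of a representative. -/
def Hit (v : V) : Prop :=
  ∃ u ∈ units, ∃ k < 315, phiV v = lsmul (phi u) (phiV (R.getD k ⟨Q.zero, Q.zero, Q.zero⟩))

theorem hit_of_lmul {w : Q} (hw : w ∈ units) {v : V} (hv : v.ok = true)
    (h : Hit (V.lmul w v)) : Hit v := by
  obtain ⟨u, hu, k, hk, e⟩ := h
  obtain ⟨hi, h1, h2⟩ := unit_spec hw
  refine ⟨Q.mul (Q.conj w) u, units_mul (units_conj hw) hu, k, hk, ?_⟩
  rw [phi_mul (inI_conj hi) (unit_spec hu).1, ← lsmul_lsmul, ← e, phiV_lmul hi hv, lsmul_lsmul,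
    phi_conj, h2, one_lsmul]

theorem matchW_spec : ∀ {l : List V} {w : List (ℕ × ℕ)}, matchW l w = true → ∀ c ∈ l,
    ∃ a b, a < 120 ∧ b < 315 ∧ c = V.lmul (units.getD a Q.zero) (R.getD b ⟨Q.zero, Q.zero, Q.zero⟩)
  | [], _, _, c, hc => by simp at hc
  | d :: cs, [], h, c, hc => by simp [matchW] at h
  | d :: cs, w :: ws, h, c, hc => by
    simp only [matchW, Bool.and_eq_true, decide_eq_true_eq] at h
    rcases List.mem_cons.mp hc with rfl | hc
    · exact ⟨_, _, h.1.1.1, h.1.1.2, V.eq_of_beq h.1.2⟩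
    · exact matchW_spec h.2 c hc

theorem rep_spec {k : ℕ} (hk : k < 315) :
    rootOK (R.getD k ⟨Q.zero, Q.zero, Q.zero⟩) = true := by
  have h := repsOK_true
  simp only [repsOK, Bool.and_eq_true, beq_iff_eq, List.all_eq_true] at h
  rw [List.getD_eq_getElem _ _ (h.1.1 ▸ hk)]
  exact h.2 _ (List.getElem_mem _)

theorem rep_ok {k : ℕ} (hk : k < 315) : (R.getD k ⟨Q.zero, Q.zero, Q.zero⟩).ok = true := by
  have h := rep_spec hk
  exact ok_of_inL (rootOK_inL h)

theorem units_getD {a : ℕ} (ha : a < 120) : units.getD a Q.zero ∈ units := by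
  have h := repsOK_true
  simp only [repsOK, Bool.and_eq_true, beq_iff_eq] at h
  rw [List.getD_eq_getElem _ _ (h.1.2 ▸ ha)]
  exact List.getElem_mem _

theorem mem_pairsB {v : V} (hm : isMin v = true) {y z : Q} (hy : y ∈ smallB) (hz : z ∈ smallB)
    (he : v.x.nsq.1 + v.y.nsq.1 + v.z.nsq.1 = Q.one.nsq.1 + y.nsq.1 + z.nsq.1 ∧
      v.x.nsq.2 + v.y.nsq.2 + v.z.nsq.2 = Q.one.nsq.2 + y.nsq.2 + z.nsq.2) : (y, z) ∈ pairsB := by
  simp only [isMin, normOK, Bool.and_eq_true, beq_iff_eq] at hm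
  have h1 : Q.one.nsq = (4, 0) := by decide
  rw [h1] at he
  simp only [pairsB, List.mem_flatMap, List.mem_map, List.mem_filter, Bool.and_eq_true, beq_iff_eq]
  exact ⟨(y, y.nsq), ⟨y, hy, rfl⟩, (z, z.nsq),
    ⟨⟨z, hz, rfl⟩, by simp only; omega, by simp only; omega⟩, rfl⟩

theorem hit_of_cand {c : V} (hc : c ∈ cands) (hm : isMin c = true) : Hit c := by
  obtain ⟨a, b, ha, hb, e⟩ := matchW_spec witOK_true c (List.mem_filter.mpr ⟨hc, hm⟩)
  exact ⟨_, units_getD ha, b, hb, by rw [e, phiV_lmul (unit_spec (units_getD ha)).1 (rep_ok hb)]⟩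

theorem leftIdeal_neg {q x : ℍ[ℝ]} (h : x ∈ leftIdeal q) : -x ∈ leftIdeal q := by
  obtain ⟨a, ha, rfl⟩ := h
  exact ⟨-a, neg_mem ha, by rw [neg_mul]⟩

theorem leftIdeal_add {q x y : ℍ[ℝ]} (hx : x ∈ leftIdeal q) (hy : y ∈ leftIdeal q) :
    x + y ∈ leftIdeal q := by
  obtain ⟨a, ha, rfl⟩ := hx
  obtain ⟨b, hb, rfl⟩ := hy
  exact ⟨a + b, add_mem ha hb, by rw [add_mul]⟩

theorem congr_of_inL {v : V} (h : inL v = true) :
    ∀ a ∈ [v.x, v.y, v.z], ∀ b ∈ [v.x, v.y, v.z], inI2 (Q.mul (Q.sub a b) hQb) = true := by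
  have hok := ok_of_inL h
  obtain ⟨h1, h2, h3⟩ := V.ok_iff.mp hok
  obtain ⟨-, ha, hb, -⟩ := (inL_iff hok).mpr h
  have ha' : phi v.x - phi v.y ∈ leftIdeal icoH := by simpa [phiV] using ha
  have hb' : phi v.y - phi v.z ∈ leftIdeal icoH := by simpa [phiV] using hb
  have hab : phi v.x - phi v.z ∈ leftIdeal icoH := by simpa using leftIdeal_add ha' hb'
  have hz : ∀ x : ℍ[ℝ], x - x ∈ leftIdeal icoH := fun x => ⟨0, zero_mem _, by simp⟩
  have hc := constOK_true
  simp only [constOK, Bool.and_eq_true] at hc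
  obtain ⟨⟨⟨⟨⟨c1, c2⟩, c3⟩, c4⟩, -⟩, -⟩ := hc
  have key : ∀ a b : Q, inI a = true → inI b = true → phi a - phi b ∈ leftIdeal icoH →
      inI2 (Q.mul (Q.sub a b) hQb) = true := fun a b ia ib hm => by
    rw [← leftIdeal_iff c1 c2 (Q.eq_of_beq c3) (Q.eq_of_beq c4) (inI_sub ia ib), phi_sub, phi_hQ]
    exact hm
  intro a ha0 b hb0
  simp only [List.mem_cons, List.not_mem_nil, or_false] at ha0 hb0
  rcases ha0 with rfl | rfl | rfl <;> rcases hb0 with rfl | rfl | rfl <;>
    refine key _ _ (by assumption) (by assumption) ?_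
  all_goals first
    | exact hz _ | exact ha' | exact hb' | exact hab
    | (rw [← neg_sub]; exact leftIdeal_neg (by assumption))

theorem Q.sub_zero (x : Q) : Q.sub x Q.zero = x := by cases x; simp [Q.sub, Q.zero]

theorem Q.mul_zero (x : Q) : Q.mul x Q.zero = Q.zero := by
  simp [Q.mul, Q.raw, Q.half, Q.zero]

theorem conj_mul_cancel {u x : Q} (hu : u ∈ units) (hx : inI x = true) :
    Q.mul (Q.conj u) (Q.mul u x) = x := by
  obtain ⟨hi, -, h2⟩ := unit_spec hu
  apply phi_injective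
  rw [phi_mul (inI_conj hi) (inI_mul hi hx), phi_mul hi hx, ← mul_assoc, phi_conj, h2, one_mul]

theorem conj_mul_self {u : Q} (hu : u ∈ units) : Q.mul (Q.conj u) u = Q.one := by
  obtain ⟨hi, -, h2⟩ := unit_spec hu
  apply phi_injective
  rw [phi_mul (inI_conj hi) hi, phi_conj, h2, phi_one]

theorem mul_ne_zero_unit {u x : Q} (hu : u ∈ units) (hx : inI x = true) (h0 : x ≠ Q.zero) :
    Q.mul u x ≠ Q.zero := fun h => h0 (by rw [← conj_mul_cancel hu hx, h, Q.mul_zero])

theorem H16_cases {y : Q} (hy : y ∈ H16) : ∃ u ∈ units, y = Q.mul u hQ := by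
  obtain ⟨u, hu, e⟩ := List.mem_map.mp hy
  exact ⟨u, hu, e.symm⟩

theorem inI_hQ : inI hQ = true := by decide +kernel

theorem two_zero {x : Q} (hx : inI x = true) (h1 : inI2 (Q.mul x hQb) = true)
    (h2 : inI2 (Q.mul x hQ) = true) : ∃ w, inI w = true ∧ x = Q.smul 2 w := by
  obtain ⟨-, -, -, -, hs, hsI⟩ := hh
  set s := phi (⟨2, -4, 0, 0, 0, 0, 0, 0⟩ : Q) with hsdef
  have hs5 : s * s = 5 := by
    have e : Q.raw ⟨2, -4, 0, 0, 0, 0, 0, 0⟩ ⟨2, -4, 0, 0, 0, 0, 0, 0⟩ =
        Q.smul 2 (Q.smul 5 Q.one) := by decide +kernel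
    have h := congrArg phi e
    rw [phi_raw, phi_two, phi_intCast, Int.cast_ofNat] at h
    rw [hsdef, mul_left_cancel₀ two_ne h]
  obtain ⟨p, hp, ep⟩ := inI2_iff.mp h1
  obtain ⟨q, hq, eq⟩ := inI2_iff.mp h2
  have e1 : phi x * star icoH = 2 * phi p := by
    rw [← phi_hQb, ← phi_mul hx (show inI hQb = true from inI_conj inI_hQ), ep, phi_two]
  have e2 : phi x * icoH = 2 * phi q := by
    rw [← phi_hQ, ← phi_mul hx inI_hQ, eq, phi_two]
  have e3 : phi x * s = 2 * (phi p + phi q) := by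
    rw [← hs, mul_add, e1, e2, mul_add, add_comm]
  have e5 : phi x * 5 = 2 * ((phi p + phi q) * s) := by
    rw [← hs5, ← mul_assoc, e3, mul_assoc]
  have e6 : phi x = 2 * ((phi p + phi q) * s - 2 * phi x) := by
    rw [mul_sub, ← e5, ← mul_assoc, show (5 : ℍ[ℝ]) = 2 * 2 + 1 by norm_num, mul_add, mul_one,
      show phi x * (2 * 2) = 2 * 2 * phi x by
        rw [← mul_assoc, two_comm, two_comm, ← mul_assoc]]
    abel
  obtain ⟨w, hw, ew⟩ := mem_icosians_iff.mp (sub_mem
    (mul_mem (add_mem (phi_mem_iff.mpr hp) (phi_mem_iff.mpr hq)) hsI)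
    (two_mul (phi x) ▸ add_mem (phi_mem_iff.mpr hx) (phi_mem_iff.mpr hx)))
  exact ⟨w, hw, phi_injective (by rw [e6, ← ew, phi_two])⟩

theorem inL_sum {v : V} (h : inL v = true) :
    inI2 (Q.mul (Q.add (Q.add v.x v.y) v.z) hQ) = true := by
  simp only [inL, Bool.and_eq_true] at h; exact h.2

theorem two_case {a : Q} (ha : inI a = true) (h1 : inI2 (Q.mul a hQb) = true)
    (h2 : inI2 (Q.mul a hQ) = true) (hS : a.S = 32) :
    ∃ w ∈ units, Q.mul (Q.conj w) a = twoQ := by
  obtain ⟨w, hw, rfl⟩ := two_zero ha h1 h2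
  have hw8 : w.S = 8 := by
    simp only [Q.S, quad, Q.smul] at hS ⊢
    linarith
  have hu := mem_units_of_S hw hw8
  refine ⟨w, hu, ?_⟩
  apply phi_injective
  obtain ⟨hi, -, h2⟩ := unit_spec hu
  rw [phi_mul (inI_conj hi) ha, phi_two, ← mul_assoc, two_comm, mul_assoc, phi_conj, h2, twoQ,
    phi_two, phi_one]

/-- every minimal vector is a unit multiple of a representative -/
theorem hit_of_isMin {v : V} (hm : isMin v = true) : Hit v := by
  have hL : inL v = true := by simp only [isMin, Bool.and_eq_true] at hm; exact hm.2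
  have hok := ok_of_inL hL
  obtain ⟨x, y, z⟩ := v
  obtain ⟨ix, iy, iz⟩ := V.ok_iff.mp hok
  simp only at ix iy iz
  have hS := isMin_S hm
  have hc := congr_of_inL hL
  simp only [List.mem_cons, List.not_mem_nil, or_false, forall_eq_or_imp, forall_eq] at hc
  obtain ⟨⟨-, cxy, cxz⟩, ⟨cyx, -, cyz⟩, ⟨czx, czy, -⟩⟩ := hc
  have hsum := inL_sum hL
  simp only at hS hsum
  have z0 : Q.zero.S = 0 := by decide
  have hadd : ∀ a : Q, Q.add a Q.zero = a ∧ Q.add Q.zero a = a := fun a => by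
    cases a; simp [Q.add, Q.zero]
  by_cases hx : x = Q.zero <;> by_cases hy : y = Q.zero <;> by_cases hz : z = Q.zero
  · subst hx hy hz; simp [z0] at hS
  · subst hx hy
    simp only [z0, Q.sub_zero, hadd, zero_add, add_zero] at hS hsum czx
    obtain ⟨w, hw, e⟩ := two_case iz czx hsum hS
    refine hit_of_lmul (units_conj hw) hok (hit_of_cand ?_ (isMin_lmul (units_conj hw) hm))
    simp [cands, V.lmul, Q.mul_zero, e]
  · subst hx hz
    simp only [z0, Q.sub_zero, hadd, zero_add, add_zero] at hS hsum cyx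
    obtain ⟨w, hw, e⟩ := two_case iy cyx hsum hS
    refine hit_of_lmul (units_conj hw) hok (hit_of_cand ?_ (isMin_lmul (units_conj hw) hm))
    simp [cands, V.lmul, Q.mul_zero, e]
  · subst hx
    simp only [z0, Q.sub_zero, zero_add] at hS cyx czx
    obtain ⟨hy16, hyH⟩ := sixteen_le iy cyx hy
    obtain ⟨hz16, -⟩ := sixteen_le iz czx hz
    obtain ⟨u, hu, rfl⟩ := H16_cases (hyH (by linarith))
    have hu' := units_conj hu
    have hm' := isMin_lmul hu' hm
    refine hit_of_lmul hu' hok (hit_of_cand ?_ hm')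
    have hL' : inL (V.lmul (Q.conj u) ⟨Q.zero, Q.mul u hQ, z⟩) = true := by
      simp only [isMin, Bool.and_eq_true] at hm'; exact hm'.2
    have hS' := isMin_S hm'
    have c' := congr_of_inL hL'
    simp only [V.lmul, Q.mul_zero, conj_mul_cancel hu inI_hQ] at hS' c' ⊢
    have hne := mul_ne_zero_unit hu' iz hz
    have cz := c' (Q.mul (Q.conj u) z) (by simp) Q.zero (by simp)
    rw [Q.sub_zero] at cz
    have hh16 : hQ.S = 16 := by decide
    obtain ⟨-, hzH⟩ := sixteen_le (inI_mul (unit_spec hu').1 iz) cz hne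
    have := hzH (by linarith [z0])
    exact List.mem_append_left _ (List.mem_append_right _ (List.mem_flatMap.mpr ⟨_, this, by simp⟩))
  · subst hy hz
    simp only [z0, Q.sub_zero, hadd, zero_add, add_zero] at hS hsum cxy
    obtain ⟨w, hw, e⟩ := two_case ix cxy hsum hS
    refine hit_of_lmul (units_conj hw) hok (hit_of_cand ?_ (isMin_lmul (units_conj hw) hm))
    simp [cands, V.lmul, Q.mul_zero, e]
  · subst hy
    simp only [z0, Q.sub_zero, add_zero] at hS cxy czy
    obtain ⟨hx16, hxH⟩ := sixteen_le ix cxy hx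
    obtain ⟨hz16, -⟩ := sixteen_le iz czy hz
    obtain ⟨u, hu, rfl⟩ := H16_cases (hxH (by linarith))
    have hu' := units_conj hu
    have hm' := isMin_lmul hu' hm
    refine hit_of_lmul hu' hok (hit_of_cand ?_ hm')
    have hL' : inL (V.lmul (Q.conj u) ⟨Q.mul u hQ, Q.zero, z⟩) = true := by
      simp only [isMin, Bool.and_eq_true] at hm'; exact hm'.2
    have hS' := isMin_S hm'
    have c' := congr_of_inL hL'
    simp only [V.lmul, Q.mul_zero, conj_mul_cancel hu inI_hQ] at hS' c' ⊢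
    have hne := mul_ne_zero_unit hu' iz hz
    have cz := c' (Q.mul (Q.conj u) z) (by simp) Q.zero (by simp)
    rw [Q.sub_zero] at cz
    have hh16 : hQ.S = 16 := by decide
    obtain ⟨-, hzH⟩ := sixteen_le (inI_mul (unit_spec hu').1 iz) cz hne
    have := hzH (by linarith [z0])
    exact List.mem_append_left _ (List.mem_append_right _ (List.mem_flatMap.mpr ⟨_, this, by simp⟩))
  · subst hz
    simp only [z0, Q.sub_zero, add_zero] at hS cxz cyz
    obtain ⟨hx16, hxH⟩ := sixteen_le ix cxz hx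
    obtain ⟨hy16, -⟩ := sixteen_le iy cyz hy
    obtain ⟨u, hu, rfl⟩ := H16_cases (hxH (by linarith))
    have hu' := units_conj hu
    have hm' := isMin_lmul hu' hm
    refine hit_of_lmul hu' hok (hit_of_cand ?_ hm')
    have hL' : inL (V.lmul (Q.conj u) ⟨Q.mul u hQ, y, Q.zero⟩) = true := by
      simp only [isMin, Bool.and_eq_true] at hm'; exact hm'.2
    have hS' := isMin_S hm'
    have c' := congr_of_inL hL'
    simp only [V.lmul, Q.mul_zero, conj_mul_cancel hu inI_hQ] at hS' c' ⊢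
    have hne := mul_ne_zero_unit hu' iy hy
    have cz := c' (Q.mul (Q.conj u) y) (by simp) Q.zero (by simp)
    rw [Q.sub_zero] at cz
    have hh16 : hQ.S = 16 := by decide
    obtain ⟨-, hzH⟩ := sixteen_le (inI_mul (unit_spec hu').1 iy) cz hne
    have := hzH (by linarith [z0])
    exact List.mem_append_left _ (List.mem_append_right _ (List.mem_flatMap.mpr ⟨_, this, by simp⟩))
  · have hx8 := eight_le ix hx
    have hy8 := eight_le iy hy
    have hz8 := eight_le iz hz
    have hone : Q.one.S = 8 := by decide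
    by_cases e1 : x.S ≤ 8
    · have hu := mem_units_of_S ix (le_antisymm e1 hx8)
      have hu' := units_conj hu
      have hm' := isMin_lmul hu' hm
      refine hit_of_lmul hu' hok (hit_of_cand ?_ hm')
      have hS' := isMin_S hm'
      have c' := congr_of_inL (v := V.lmul (Q.conj x) ⟨x, y, z⟩) (by
        simp only [isMin, Bool.and_eq_true] at hm'; exact hm'.2)
      simp only [V.lmul, conj_mul_self hu] at hS' c' ⊢
      have iy' := inI_mul (unit_spec hu').1 iy
      have iz' := inI_mul (unit_spec hu').1 iz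
      have n2 := eight_le iy' (mul_ne_zero_unit hu' iy hy)
      have n3 := eight_le iz' (mul_ne_zero_unit hu' iz hz)
      have b2 := mem_smallB iy' (c' _ (by simp) _ (by simp)) (by linarith)
      have b3 := mem_smallB iz' (c' _ (by simp) _ (by simp)) (by linarith)
      exact List.mem_append_right _ (List.mem_flatMap.mpr ⟨_, mem_pairsB hm' b2 b3
        (by simp only [V.lmul, conj_mul_self hu, and_self]; all_goals (constructor <;> omega)), by simp⟩)
    by_cases e2 : y.S ≤ 8
    · have hu := mem_units_of_S iy (le_antisymm e2 hy8)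
      have hu' := units_conj hu
      have hm' := isMin_lmul hu' hm
      refine hit_of_lmul hu' hok (hit_of_cand ?_ hm')
      have hS' := isMin_S hm'
      have c' := congr_of_inL (v := V.lmul (Q.conj y) ⟨x, y, z⟩) (by
        simp only [isMin, Bool.and_eq_true] at hm'; exact hm'.2)
      simp only [V.lmul, conj_mul_self hu] at hS' c' ⊢
      have iy' := inI_mul (unit_spec hu').1 ix
      have iz' := inI_mul (unit_spec hu').1 iz
      have n2 := eight_le iy' (mul_ne_zero_unit hu' ix hx)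
      have n3 := eight_le iz' (mul_ne_zero_unit hu' iz hz)
      have b2 := mem_smallB iy' (c' _ (by simp) _ (by simp)) (by linarith)
      have b3 := mem_smallB iz' (c' _ (by simp) _ (by simp)) (by linarith)
      exact List.mem_append_right _ (List.mem_flatMap.mpr ⟨_, mem_pairsB hm' b2 b3
        (by simp only [V.lmul, conj_mul_self hu, and_self]; all_goals (constructor <;> omega)), by simp⟩)
    by_cases e3 : z.S ≤ 8
    · have hu := mem_units_of_S iz (le_antisymm e3 hz8)
      have hu' := units_conj hu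
      have hm' := isMin_lmul hu' hm
      refine hit_of_lmul hu' hok (hit_of_cand ?_ hm')
      have hS' := isMin_S hm'
      have c' := congr_of_inL (v := V.lmul (Q.conj z) ⟨x, y, z⟩) (by
        simp only [isMin, Bool.and_eq_true] at hm'; exact hm'.2)
      simp only [V.lmul, conj_mul_self hu] at hS' c' ⊢
      have iy' := inI_mul (unit_spec hu').1 ix
      have iz' := inI_mul (unit_spec hu').1 iy
      have n2 := eight_le iy' (mul_ne_zero_unit hu' ix hx)
      have n3 := eight_le iz' (mul_ne_zero_unit hu' iy hy)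
      have b2 := mem_smallB iy' (c' _ (by simp) _ (by simp)) (by linarith)
      have b3 := mem_smallB iz' (c' _ (by simp) _ (by simp)) (by linarith)
      exact List.mem_append_right _ (List.mem_flatMap.mpr ⟨_, mem_pairsB hm' b2 b3
        (by simp only [V.lmul, conj_mul_self hu, and_self]; all_goals (constructor <;> omega)), by simp⟩)
    exfalso
    simp only [not_le] at e1 e2 e3
    linarith [twelve_le ix e1, twelve_le iy e2, twelve_le iz e3]

end CfsgLib.J2
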