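import Cfsg.Agent.Lib.J2.RData

/-!
Finite checks for the minimal vectors of the icosian Leech lattice.
-/

set_option autoImplicit false

namespace CfsgLib.J2

/-- the quadratic form of a coordinate pair -/
def quad (p : ℤ × ℤ) : ℤ := 2 * p.1 * p.1 + 2 * p.1 * p.2 + 3 * p.2 * p.2

/-- an integral size of a quaternion -/
def Q.S (x : Q) : ℤ := quad (x.a0, x.b0) + quad (x.a1, x.b1) + quad (x.a2, x.b2) + quad (x.a3, x.b3)

/-- the pairs of size at most sixteen -/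
def pairsP : List (ℤ × ℤ) :=
  [(-3, 1), (-2, -1), (-2, 0), (-2, 1), (-2, 2), (-1, -1), (-1, 0), (-1, 1), (-1, 2), (0, -2),
    (0, -1), (0, 0), (0, 1), (0, 2), (1, -2), (1, -1), (1, 0), (1, 1), (2, -2), (2, -1), (2, 0),
    (2, 1), (3, -1)]

/-- the unit multiples of `h` -/
def H16 : List Q := units.map fun u => Q.mul u hQ

/-- what holds of small icosians -/
def smallChk (x : Q) : Bool :=
  !inI x || ((x.S == 0 || x.S == 8 || decide (12 ≤ x.S)) && (x.S != 8 || units.any (Q.beq x)) &&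
    (!inI2 (Q.mul x hQb) || x.S == 0 || (x.S == 16 && H16.any (Q.beq x))) &&
    (!inI2 (Q.mul (Q.sub x Q.one) hQb) || smallB.any (Q.beq x)))

/-- the pairs with their sizes and parities -/
def pairsQ : List ((ℤ × ℤ) × ℕ × ℕ) :=
  [⟨⟨-3, 1⟩, 15, 3⟩, ⟨⟨-2, -1⟩, 15, 2⟩, ⟨⟨-2, 0⟩, 8, 0⟩, ⟨⟨-2, 1⟩, 7, 2⟩,
    ⟨⟨-2, 2⟩, 12, 0⟩, ⟨⟨-1, -1⟩, 7, 3⟩, ⟨⟨-1, 0⟩, 2, 1⟩, ⟨⟨-1, 1⟩, 3, 3⟩,
    ⟨⟨-1, 2⟩, 10, 1⟩, ⟨⟨0, -2⟩, 12, 0⟩, ⟨⟨0, -1⟩, 3, 2⟩, ⟨⟨0, 0⟩, 0, 0⟩,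
    ⟨⟨0, 1⟩, 3, 2⟩, ⟨⟨0, 2⟩, 12, 0⟩, ⟨⟨1, -2⟩, 10, 1⟩, ⟨⟨1, -1⟩, 3, 3⟩,
    ⟨⟨1, 0⟩, 2, 1⟩, ⟨⟨1, 1⟩, 7, 3⟩, ⟨⟨2, -2⟩, 12, 0⟩, ⟨⟨2, -1⟩, 7, 2⟩,
    ⟨⟨2, 0⟩, 8, 0⟩, ⟨⟨2, 1⟩, 15, 2⟩, ⟨⟨3, -1⟩, 15, 3⟩]

/-- the table of pairs is correct -/
def pairsOK : Bool :=
  pairsP.all fun p => pairsQ.any fun t =>
    t.1.1 == p.1 && t.1.2 == p.2 && quad p == (t.2.1 : ℤ) &&
      (p.1 % 2).toNat + 2 * (p.2 % 2).toNat == t.2.2

theorem pairsOK_true : pairsOK = true := by decide +kernel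

/-- the enumeration -/
def smallOK : Bool :=
  pairsQ.all fun p => pairsQ.all fun q => Nat.blt 16 (p.2.1 + q.2.1) ||
    pairsQ.all fun r => Nat.blt 16 (p.2.1 + q.2.1 + r.2.1) ||
      pairsQ.all fun s => Nat.blt 16 (p.2.1 + q.2.1 + r.2.1 + s.2.1) ||
        !(Nat.testBit codeMask (p.2.2 + 4 * (q.2.2 + 4 * (r.2.2 + 4 * s.2.2)))) ||
          smallChk ⟨p.1.1, p.1.2, q.1.1, q.1.2, r.1.1, r.1.2, s.1.1, s.1.2⟩

theorem smallOK_true : smallOK = true := by decide +kernel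

/-- checks of the units -/
def unitsOK : Bool :=
  units.all fun u => inI u && Q.beq (Q.mul u (Q.conj u)) Q.one &&
    Q.beq (Q.mul (Q.conj u) u) Q.one

theorem unitsOK_true : unitsOK = true := by decide +kernel

/-- minimal vectors -/
def isMin (v : V) : Bool := normOK v && inL v

/-- twice one -/
def twoQ : Q := Q.smul 2 Q.one

/-- pairs of small icosians completing a unit to a minimal vector -/
def pairsB : List (Q × Q) :=
  (smallB.map fun y => (y, y.nsq)).flatMap fun y =>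
    ((smallB.map fun z => (z, z.nsq)).filter fun z =>
      y.2.1 + z.2.1 == 12 && y.2.2 + z.2.2 == 0).map fun z => (y.1, z.1)

/-- candidates -/
def cands : List V :=
  [⟨twoQ, Q.zero, Q.zero⟩, ⟨Q.zero, twoQ, Q.zero⟩, ⟨Q.zero, Q.zero, twoQ⟩] ++
    (H16.flatMap fun y => [⟨Q.zero, hQ, y⟩, ⟨hQ, Q.zero, y⟩, ⟨hQ, y, Q.zero⟩]) ++
    pairsB.flatMap fun p => [⟨Q.one, p.1, p.2⟩, ⟨p.1, Q.one, p.2⟩, ⟨p.1, p.2, Q.one⟩]

/-- the candidates against the witnesses -/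
def matchW : List V → List (ℕ × ℕ) → Bool
  | [], [] => true
  | c :: cs, w :: ws => decide (w.1 < 120) && decide (w.2 < 315) &&
      V.beq c (V.lmul (units.getD w.1 Q.zero) (R.getD w.2 ⟨Q.zero, Q.zero, Q.zero⟩)) && matchW cs ws
  | _, _ => false

/-- the check of the candidates -/
def witOK : Bool := matchW (cands.filter isMin) wit

theorem witOK_true : witOK = true := by decide +kernel

/-- checks of the representatives -/
def repsOK : Bool := R.length == 315 && units.length == 120 && R.all rootOK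

theorem repsOK_true : repsOK = true := by decide +kernel

end CfsgLib.J2
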