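import Cfsg.Agent.Lib.J2.ReflectCheck
import Cfsg.Agent.Lib.J2.PermData

/-!
Finite checks for the action on the 315 lines.
-/

set_option autoImplicit false

namespace CfsgLib.J2

/-- entry of a list packed in base 512 -/
def dig9 (P i : ℕ) : ℕ := (P >>> (9 * i)) % 512

/-- entry of a list packed in base `2^20` -/
def dig20 (P i : ℕ) : ℕ := (P >>> (20 * i)) % 1048576

/-- image of a line under a generator -/
def genAp (g x : ℕ) : ℕ := dig9 (genP.getD g 0) x

/-- image of a line under a word -/
def wordAp (w : List ℕ) (x : ℕ) : ℕ := w.foldr genAp x

/-- the reflections induce the packed permutations -/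
def genOKat (g : ℕ) : Bool :=
  let r := rep (genIdx.getD g 0)
  let P := genP.getD g 0
  let W := genU.getD g 0
  decide (genIdx.getD g 0 < 315) && (List.range 315).all fun x =>
    decide (dig9 P x < 315) && decide (dig9 W x < 120) &&
      V.beq (reflV r (rep x)) (V.lmul (units.getD (dig9 W x) Q.zero) (rep (dig9 P x)))

theorem genOK0 : genOKat 0 = true := by decide +kernel
theorem genOK1 : genOKat 1 = true := by decide +kernel
theorem genOK2 : genOKat 2 = true := by decide +kernel
theorem genOK3 : genOKat 3 = true := by decide +kernel

/-- one mark per colour -/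
def colEnc (p : ℤ × ℤ) : ℕ := (p.1 * 1000 + p.2 + 500).toNat

/-- the colour of two lines -/
def colC (a x : ℕ) : ℕ := colEnc (ip (rep a) (rep x)).nsq

/-- the colour row of the first line -/
def row0OK : Bool := (List.range 315).all fun x => colC 0 x == dig20 (colRows.getD 0 0) x

theorem row0OK_true : row0OK = true := by decide +kernel

/-- the mask reached along a tree, if the tree is connected -/
def reachTree (ap : ℕ → ℕ → ℕ) (ok : ℕ → Bool) : List (ℕ × ℕ) → ℕ → Option ℕ
  | [], m => some m
  | (x, i) :: es, m =>
      if Nat.testBit m x && ok i then reachTree ap ok es (m ||| 2 ^ ap i x) else none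

/-- the lines form one orbit -/
def linesOK : Bool :=
  reachTree genAp (fun i => decide (i < 4)) lineTree (2 ^ 0) == some (2 ^ 315 - 1)

theorem linesOK_true : linesOK = true := by decide +kernel

/-- all rows are transported copies of the first -/
def rowsOK : Bool :=
  (List.range 10).all fun j =>
    let w := baseWord.getD j []
    let r := colRows.getD j 0
    let r0 := colRows.getD 0 0
    w.all (fun i => decide (i < 4)) && wordAp w 0 == basePts.getD j 0 &&
      decide (basePts.getD j 0 < 315) &&
        (List.range 315).all fun x => dig20 r x == dig20 r0 (wordAp w.reverse x)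

theorem rowsOK_true : rowsOK = true := by decide +kernel

/-- the colours against the first `j` base points agree with those of base point `j` -/
def inAtom (j x : ℕ) : Bool :=
  (List.range j).all fun i =>
    dig20 (colRows.getD i 0) x == dig20 (colRows.getD i 0) (basePts.getD j 0)

/-- the atom as a mask -/
def atomMask (j : ℕ) : ℕ :=
  (List.range 315).foldl (fun m x => if inAtom j x then m ||| 2 ^ x else m) 0

/-- number of lines in an atom -/
def atomSize (j : ℕ) : ℕ := ((List.range 315).filter (inAtom j)).length

/-- one level of the chain -/
def levelOK (j : ℕ) : Bool :=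
  let ws := stabWords.getD (j - 1) []
  ws.all (fun w => w.all (fun i => decide (i < 4)) &&
      (List.range j).all (fun i => wordAp w (basePts.getD i 0) == basePts.getD i 0)) &&
    reachTree (fun n x => wordAp (ws.getD n []) x) (fun n => decide (n < ws.length))
        (stabTree.getD (j - 1) []) (2 ^ basePts.getD j 0) == some (atomMask j)

theorem level1 : levelOK 1 = true := by decide +kernel
theorem level2 : levelOK 2 = true := by decide +kernel
theorem level3 : levelOK 3 = true := by decide +kernel
theorem level4 : levelOK 4 = true := by decide +kernel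

theorem atomSizes : atomSize 1 = 32 ∧ atomSize 2 = 5 ∧ atomSize 3 = 4 ∧ atomSize 4 = 3 := by
  decide +kernel

/-- the colour key -/
def codeKey (x : ℕ) : List ℕ → ℕ
  | [] => 0
  | r :: rs => dig20 r x + 100000 * codeKey x rs

/-- the keys are as listed -/
def codesMatch : List ℕ → List ℕ → Bool
  | [], [] => true
  | x :: xs, c :: cs => codeKey x colRows == c && codesMatch xs cs
  | _, _ => false

theorem codesMatch_true : codesMatch (List.range 315) lineCodes = true := by decide +kernel

theorem lineCodes_distinct : natsDistinct lineCodes = true := by decide +kernel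

/-- successive images of a coordinate vector along a word, right to left -/
def chainFrom : List ℕ → List V → Bool
  | [], [_] => true
  | i :: is, a :: b :: rest =>
      decide (i < 4) && inL a && V.beq b (reflV (rep (genIdx.getD i 0)) a) && chainFrom is (b :: rest)
  | _, _ => false

/-- the doubled unit vectors -/
def unitVec : ℕ → V
  | 0 => ⟨Q.smul 2 Q.one, Q.zero, Q.zero⟩
  | 1 => ⟨Q.zero, Q.smul 2 Q.one, Q.zero⟩
  | _ => ⟨Q.zero, Q.zero, Q.smul 2 Q.one⟩

/-- minus a triple -/
def V.neg (v : V) : V := ⟨Q.neg v.x, Q.neg v.y, Q.neg v.z⟩

/-- the word is minus one on the coordinate vectors -/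
def negOK : Bool :=
  (List.range 3).all fun t =>
    let c := negChains.getD t []
    chainFrom negWord.reverse c && V.beq (c.getD 0 vZero) (unitVec t) &&
      V.beq (c.getD negWord.length vZero) (V.neg (unitVec t))

theorem negOK_true : negOK = true := by decide +kernel

/-- data for the kernel of the action -/
def kerOK : Bool :=
  V.beq (rep 0) (unitVec 0) && V.beq (rep 1) (V.lmul (units.getD 3 Q.zero) (unitVec 1)) &&
  V.beq (rep 2) (V.lmul (units.getD 3 Q.zero) (unitVec 2)) &&
  units.any (Q.beq (rep 11).x) && units.any (Q.beq (rep 11).y) &&
  units.any (Q.beq (rep 67).x) && units.any (Q.beq (rep 67).y) &&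
  units.any (Q.beq (rep 75).x) && units.any (Q.beq (rep 75).y) &&
  units.any (Q.beq (rep 19).x) && units.any (Q.beq (rep 19).z)

theorem kerOK_true : kerOK = true := by decide +kernel

/-- the element comparing two lines with unit first two coordinates -/
def kerC (v w : V) : Q :=
  Q.mul (Q.mul (Q.mul (Q.conj w.x) w.y) (Q.conj v.y)) v.x

/-- only plus and minus one commute with both comparison elements -/
def centralOK : Bool :=
  let c := kerC (rep 11) (rep 67)
  let e := kerC (rep 11) (rep 75)
  units.all fun u => Q.beq u Q.one || Q.beq u (Q.neg Q.one) ||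
    !(Q.beq (Q.mul u c) (Q.mul c u) && Q.beq (Q.mul u e) (Q.mul e u))

theorem centralOK_true : centralOK = true := by decide +kernel

end CfsgLib.J2
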