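import Cfsg.Agent.Lib.J2.PermCheck

/-!
The further points of the base are determined by their colours.
-/

set_option autoImplicit false

namespace CfsgLib.J2

/-- each further point is alone in its atom -/
def stagesAlone : Bool :=
  [5, 6, 7, 8, 9].all fun j =>
    (List.range 315).all fun x => !inAtom j x || x == basePts.getD j 0

theorem stagesAlone_true : stagesAlone = true := by decide +kernel

end CfsgLib.J2
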