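import Cfsg.Agent.Lib.J2.Linear
import Cfsg.Agent.Lib.J2.StageCheck

/-!
The action on the lines has image of order 604800 and kernel the centre, of order two.
-/

set_option autoImplicit false

namespace CfsgLib.J2

open Quaternion Cfsg.Spor

theorem genIdx_lt {g : ℕ} (hg : g < 4) : genIdx.getD g 0 < 315 := by
  interval_cases g <;> simp [genIdx]

theorem genOK_all {g : ℕ} (hg : g < 4) : genOKat g = true := by
  interval_cases g
  · exact genOK0
  · exact genOK1
  · exact genOK2
  · exact genOK3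

/-- The generating reflections (the first one for numbers out of range). -/
noncomputable def genE (g : ℕ) : twoJ2 :=
  if h : g < 4 then ⟨refR ⟨genIdx.getD g 0, genIdx_lt h⟩, refR_mem _⟩ else 1

theorem genE_apply {g : ℕ} (hg : g < 4) (k : Fin 315) :
    ((lineAct (genE g) k : Fin 315) : ℕ) = genAp g k := by
  have h := genOK_all hg
  simp only [genOKat, Bool.and_eq_true, List.all_eq_true, List.mem_range, decide_eq_true_eq] at h
  obtain ⟨⟨h1, h2⟩, h3⟩ := h.2 k k.isLt
  have hu := units_getD h2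
  obtain ⟨-, u1, u2⟩ := unit_spec hu
  set i : Fin 315 := ⟨genIdx.getD g 0, genIdx_lt hg⟩
  have e : lineAct (genE g) k = (⟨dig9 (genP.getD g 0) k, h1⟩ : Fin 315) := by
    refine lineMap_eq u1 u2 ?_
    rw [genE, dif_pos hg]
    change qrefl (phiV (rep i)) (phiV (rep k)) = _
    rw [← (reflV_spec (rootOK_rep i) (rootOK_inL (rootOK_rep k))).1, V.eq_of_beq h3,
      phiV_lmul (v := rep _) (unit_spec hu).1 (rep_ok h1)]
  rw [e]
  rfl

theorem genE_inv {g : ℕ} : (genE g)⁻¹ = genE g := by
  unfold genE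
  split
  · exact Subtype.ext (refl_inv (isRoot_rep _))
  · simp

/-- The element of a word. -/
noncomputable def wordE (w : List ℕ) : twoJ2 := (w.map genE).prod

theorem wordE_apply {w : List ℕ} (hw : ∀ i ∈ w, i < 4) (k : Fin 315) :
    ((lineAct (wordE w) k : Fin 315) : ℕ) = wordAp w k := by
  induction w with
  | nil => simp [wordE, wordAp]
  | cons i is ih =>
    rw [List.forall_mem_cons] at hw
    have e : wordE (i :: is) = genE i * wordE is := by simp [wordE]
    rw [e, map_mul, Equiv.Perm.mul_apply, genE_apply hw.1, ih hw.2]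
    rfl

theorem wordE_inv (w : List ℕ) : (wordE w)⁻¹ = wordE w.reverse := by
  rw [wordE, List.prod_inv_reverse, wordE, List.map_map, List.map_reverse]
  congr 2
  exact List.map_congr_left fun i _ => genE_inv

theorem reachTree_spec {ap : ℕ → ℕ → ℕ} {ok : ℕ → Bool} {P : ℕ → Prop}
    (hstep : ∀ x i, ok i = true → P x → P (ap i x)) :
    ∀ (es : List (ℕ × ℕ)) (m m' : ℕ), reachTree ap ok es m = some m' →
      (∀ y, m.testBit y = true → P y) → ∀ y, m'.testBit y = true → P y
  | [], m, m', h, hm => by simp only [reachTree, Option.some.injEq] at h; exact h ▸ hm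
  | (x, i) :: es, m, m', h, hm => by
    simp only [reachTree] at h
    split at h
    · rename_i hc
      simp only [Bool.and_eq_true] at hc
      refine reachTree_spec hstep es _ m' h fun y hy => ?_
      rw [Nat.testBit_or, Bool.or_eq_true, Nat.testBit_two_pow, decide_eq_true_eq] at hy
      rcases hy with hy | hy
      · exact hm y hy
      · exact hy ▸ hstep x i hc.2 (hm x hc.1)
    · exact absurd h (by simp)

/-- The subgroup generated by the four reflections. -/
noncomputable def genH : Subgroup twoJ2 := Subgroup.closure {x | ∃ g < 4, genE g = x}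

theorem wordE_mem {w : List ℕ} (hw : ∀ i ∈ w, i < 4) : wordE w ∈ genH :=
  Subgroup.list_prod_mem _ fun x hx => by
    obtain ⟨i, hi, rfl⟩ := List.mem_map.mp hx
    exact Subgroup.subset_closure ⟨i, hw i hi, rfl⟩

theorem line_reached : ∀ k : Fin 315, ∃ g ∈ genH, lineAct g 0 = k := by
  have h := linesOK_true
  simp only [linesOK, beq_iff_eq] at h
  intro k
  refine (reachTree_spec (P := fun y => ∃ hy : y < 315, ∃ g ∈ genH, lineAct g 0 = ⟨y, hy⟩)
    ?_ _ _ _ h ?_ k (by rw [Nat.testBit_two_pow_sub_one]; simp)).2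
  · rintro x i hi ⟨hx, g, hg, e⟩
    simp only [decide_eq_true_eq] at hi
    have ha := genE_apply hi ⟨x, hx⟩
    refine ⟨ha ▸ Fin.isLt _, genE i * g, mul_mem (Subgroup.subset_closure ⟨i, hi, rfl⟩) hg, ?_⟩
    rw [map_mul, Equiv.Perm.mul_apply, e]
    exact Fin.ext ha
  · intro y hy
    rw [Nat.testBit_two_pow, decide_eq_true_eq] at hy
    subst hy
    exact ⟨by norm_num, 1, one_mem _, by simp⟩

theorem genH_eq_top : genH = ⊤ := by
  have key : ∀ k, (⟨refR k, refR_mem k⟩ : twoJ2) ∈ genH := by
    intro k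
    obtain ⟨g, hg, e⟩ := line_reached k
    have h0 : (⟨refR 0, refR_mem 0⟩ : twoJ2) ∈ genH :=
      Subgroup.subset_closure ⟨0, by norm_num, by simp [genE, genIdx]⟩
    have : (⟨refR k, refR_mem k⟩ : twoJ2) = g * ⟨refR 0, refR_mem 0⟩ * g⁻¹ := by
      refine Subtype.ext ?_
      simp only [Subgroup.coe_mul, InvMemClass.coe_inv]
      rw [conj_refR, e]
    rw [this]
    exact mul_mem (mul_mem hg h0) (inv_mem hg)
  rw [eq_top_iff]
  intro g _
  have hle : twoJ2 ≤ genH.map twoJ2.subtype := by
    refine (Subgroup.closure_le _).mpr fun f hf => ?_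
    obtain ⟨k, rfl⟩ := isIcoReflection_iff.mp hf
    exact ⟨_, key k, rfl⟩
  obtain ⟨g', hg', e⟩ := hle g.2
  exact Subtype.coe_injective e ▸ hg'

theorem lineAct_transitive (a b : Fin 315) : ∃ g : twoJ2, lineAct g a = b := by
  obtain ⟨g, -, eg⟩ := line_reached a
  obtain ⟨h, -, eh⟩ := line_reached b
  exact ⟨h * g⁻¹, by rw [map_mul, map_inv, Equiv.Perm.mul_apply, ← eg]; simp [eh]⟩

/-! ### Colours -/

theorem norm_ip (a b : Fin 315) :
    qip (phiV (rep a)) (phiV (rep b)) * star (qip (phiV (rep a)) (phiV (rep b))) =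
      (((((ip (rep a) (rep b)).nsq.1 : ℝ) + (ip (rep a) (rep b)).nsq.2 * tau) / 4 : ℝ) : ℍ[ℝ]) := by
  rw [qip_phiV (rep_ok' a) (rep_ok' b), phi_nsq]

theorem colC_invariant (g : twoJ2) (a b : Fin 315) :
    colC (lineAct g a) (lineAct g b) = colC a b := by
  obtain ⟨L, hL⟩ := exists_linIso g.2
  obtain ⟨u, hu, e⟩ := lineAct_spec g a
  obtain ⟨v, hv, f⟩ := lineAct_spec g b
  obtain ⟨-, u1, -⟩ := unit_spec hu
  obtain ⟨-, -, v2⟩ := unit_spec hv
  rw [hL.apply_eq] at e f
  have h := hL.isom _ (repX a).2 _ (repX b).2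
  rw [e, f, qip_lsmul_left, qip_lsmul_right] at h
  change _ = qip (phiV (rep a)) (phiV (rep b)) at h
  have hn := norm_ip a b
  rw [← h, star_mul, star_mul, star_star] at hn
  set q := qip (phiV (rep (lineAct g a))) (phiV (rep (lineAct g b))) with hq
  rw [show phi u * (q * star (phi v)) * (phi v * star q * star (phi u)) =
    phi u * (q * (star (phi v) * phi v) * star q) * star (phi u) by simp only [mul_assoc], v2,
    mul_one, hq, norm_ip, ← Quaternion.coe_commutes, mul_assoc, u1, mul_one, Quaternion.coe_inj] at hn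
  obtain ⟨n1, n2⟩ := int_tau_inj (a := (ip (rep (lineAct g a)) (rep (lineAct g b))).nsq.1)
    (b := (ip (rep (lineAct g a)) (rep (lineAct g b))).nsq.2) (c := (ip (rep a) (rep b)).nsq.1)
    (d := (ip (rep a) (rep b)).nsq.2) (by linarith)
  simp [colC, colEnc, n1, n2]

theorem basePts_lt (j : ℕ) : basePts.getD j 0 < 315 := by
  by_cases hj : j < 10
  · interval_cases j <;> simp [basePts]
  · rw [List.getD_eq_default _ _ (by simp [basePts]; omega)]; norm_num

/-- The points of the base. -/
def bpt (j : ℕ) : Fin 315 := ⟨basePts.getD j 0, basePts_lt j⟩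

theorem colC_base {j : ℕ} (hj : j < 10) (x : Fin 315) :
    colC (bpt j) x = dig20 (colRows.getD j 0) x := by
  have h := rowsOK_true
  simp only [rowsOK, List.all_eq_true, List.mem_range, Bool.and_eq_true, beq_iff_eq,
    decide_eq_true_eq] at h
  obtain ⟨⟨⟨hw, h0⟩, -⟩, hx⟩ := h j hj
  set w := baseWord.getD j []
  have hr : ∀ i ∈ w.reverse, i < 4 := fun i hi => hw i (List.mem_reverse.mp hi)
  have hb : lineAct (wordE w.reverse) (bpt j) = 0 := by
    have : lineAct (wordE w) 0 = bpt j := Fin.ext (by rw [wordE_apply hw]; exact h0)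
    rw [← wordE_inv, ← this, map_inv, Equiv.Perm.inv_def, Equiv.symm_apply_apply]
  have hc := colC_invariant (wordE w.reverse) (bpt j) x
  rw [hb, wordE_apply hr] at hc
  rw [← hc, hx x x.isLt]
  have h0' := row0OK_true
  simp only [row0OK, List.all_eq_true, List.mem_range, beq_iff_eq] at h0'
  exact h0' _ (wordE_apply hr x ▸ Fin.isLt _)

/-- The image group. -/
noncomputable def J : Subgroup (Equiv.Perm (Fin 315)) := lineAct.range

theorem colC_J {g : Equiv.Perm (Fin 315)} (hg : g ∈ J) (a b : Fin 315) :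
    colC (g a) (g b) = colC a b := by
  obtain ⟨x, rfl⟩ := hg
  exact colC_invariant x a b

/-- The subgroup fixing the first `j` base points. -/
noncomputable def fixJ (j : ℕ) : Subgroup (Equiv.Perm (Fin 315)) :=
  J ⊓ fixingSubgroup (Equiv.Perm (Fin 315)) (bpt '' Set.Iio j)

theorem mem_fixJ {j : ℕ} {g : Equiv.Perm (Fin 315)} :
    g ∈ fixJ j ↔ g ∈ J ∧ ∀ i < j, g (bpt i) = bpt i := by
  simp [fixJ, Subgroup.mem_inf, mem_fixingSubgroup_iff, Equiv.Perm.smul_def]

theorem fixJ_zero : fixJ 0 = J := by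
  ext g; simp [mem_fixJ]

theorem inAtom_image {j : ℕ} (hj : j ≤ 10) {g : Equiv.Perm (Fin 315)} (hg : g ∈ fixJ j) :
    inAtom j (g (bpt j)) = true := by
  obtain ⟨hJ, hf⟩ := mem_fixJ.mp hg
  simp only [inAtom, List.all_eq_true, List.mem_range, beq_iff_eq]
  intro i hi
  rw [← colC_base (by omega) (g (bpt j))]
  conv_lhs => rw [← hf i hi]
  rw [colC_J hJ, colC_base (by omega)]
  rfl

theorem testBit_atomMask (j y : ℕ) :
    (atomMask j).testBit y = true ↔ y < 315 ∧ inAtom j y = true := by
  have key : ∀ (l : List ℕ) (m : ℕ),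
      (l.foldl (fun m x => if inAtom j x then m ||| 2 ^ x else m) m).testBit y = true ↔
        m.testBit y = true ∨ (y ∈ l ∧ inAtom j y = true) := by
    intro l
    induction l with
    | nil => simp
    | cons a l ih =>
      intro m
      rw [List.foldl_cons, ih]
      by_cases ha : inAtom j a = true
      · simp only [ha, if_true, Nat.testBit_or, Bool.or_eq_true, Nat.testBit_two_pow,
          decide_eq_true_eq, List.mem_cons]
        constructor
        · rintro ((h | rfl) | ⟨h, h'⟩)
          · exact Or.inl h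
          · exact Or.inr ⟨Or.inl rfl, ha⟩
          · exact Or.inr ⟨Or.inr h, h'⟩
        · rintro (h | ⟨rfl | h, h'⟩)
          · exact Or.inl (Or.inl h)
          · exact Or.inl (Or.inr rfl)
          · exact Or.inr ⟨h, h'⟩
      · simp only [ha, Bool.false_eq_true, if_false, List.mem_cons]
        constructor
        · rintro (h | ⟨h, h'⟩)
          · exact Or.inl h
          · exact Or.inr ⟨Or.inr h, h'⟩
        · rintro (h | ⟨rfl | h, h'⟩)
          · exact Or.inl h
          · exact absurd h' ha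
          · exact Or.inr ⟨h, h'⟩
  rw [atomMask, key]
  simp

theorem atom_ncard (j : ℕ) : {x : Fin 315 | inAtom j x = true}.ncard = atomSize j := by
  rw [← Set.ncard_image_of_injective _ Fin.val_injective]
  have : (Fin.val '' {x : Fin 315 | inAtom j x = true}) =
      ↑(((List.range 315).filter (inAtom j)).toFinset) := by
    ext y
    simp only [Set.mem_image, Set.mem_setOf_eq, List.coe_toFinset, List.mem_filter, List.mem_range]
    exact ⟨fun ⟨x, hx, e⟩ => e ▸ ⟨x.isLt, hx⟩, fun ⟨h, h'⟩ => ⟨⟨y, h⟩, h', rfl⟩⟩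
  rw [this, Set.ncard_coe_finset, atomSize,
    List.toFinset_card_of_nodup (List.nodup_range.filter _)]

theorem card_step (j : ℕ) (s : Set (Fin 315))
    (hs : ∀ x, (∃ g ∈ fixJ j, g (bpt j) = x) ↔ x ∈ s) :
    Nat.card (fixJ j) = s.ncard * Nat.card (fixJ (j + 1)) := by
  have horb : MulAction.orbit (fixJ j) (bpt j) = s := by
    ext p
    rw [← hs, MulAction.mem_orbit_iff]
    simp [Subgroup.smul_def]
  have h2 : Nat.card (MulAction.stabilizer (fixJ j) (bpt j)) = Nat.card (fixJ (j + 1)) := by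
    refine Nat.card_congr
      { toFun := fun g => ⟨(g.1 : Equiv.Perm (Fin 315)), ?_⟩
        invFun := fun g => ⟨⟨g.1, ?_⟩, ?_⟩
        left_inv := fun g => rfl
        right_inv := fun g => rfl }
    · obtain ⟨hJ, hF⟩ := mem_fixJ.mp g.1.2
      refine mem_fixJ.mpr ⟨hJ, fun i hi => ?_⟩
      rcases Nat.lt_succ_iff_lt_or_eq.mp hi with hi | rfl
      · exact hF i hi
      · exact g.2
    · obtain ⟨hJ, hF⟩ := mem_fixJ.mp g.2
      exact mem_fixJ.mpr ⟨hJ, fun i hi => hF i (Nat.lt_succ_of_lt hi)⟩
    · exact (mem_fixJ.mp g.2).2 j (Nat.lt_succ_self j)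
  rw [← horb, ← Nat.card_coe_set_eq, ← h2, ← Nat.card_prod]
  exact Nat.card_congr (MulAction.orbitProdStabilizerEquivGroup (fixJ j) (bpt j)).symm

theorem level_orbit {j : ℕ} (hj0 : 1 ≤ j) (hj : j < 5) (hok : levelOK j = true) (x : Fin 315)
    (hx : inAtom j x = true) : ∃ g ∈ fixJ j, g (bpt j) = x := by
  simp only [levelOK, Bool.and_eq_true, List.all_eq_true, List.mem_range, beq_iff_eq,
    decide_eq_true_eq] at hok
  obtain ⟨hws, hreach⟩ := hok
  set ws := stabWords.getD (j - 1) []
  have hmem : ∀ n < ws.length, ∀ i ∈ ws.getD n [], i < 4 := fun n hn => by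
    rw [List.getD_eq_getElem _ _ hn]; exact (hws _ (List.getElem_mem hn)).1
  refine (reachTree_spec
    (P := fun y => ∃ hy : y < 315, ∃ g ∈ fixJ j, g (bpt j) = ⟨y, hy⟩) ?_ _ _ _ hreach ?_ x
    ((testBit_atomMask j x).mpr ⟨x.isLt, hx⟩)).2
  · rintro y n hn ⟨hy, g, hg, e⟩
    simp only [decide_eq_true_eq] at hn
    have ha := wordE_apply (hmem n hn) ⟨y, hy⟩
    refine ⟨ha ▸ Fin.isLt _, lineAct (wordE (ws.getD n [])) * g, mul_mem (mem_fixJ.mpr ⟨⟨_, rfl⟩, ?_⟩) hg, ?_⟩
    · intro i hi
      refine Fin.ext ?_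
      rw [wordE_apply (hmem n hn)]
      rw [List.getD_eq_getElem _ _ hn]
      exact (hws _ (List.getElem_mem hn)).2 i hi
    · rw [Equiv.Perm.mul_apply, e]
      exact Fin.ext ha
  · intro y hy
    rw [Nat.testBit_two_pow, decide_eq_true_eq] at hy
    subst hy
    exact ⟨basePts_lt j, 1, one_mem _, rfl⟩

theorem card_level_J {j : ℕ} (hj0 : 1 ≤ j) (hj : j < 5) (hok : levelOK j = true) :
    Nat.card (fixJ j) = atomSize j * Nat.card (fixJ (j + 1)) := by
  rw [← atom_ncard]
  refine card_step j _ fun x => ⟨?_, fun hx => level_orbit hj0 hj hok x hx⟩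
  rintro ⟨g, hg, rfl⟩
  exact inAtom_image (by omega) hg

theorem fixJ_ten_fixes {g : Equiv.Perm (Fin 315)} (hg : g ∈ fixJ 5) :
    ∀ i < 10, g (bpt i) = bpt i := by
  intro i
  induction i using Nat.strong_induction_on with
  | _ i ih =>
    intro hi
    by_cases h5 : i < 5
    · exact (mem_fixJ.mp hg).2 i h5
    have hg' : g ∈ fixJ i := mem_fixJ.mpr ⟨(mem_fixJ.mp hg).1, fun k hk => ih k hk (by omega)⟩
    have hA := inAtom_image (by omega) hg'
    have h := stagesAlone_true
    simp only [stagesAlone, List.all_eq_true, List.mem_range, Bool.or_eq_true, Bool.not_eq_true',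
      beq_iff_eq] at h
    rcases h i (by simp; omega) (g (bpt i)) (Fin.isLt _) with h' | h'
    · rw [hA] at h'; exact absurd h' (by simp)
    · exact Fin.ext h'

theorem codes_get (xs : List ℕ) : ∀ cs : List ℕ, codesMatch xs cs = true →
    ∀ i (hi : i < xs.length), ∃ hc : i < cs.length, codeKey xs[i] colRows = cs[i] := by
  induction xs with
  | nil => intro cs _ i hi; exact absurd hi (Nat.not_lt_zero i)
  | cons x xs ih =>
    intro cs h i hi
    cases cs with
    | nil => simp [codesMatch] at h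
    | cons c cs =>
      rw [codesMatch, Bool.and_eq_true, beq_iff_eq] at h
      rcases i with _ | i
      · exact ⟨Nat.zero_lt_succ _, by rw [List.getElem_cons_zero, List.getElem_cons_zero]; exact h.1⟩
      · obtain ⟨hc, e⟩ := ih cs h.2 i (Nat.lt_of_succ_lt_succ hi)
        exact ⟨Nat.succ_lt_succ hc, by rw [List.getElem_cons_succ, List.getElem_cons_succ]; exact e⟩

theorem lineCodes_nodup : lineCodes.Nodup := by
  suffices ∀ l, natsDistinct l = true → l.Nodup from this _ lineCodes_distinct
  intro l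
  induction l with
  | nil => simp
  | cons x xs ih =>
    intro h
    simp only [natsDistinct, Bool.and_eq_true, List.all_eq_true] at h
    refine List.nodup_cons.mpr ⟨fun hm => ?_, ih h.2⟩
    simpa using h.1 x hm

theorem codeKey_congr {x y : ℕ} : ∀ {rs : List ℕ},
    (∀ r ∈ rs, dig20 r x = dig20 r y) → codeKey x rs = codeKey y rs
  | [], _ => rfl
  | r :: rs, h => by
    rw [List.forall_mem_cons] at h
    simp [codeKey, h.1, codeKey_congr h.2]

theorem fixJ_five : fixJ 5 = ⊥ := by
  rw [Subgroup.eq_bot_iff_forall]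
  intro g hg
  have hf := fixJ_ten_fixes hg
  have hJ := (mem_fixJ.mp hg).1
  refine Equiv.ext fun x => ?_
  have hkey : codeKey (g x) colRows = codeKey x colRows := by
    refine codeKey_congr fun r hr => ?_
    obtain ⟨i, hi, rfl⟩ := List.mem_iff_getElem.mp hr
    have hi' : i < 10 := by simpa [colRows] using hi
    have e := colC_J hJ (bpt i) x
    rw [hf i hi', colC_base hi', colC_base hi', List.getD_eq_getElem _ _ hi] at e
    exact e
  obtain ⟨c1, e1⟩ := codes_get _ _ codesMatch_true (g x) (by simp)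
  obtain ⟨c2, e2⟩ := codes_get _ _ codesMatch_true x (by simp)
  simp only [List.getElem_range] at e1 e2
  rw [hkey, e2] at e1
  exact Fin.ext ((List.Nodup.getElem_inj_iff lineCodes_nodup).mp e1).symm

theorem bpt_zero : bpt 0 = 0 := Fin.ext (by simp [bpt, basePts])

theorem card_J : Nat.card J = 604800 := by
  have h0 := card_step 0 Set.univ fun x => ⟨fun _ => trivial, fun _ => by
    obtain ⟨g, e⟩ := lineAct_transitive 0 x
    exact ⟨lineAct g, by rw [fixJ_zero]; exact ⟨g, rfl⟩, by rw [bpt_zero]; exact e⟩⟩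
  obtain ⟨a1, a2, a3, a4⟩ := atomSizes
  rw [fixJ_zero, card_level_J (j := 1) le_rfl (by norm_num) level1,
    card_level_J (j := 2) (by norm_num) (by norm_num) level2,
    card_level_J (j := 3) (by norm_num) (by norm_num) level3,
    card_level_J (j := 4) (by norm_num) (by norm_num) level4, fixJ_five, Subgroup.card_bot,
    Set.ncard_univ, Nat.card_fin, a1, a2, a3, a4] at h0
  exact h0

end CfsgLib.J2
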