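import Cfsg.Prelude.Def_Spor_J2

/-!
Exact arithmetic in the quaternion algebra over `ℤ[τ]`, on doubled coordinates.
-/

set_option autoImplicit false

namespace CfsgLib.J2

open Quaternion Cfsg.Spor

/-- Twice a quaternion with coordinates in `½ℤ[τ]`: the four pairs `a + bτ`. -/
structure Q where
  /-- constant part of the first coordinate -/
  a0 : ℤ
  /-- `τ` part of the first coordinate -/
  b0 : ℤ
  /-- constant part of the second coordinate -/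
  a1 : ℤ
  /-- `τ` part of the second coordinate -/
  b1 : ℤ
  /-- constant part of the third coordinate -/
  a2 : ℤ
  /-- `τ` part of the third coordinate -/
  b2 : ℤ
  /-- constant part of the fourth coordinate -/
  a3 : ℤ
  /-- `τ` part of the fourth coordinate -/
  b3 : ℤ
deriving DecidableEq

namespace Q

/-- zero -/
def zero : Q := ⟨0, 0, 0, 0, 0, 0, 0, 0⟩
/-- one -/
def one : Q := ⟨2, 0, 0, 0, 0, 0, 0, 0⟩
/-- sum -/
def add (x y : Q) : Q :=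
  ⟨x.a0 + y.a0, x.b0 + y.b0, x.a1 + y.a1, x.b1 + y.b1, x.a2 + y.a2, x.b2 + y.b2, x.a3 + y.a3,
    x.b3 + y.b3⟩
/-- opposite -/
def neg (x : Q) : Q := ⟨-x.a0, -x.b0, -x.a1, -x.b1, -x.a2, -x.b2, -x.a3, -x.b3⟩
/-- difference -/
def sub (x y : Q) : Q :=
  ⟨x.a0 - y.a0, x.b0 - y.b0, x.a1 - y.a1, x.b1 - y.b1, x.a2 - y.a2, x.b2 - y.b2, x.a3 - y.a3,
    x.b3 - y.b3⟩
/-- conjugate -/
def conj (x : Q) : Q := ⟨x.a0, x.b0, -x.a1, -x.b1, -x.a2, -x.b2, -x.a3, -x.b3⟩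
/-- integer multiple -/
def smul (k : ℤ) (x : Q) : Q :=
  ⟨k * x.a0, k * x.b0, k * x.a1, k * x.b1, k * x.a2, k * x.b2, k * x.a3, k * x.b3⟩
/-- half -/
def half (x : Q) : Q :=
  ⟨x.a0 / 2, x.b0 / 2, x.a1 / 2, x.b1 / 2, x.a2 / 2, x.b2 / 2, x.a3 / 2, x.b3 / 2⟩
/-- all coordinates even -/
def even (x : Q) : Bool :=
  x.a0 % 2 == 0 && x.b0 % 2 == 0 && x.a1 % 2 == 0 && x.b1 % 2 == 0 && x.a2 % 2 == 0 &&
    x.b2 % 2 == 0 && x.a3 % 2 == 0 && x.b3 % 2 == 0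
/-- coordinates mod 2 -/
def mod2 (x : Q) : Q :=
  ⟨x.a0 % 2, x.b0 % 2, x.a1 % 2, x.b1 % 2, x.a2 % 2, x.b2 % 2, x.a3 % 2, x.b3 % 2⟩
/-- fast equality -/
def beq (x y : Q) : Bool :=
  x.a0 == y.a0 && x.b0 == y.b0 && x.a1 == y.a1 && x.b1 == y.b1 && x.a2 == y.a2 && x.b2 == y.b2 &&
    x.a3 == y.a3 && x.b3 == y.b3

theorem eq_of_beq {x y : Q} (h : beq x y = true) : x = y := by
  cases x; cases y
  simp only [beq, Bool.and_eq_true, beq_iff_eq] at h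
  simp only [Q.mk.injEq]
  tauto

theorem beq_self (x : Q) : beq x x = true := by simp [beq]

/-- twice the product, before dividing -/
def raw (x y : Q) : Q :=
  ⟨(x.a0 * y.a0 + x.b0 * y.b0) - (x.a1 * y.a1 + x.b1 * y.b1) - (x.a2 * y.a2 + x.b2 * y.b2)
      - (x.a3 * y.a3 + x.b3 * y.b3),
    (x.a0 * y.b0 + x.b0 * y.a0 + x.b0 * y.b0) - (x.a1 * y.b1 + x.b1 * y.a1 + x.b1 * y.b1)
      - (x.a2 * y.b2 + x.b2 * y.a2 + x.b2 * y.b2) - (x.a3 * y.b3 + x.b3 * y.a3 + x.b3 * y.b3),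
    (x.a0 * y.a1 + x.b0 * y.b1) + (x.a1 * y.a0 + x.b1 * y.b0) + (x.a2 * y.a3 + x.b2 * y.b3)
      - (x.a3 * y.a2 + x.b3 * y.b2),
    (x.a0 * y.b1 + x.b0 * y.a1 + x.b0 * y.b1) + (x.a1 * y.b0 + x.b1 * y.a0 + x.b1 * y.b0)
      + (x.a2 * y.b3 + x.b2 * y.a3 + x.b2 * y.b3) - (x.a3 * y.b2 + x.b3 * y.a2 + x.b3 * y.b2),
    (x.a0 * y.a2 + x.b0 * y.b2) - (x.a1 * y.a3 + x.b1 * y.b3) + (x.a2 * y.a0 + x.b2 * y.b0)
      + (x.a3 * y.a1 + x.b3 * y.b1),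
    (x.a0 * y.b2 + x.b0 * y.a2 + x.b0 * y.b2) - (x.a1 * y.b3 + x.b1 * y.a3 + x.b1 * y.b3)
      + (x.a2 * y.b0 + x.b2 * y.a0 + x.b2 * y.b0) + (x.a3 * y.b1 + x.b3 * y.a1 + x.b3 * y.b1),
    (x.a0 * y.a3 + x.b0 * y.b3) + (x.a1 * y.a2 + x.b1 * y.b2) - (x.a2 * y.a1 + x.b2 * y.b1)
      + (x.a3 * y.a0 + x.b3 * y.b0),
    (x.a0 * y.b3 + x.b0 * y.a3 + x.b0 * y.b3) + (x.a1 * y.b2 + x.b1 * y.a2 + x.b1 * y.b2)
      - (x.a2 * y.b1 + x.b2 * y.a1 + x.b2 * y.b1) + (x.a3 * y.b0 + x.b3 * y.a0 + x.b3 * y.b0)⟩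

/-- product -/
def mul (x y : Q) : Q := half (raw x y)

/-- four times the norm, as `c + dτ` -/
def nsq (x : Q) : ℤ × ℤ :=
  (x.a0 * x.a0 + x.b0 * x.b0 + x.a1 * x.a1 + x.b1 * x.b1 + x.a2 * x.a2 + x.b2 * x.b2 +
      x.a3 * x.a3 + x.b3 * x.b3,
    2 * (x.a0 * x.b0) + x.b0 * x.b0 + 2 * (x.a1 * x.b1) + x.b1 * x.b1 + 2 * (x.a2 * x.b2) +
      x.b2 * x.b2 + 2 * (x.a3 * x.b3) + x.b3 * x.b3)

end Q

/-- The quaternion of a doubled coordinate vector. -/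
noncomputable def phi (x : Q) : ℍ[ℝ] :=
  ⟨((x.a0 : ℝ) + x.b0 * tau) / 2, ((x.a1 : ℝ) + x.b1 * tau) / 2,
    ((x.a2 : ℝ) + x.b2 * tau) / 2, ((x.a3 : ℝ) + x.b3 * tau) / 2⟩

@[simp] theorem phi_re (x : Q) : (phi x).re = ((x.a0 : ℝ) + x.b0 * tau) / 2 := rfl

@[simp] theorem phi_imI (x : Q) : (phi x).imI = ((x.a1 : ℝ) + x.b1 * tau) / 2 := rfl

@[simp] theorem phi_imJ (x : Q) : (phi x).imJ = ((x.a2 : ℝ) + x.b2 * tau) / 2 := rfl

@[simp] theorem phi_imK (x : Q) : (phi x).imK = ((x.a3 : ℝ) + x.b3 * tau) / 2 := rfl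

theorem tau_sq : tau * tau = tau + 1 := by
  have h : Real.sqrt 5 * Real.sqrt 5 = 5 := Real.mul_self_sqrt (by norm_num)
  simp only [tau]
  linear_combination (1 / 4 : ℝ) * h

theorem sig_eq : sig = 1 - tau := by simp only [sig, tau]; ring

theorem sqrt_five_eq : Real.sqrt 5 = 2 * tau - 1 := by simp only [tau]; ring

theorem int_tau_eq_zero {a b : ℤ} (h : (a : ℝ) + b * tau = 0) : a = 0 ∧ b = 0 := by
  have hb : b = 0 := by
    by_contra hb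
    have hirr : Irrational (Real.sqrt 5) := by
      have := Nat.Prime.irrational_sqrt (p := 5) (by norm_num)
      simpa using this
    refine hirr ⟨(-2 * (a : ℚ) - b) / b, ?_⟩
    have hb' : (b : ℝ) ≠ 0 := by exact_mod_cast hb
    simp only [tau] at h
    push_cast
    field_simp
    linarith
  subst hb
  simpa using h

theorem int_tau_inj {a b c d : ℤ} (h : (a : ℝ) + b * tau = c + d * tau) : a = c ∧ b = d := by
  obtain ⟨h1, h2⟩ := int_tau_eq_zero (a := a - c) (b := b - d) (by push_cast; linarith)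
  exact ⟨by omega, by omega⟩

theorem phi_injective : Function.Injective phi := by
  rintro ⟨a0, b0, a1, b1, a2, b2, a3, b3⟩ ⟨c0, d0, c1, d1, c2, d2, c3, d3⟩ h
  have h0 := congrArg (fun z : ℍ[ℝ] => z.re) h
  have h1 := congrArg (fun z : ℍ[ℝ] => z.imI) h
  have h2 := congrArg (fun z : ℍ[ℝ] => z.imJ) h
  have h3 := congrArg (fun z : ℍ[ℝ] => z.imK) h
  simp only [phi_re, phi_imI, phi_imJ, phi_imK, div_left_inj' (two_ne_zero' ℝ)] at h0 h1 h2 h3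
  simp only [Q.mk.injEq]
  exact ⟨(int_tau_inj h0).1, (int_tau_inj h0).2, (int_tau_inj h1).1, (int_tau_inj h1).2,
    (int_tau_inj h2).1, (int_tau_inj h2).2, (int_tau_inj h3).1, (int_tau_inj h3).2⟩

theorem phi_zero : phi Q.zero = 0 := by ext <;> simp [Q.zero]

theorem phi_one : phi Q.one = 1 := by ext <;> simp [Q.one]

theorem phi_add (x y : Q) : phi (Q.add x y) = phi x + phi y := by
  ext <;> simp [Q.add] <;> ring

theorem phi_sub (x y : Q) : phi (Q.sub x y) = phi x - phi y := by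
  ext <;> simp [Q.sub] <;> ring

theorem phi_neg (x : Q) : phi (Q.neg x) = -phi x := by
  ext <;> simp [Q.neg] <;> ring

theorem phi_conj (x : Q) : phi (Q.conj x) = star (phi x) := by
  ext <;> simp [Q.conj] <;> ring

theorem phi_smul (k : ℤ) (x : Q) : phi (Q.smul k x) = (k : ℝ) • phi x := by
  ext <;> simp [Q.smul] <;> ring

theorem phi_two (x : Q) : phi (Q.smul 2 x) = 2 * phi x := by
  rw [two_mul]; ext <;> simp [Q.smul] <;> ring

theorem phi_raw (x y : Q) : phi (Q.raw x y) = 2 * (phi x * phi y) := by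
  have h := tau_sq
  rw [two_mul]
  ext <;> simp [Q.raw] <;>
    first
    | linear_combination (-(x.b0 : ℝ) * y.b0 + x.b1 * y.b1 + x.b2 * y.b2 + x.b3 * y.b3) / 2 * h
    | linear_combination
        (-(x.b0 : ℝ) * y.b1 - x.b1 * y.b0 - x.b2 * y.b3 + x.b3 * y.b2) / 2 * h
    | linear_combination
        (-(x.b0 : ℝ) * y.b2 + x.b1 * y.b3 - x.b2 * y.b0 - x.b3 * y.b1) / 2 * h
    | linear_combination
        (-(x.b0 : ℝ) * y.b3 - x.b1 * y.b2 + x.b2 * y.b1 - x.b3 * y.b0) / 2 * h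

theorem half_smul_two (x : Q) : Q.half (Q.smul 2 x) = x := by
  cases x; simp [Q.half, Q.smul]

theorem smul_two_half {x : Q} (h : x.even = true) : Q.smul 2 (Q.half x) = x := by
  cases x
  simp only [Q.even, Bool.and_eq_true, beq_iff_eq] at h
  simp only [Q.half, Q.smul, Q.mk.injEq]
  refine ⟨?_, ?_, ?_, ?_, ?_, ?_, ?_, ?_⟩ <;> omega

theorem even_smul_two (x : Q) : (Q.smul 2 x).even = true := by
  simp [Q.even, Q.smul]

theorem phi_nsq (x : Q) :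
    phi x * star (phi x) = ((((x.nsq.1 : ℝ) + x.nsq.2 * tau) / 4 : ℝ) : ℍ[ℝ]) := by
  have h := tau_sq
  generalize hc : ((x.nsq.1 : ℝ) + x.nsq.2 * tau) / 4 = c
  simp only [Q.nsq, Int.cast_add, Int.cast_mul, Int.cast_ofNat] at hc
  ext <;> simp
  · linear_combination ((x.b0 : ℝ) ^ 2 + x.b1 ^ 2 + x.b2 ^ 2 + x.b3 ^ 2) / 4 * h + hc
  all_goals ring

end CfsgLib.J2
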