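import Cfsg.Agent.Lib.J2.Quat

/-!
Data for the icosian ring: the units, a basis and the parity code.
-/

set_option autoImplicit false

namespace CfsgLib.J2

/-- The units, in the order in which they are generated. -/
def units : List Q := [
  ⟨2, 0, 0, 0, 0, 0, 0, 0⟩, ⟨0, 0, 2, 0, 0, 0, 0, 0⟩,
  ⟨1, 0, 1, -1, 0, 0, 0, 1⟩, ⟨-2, 0, 0, 0, 0, 0, 0, 0⟩,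
  ⟨-1, 1, 1, 0, 0, 1, 0, 0⟩, ⟨-1, 1, 1, 0, 0, -1, 0, 0⟩,
  ⟨-1, 0, 1, -1, 0, 0, 0, 1⟩, ⟨0, 0, -2, 0, 0, 0, 0, 0⟩,
  ⟨-1, 0, -1, 1, 0, 0, 0, -1⟩, ⟨-1, 0, -1, 1, 0, 0, 0, 1⟩,
  ⟨-1, 1, -1, 0, 0, 1, 0, 0⟩, ⟨-1, 1, 0, 1, 0, 0, 1, 0⟩,
  ⟨-1, 1, -1, 0, 0, -1, 0, 0⟩, ⟨1, -1, -1, 0, 0, -1, 0, 0⟩,
  ⟨1, -1, -1, 0, 0, 1, 0, 0⟩, ⟨1, 0, -1, 1, 0, 0, 0, -1⟩,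
  ⟨0, -1, -1, 1, 1, 0, 0, 0⟩, ⟨1, 0, -1, 1, 0, 0, 0, 1⟩,
  ⟨0, -1, -1, 1, -1, 0, 0, 0⟩, ⟨0, 0, -1, 1, 0, 1, 1, 0⟩,
  ⟨0, 0, -1, 1, 0, -1, 1, 0⟩, ⟨1, 0, 1, -1, 0, 0, 0, -1⟩,
  ⟨1, -1, 1, 0, 0, -1, 0, 0⟩, ⟨1, -1, 0, -1, 0, 0, -1, 0⟩,
  ⟨1, -1, 1, 0, 0, 1, 0, 0⟩, ⟨1, -1, 0, -1, 0, 0, 1, 0⟩,
  ⟨1, -1, 0, 0, 1, 0, 0, -1⟩, ⟨1, -1, 0, 0, 1, 0, 0, 1⟩,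
  ⟨1, -1, 0, 1, 0, 0, -1, 0⟩, ⟨1, -1, 0, 0, -1, 0, 0, 1⟩,
  ⟨1, -1, 0, 0, -1, 0, 0, -1⟩, ⟨1, -1, 0, 1, 0, 0, 1, 0⟩,
  ⟨0, 1, 1, -1, -1, 0, 0, 0⟩, ⟨-1, 0, 1, -1, 0, 0, 0, -1⟩,
  ⟨0, 1, 1, -1, 1, 0, 0, 0⟩, ⟨0, 0, 1, -1, 0, -1, -1, 0⟩,
  ⟨0, 0, 1, -1, 0, 1, -1, 0⟩, ⟨0, -1, 1, -1, -1, 0, 0, 0⟩,
  ⟨0, 0, 1, -1, 0, 1, 1, 0⟩, ⟨0, 0, 1, -1, 0, -1, 1, 0⟩,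
  ⟨0, -1, 1, -1, 1, 0, 0, 0⟩, ⟨1, 0, 1, 0, 1, 0, -1, 0⟩,
  ⟨0, -1, 1, 0, 0, 0, -1, 1⟩, ⟨1, 0, 1, 0, -1, 0, -1, 0⟩,
  ⟨-1, 1, 0, 1, 0, 0, -1, 0⟩, ⟨-1, 1, 0, 0, -1, 0, 0, 1⟩,
  ⟨-1, 1, 0, 0, -1, 0, 0, -1⟩, ⟨-1, 1, 0, -1, 0, 0, 1, 0⟩,
  ⟨-1, 1, 0, 0, 1, 0, 0, -1⟩, ⟨-1, 1, 0, 0, 1, 0, 0, 1⟩,
  ⟨-1, 1, 0, -1, 0, 0, -1, 0⟩, ⟨-1, 0, 1, 0, -1, 0, -1, 0⟩,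
  ⟨-1, 0, 0, -1, -1, 1, 0, 0⟩, ⟨-1, 0, 1, 0, -1, 0, 1, 0⟩,
  ⟨-1, 0, 1, 0, 1, 0, 1, 0⟩, ⟨-1, 0, 0, -1, 1, -1, 0, 0⟩,
  ⟨-1, 0, 1, 0, 1, 0, -1, 0⟩, ⟨0, 1, 1, 0, 0, 0, -1, 1⟩,
  ⟨0, 1, -1, 1, 1, 0, 0, 0⟩, ⟨0, 0, -1, 1, 0, -1, -1, 0⟩,
  ⟨0, 0, -1, 1, 0, 1, -1, 0⟩, ⟨0, 1, -1, 1, -1, 0, 0, 0⟩,
  ⟨-1, 0, -1, 0, -1, 0, 1, 0⟩, ⟨0, 1, -1, 0, 0, 0, 1, -1⟩,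
  ⟨-1, 0, -1, 0, 1, 0, 1, 0⟩, ⟨-1, 0, -1, 0, 1, 0, -1, 0⟩,
  ⟨0, 1, -1, 0, 0, 0, -1, 1⟩, ⟨-1, 0, -1, 0, -1, 0, -1, 0⟩,
  ⟨-1, 0, 0, 1, -1, 1, 0, 0⟩, ⟨-1, 0, 0, 0, 0, 1, 1, -1⟩,
  ⟨-1, 0, 0, 0, 0, -1, 1, -1⟩, ⟨-1, 0, 0, 1, 1, -1, 0, 0⟩,
  ⟨1, 0, -1, 0, 1, 0, 1, 0⟩, ⟨1, 0, 0, 1, 1, -1, 0, 0⟩,
  ⟨1, 0, -1, 0, 1, 0, -1, 0⟩, ⟨1, 0, -1, 0, -1, 0, -1, 0⟩,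
  ⟨1, 0, 0, 1, -1, 1, 0, 0⟩, ⟨1, 0, -1, 0, -1, 0, 1, 0⟩,
  ⟨0, -1, -1, 0, 0, 0, 1, -1⟩, ⟨0, 0, -1, 0, 1, -1, 0, -1⟩,
  ⟨0, 0, -1, 0, 1, -1, 0, 1⟩, ⟨0, -1, -1, 0, 0, 0, -1, 1⟩,
  ⟨0, 0, -1, 0, -1, 1, 0, 1⟩, ⟨0, 0, -1, 0, -1, 1, 0, -1⟩,
  ⟨0, 0, 0, 1, -1, 0, 1, -1⟩, ⟨0, 0, 0, 1, 1, 0, 1, -1⟩,
  ⟨1, 0, 1, 0, -1, 0, 1, 0⟩, ⟨0, -1, 1, 0, 0, 0, 1, -1⟩,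
  ⟨1, 0, 1, 0, 1, 0, 1, 0⟩, ⟨1, 0, 0, -1, 1, -1, 0, 0⟩,
  ⟨1, 0, 0, 0, 0, -1, -1, 1⟩, ⟨1, 0, 0, 0, 0, 1, -1, 1⟩,
  ⟨1, 0, 0, -1, -1, 1, 0, 0⟩, ⟨1, 0, 0, 0, 0, 1, 1, -1⟩,
  ⟨1, 0, 0, 0, 0, -1, 1, -1⟩, ⟨0, -1, 0, 0, 1, -1, 1, 0⟩,
  ⟨0, -1, 0, 0, 1, -1, -1, 0⟩, ⟨0, -1, 0, 0, -1, 1, -1, 0⟩,
  ⟨0, -1, 0, 0, -1, 1, 1, 0⟩, ⟨0, 0, 1, 0, -1, 1, 0, 1⟩,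
  ⟨0, 0, 1, 0, -1, 1, 0, -1⟩, ⟨0, 1, 1, 0, 0, 0, 1, -1⟩,
  ⟨0, 0, 1, 0, 1, -1, 0, -1⟩, ⟨0, 0, 1, 0, 1, -1, 0, 1⟩,
  ⟨0, 0, 0, -1, 1, 0, -1, 1⟩, ⟨0, 0, 0, -1, -1, 0, -1, 1⟩,
  ⟨0, 0, 0, -1, -1, 0, 1, -1⟩, ⟨0, 0, 0, -1, 1, 0, 1, -1⟩,
  ⟨0, 0, 0, 0, 0, 0, -2, 0⟩, ⟨-1, 0, 0, 0, 0, -1, -1, 1⟩,
  ⟨-1, 0, 0, 0, 0, 1, -1, 1⟩, ⟨0, 1, 0, 0, -1, 1, -1, 0⟩,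
  ⟨0, 1, 0, 0, -1, 1, 1, 0⟩, ⟨0, 1, 0, 0, 1, -1, 1, 0⟩,
  ⟨0, 1, 0, 0, 1, -1, -1, 0⟩, ⟨0, 0, 0, 0, -2, 0, 0, 0⟩,
  ⟨0, 0, 0, 0, 2, 0, 0, 0⟩, ⟨0, 0, 0, 1, 1, 0, -1, 1⟩,
  ⟨0, 0, 0, 1, -1, 0, -1, 1⟩, ⟨0, 0, 0, 0, 0, 0, 2, 0⟩]

/-- Each unit after the first as a generator times an earlier unit. -/
def unitTree : List (ℕ × ℕ) := [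
  (0, 0), (1, 0), (0, 1), (1, 1), (0, 2), (1, 2),
  (0, 3), (1, 3), (0, 4), (1, 4), (1, 5), (0, 6),
  (1, 7), (0, 8), (1, 8), (1, 9), (0, 10), (0, 11),
  (1, 11), (1, 12), (0, 13), (1, 13), (1, 14), (0, 15),
  (0, 16), (1, 16), (1, 17), (1, 18), (0, 19), (0, 20),
  (1, 20), (1, 21), (0, 22), (0, 23), (1, 23), (1, 24),
  (1, 25), (0, 26), (0, 27), (1, 27), (1, 28), (1, 29),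
  (1, 30), (0, 32), (1, 32), (1, 33), (1, 34), (0, 35),
  (0, 36), (1, 36), (1, 37), (1, 38), (1, 39), (0, 41),
  (0, 42), (1, 42), (1, 43), (1, 44), (0, 45), (0, 46),
  (1, 46), (1, 47), (1, 48), (1, 49), (0, 51), (0, 52),
  (1, 52), (1, 53), (1, 54), (1, 55), (0, 57), (1, 58),
  (1, 59), (1, 60), (0, 62), (0, 63), (1, 63), (1, 64),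
  (1, 65), (1, 66), (0, 68), (0, 69), (1, 69), (1, 70),
  (1, 71), (0, 72), (0, 73), (1, 73), (1, 74), (1, 75),
  (1, 76), (0, 78), (0, 79), (1, 79), (1, 80), (1, 81),
  (0, 84), (0, 85), (1, 86), (1, 87), (0, 89), (0, 90),
  (1, 90), (1, 91), (1, 92), (0, 95), (0, 96), (1, 97),
  (0, 99), (1, 99), (1, 100), (1, 101), (0, 104), (0, 105),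
  (1, 106), (0, 108), (0, 111), (0, 112), (1, 113)]

/-- The parity code. -/
def code : List Q := [
  ⟨0, 0, 0, 0, 0, 0, 0, 0⟩, ⟨0, 1, 1, 1, 1, 0, 0, 0⟩, ⟨1, 1, 1, 0, 0, 1, 0, 0⟩, ⟨1, 0, 0, 1, 1, 1, 0, 0⟩,
  ⟨1, 1, 0, 1, 0, 0, 1, 0⟩, ⟨1, 0, 1, 0, 1, 0, 1, 0⟩, ⟨0, 0, 1, 1, 0, 1, 1, 0⟩, ⟨0, 1, 0, 0, 1, 1, 1, 0⟩,
  ⟨1, 0, 1, 1, 0, 0, 0, 1⟩, ⟨1, 1, 0, 0, 1, 0, 0, 1⟩, ⟨0, 1, 0, 1, 0, 1, 0, 1⟩, ⟨0, 0, 1, 0, 1, 1, 0, 1⟩,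
  ⟨0, 1, 1, 0, 0, 0, 1, 1⟩, ⟨0, 0, 0, 1, 1, 0, 1, 1⟩, ⟨1, 0, 0, 0, 0, 1, 1, 1⟩, ⟨1, 1, 1, 1, 1, 1, 1, 1⟩]

/-- Indices of a basis among the units. -/
def basisIdx : List ℕ := [0, 9, 12, 14, 19, 22, 30, 44]

/-- Coefficients of the code lifts. -/
def codeCoef : List (List ℤ) := [
  [0, 0, 0, 0, 0, 0, 0, 0], [0, -1, 0, 0, 1, 1, -1, 1],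
  [1, 0, -1, -1, 0, -1, 0, 0], [0, -1, 0, 1, 1, 1, -1, 1],
  [1, 0, 0, -1, 1, 0, 0, 0], [0, -1, 0, 0, 1, 1, -1, 0],
  [0, 0, -1, -1, 1, 0, 0, 0], [0, -1, 0, 0, 1, 0, -1, 0],
  [1, 1, -1, -1, 0, 0, 0, 0], [1, 0, 0, 0, 0, 0, -1, 0],
  [1, 1, -1, -1, 0, -1, 0, 0], [0, 0, -1, 0, 0, 0, -1, 0],
  [1, 1, -1, -2, 0, -1, 0, -1], [0, 0, 0, 0, 1, 1, -1, 0],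
  [1, 1, -1, -1, 0, -1, 0, -1], [1, 0, -1, -1, 1, 0, -1, 0]]

/-- Coefficients of twice the coordinate vectors. -/
def twoCoef : List (List ℤ) := [
  [1, 0, 0, 0, 0, 0, 0, 0], [1, 0, 0, -1, 0, -1, 0, 0],
  [0, 0, -1, -1, 0, 0, 0, 0], [0, 0, 0, 0, 1, 1, 0, 1],
  [-1, -2, 1, 2, 1, 2, -2, 1], [0, 0, -1, 0, 0, -1, 0, 0],
  [0, 0, 0, -1, 1, 0, 0, -1], [1, 2, -1, -1, -1, -1, 0, -1]]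

end CfsgLib.J2
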