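import Cfsg.Agent.Lib.J2.RData

/-!
Finite checks on the 315 representatives.
-/

set_option autoImplicit false

namespace CfsgLib.J2

/-- the zero triple -/
def vZero : V := ⟨Q.zero, Q.zero, Q.zero⟩

/-- the representative with number `k` -/
def rep (k : ℕ) : V := R.getD k vZero

/-- Horner value of eight coordinates -/
def hornQ (x : Q) : ℤ :=
  x.a0 + 31 * (x.b0 + 31 * (x.a1 + 31 * (x.b1 + 31 * (x.a2 + 31 * (x.b2 + 31 * (x.a3 + 31 * x.b3))))))

/-- an invariant of the line of `v` -/
def lineKey (v : V) : ℤ :=
  hornQ (Q.mul (Q.conj v.x) v.y) + 852891037441 * (hornQ (Q.mul (Q.conj v.x) v.z) +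
    852891037441 * (hornQ (Q.mul (Q.conj v.y) v.z) + 852891037441 *
      (v.x.nsq.1 + 31 * (v.x.nsq.2 + 31 * (v.y.nsq.1 + 31 * (v.y.nsq.2 + 31 *
        (v.z.nsq.1 + 31 * v.z.nsq.2)))))))

/-- all keys of the list agree with the shifted list -/
def keysMatch : List V → List ℕ → Bool
  | [], [] => true
  | v :: vs, n :: ns =>
      (lineKey v + 100000000000000000000000000000000000000000000000000 == (n : ℤ)) && keysMatch vs ns
  | _, _ => false

/-- pairwise different numbers -/
def natsDistinct : List ℕ → Bool
  | [] => true
  | x :: xs => xs.all (fun y => !Nat.beq x y) && natsDistinct xs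

/-- the tree of representatives -/
def treeOK : Bool :=
  (List.range 314).all fun n =>
    decide ((RTree.getD n (0, 0)).1 < 315) && decide ((RTree.getD n (0, 0)).2 ≤ n) &&
      V.beq (reflV (rep (RTree.getD n (0, 0)).1) (rep (RTree.getD n (0, 0)).2)) (rep (n + 1))

/-- the units are distinct -/
def unitsDistinct : List Q → Bool
  | [] => true
  | x :: xs => xs.all (fun y => !Q.beq x y) && unitsDistinct xs

theorem treeOK_true : treeOK = true := by decide +kernel

theorem keysMatch_true : keysMatch R repKeys = true := by decide +kernel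

theorem natsDistinct_true : natsDistinct repKeys = true := by decide +kernel

theorem unitsDistinct_true : unitsDistinct units = true := by decide +kernel

theorem rep_zero : V.beq (rep 0) ⟨Q.smul 2 Q.one, Q.zero, Q.zero⟩ = true := by decide +kernel

end CfsgLib.J2
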