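import Cfsg.Agent.Lib.J2.MinVec
import Cfsg.Agent.Lib.J2.ReflectCheck

/-!
The 315 reflections, their conjugacy, and the 37800 minimal vectors.
-/

set_option autoImplicit false

namespace CfsgLib.J2

open Quaternion Cfsg.Spor

theorem keys_get : ∀ {l : List V} {ns : List ℕ}, keysMatch l ns = true →
    ∀ i (hi : i < l.length), ∃ hn : i < ns.length,
      lineKey l[i] + 100000000000000000000000000000000000000000000000000 = (ns[i] : ℤ)
  | [], _, _, i, hi => absurd hi (Nat.not_lt_zero i)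
  | v :: vs, [], h, i, hi => by simp [keysMatch] at h
  | v :: vs, n :: ns, h, i, hi => by
    simp only [keysMatch, Bool.and_eq_true, beq_iff_eq] at h
    rcases i with _ | i
    · exact ⟨Nat.zero_lt_succ _, by simpa using h.1⟩
    · obtain ⟨hn, e⟩ := keys_get h.2 i (Nat.lt_of_succ_lt_succ hi)
      exact ⟨Nat.succ_lt_succ hn, by simpa using e⟩

theorem repKeys_nodup : repKeys.Nodup := by
  suffices ∀ l, natsDistinct l = true → l.Nodup from this _ natsDistinct_true
  intro l
  induction l with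
  | nil => simp
  | cons x xs ih =>
    intro h
    simp only [natsDistinct, Bool.and_eq_true, List.all_eq_true] at h
    refine List.nodup_cons.mpr ⟨fun hm => ?_, ih h.2⟩
    simpa using h.1 x hm

theorem units_nodup : units.Nodup := by
  suffices ∀ l, unitsDistinct l = true → l.Nodup from this _ unitsDistinct_true
  intro l
  induction l with
  | nil => simp
  | cons x xs ih =>
    intro h
    simp only [unitsDistinct, Bool.and_eq_true, List.all_eq_true] at h
    refine List.nodup_cons.mpr ⟨fun hm => ?_, ih h.2⟩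
    simpa [Q.beq_self] using h.1 x hm

theorem R_length : R.length = 315 := by
  have h := repsOK_true
  simp only [repsOK, Bool.and_eq_true, beq_iff_eq] at h
  exact h.1.1

theorem units_length : units.length = 120 := by
  have h := repsOK_true
  simp only [repsOK, Bool.and_eq_true, beq_iff_eq] at h
  exact h.1.2

theorem rootOK_rep (k : Fin 315) : rootOK (rep k) = true := rep_spec k.isLt

theorem rep_ok' (k : Fin 315) : (rep k).ok = true := rep_ok k.isLt

theorem isRoot_rep (k : Fin 315) : IsRoot (phiV (rep k)) := isRoot_of_rootOK (rootOK_rep k)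

/-- The vector of the representative. -/
noncomputable def repX (k : Fin 315) : icoLeech := ⟨phiV (rep k), (isRoot_rep k).mem⟩

/-- The reflection of the representative. -/
noncomputable def refR (k : Fin 315) : Equiv.Perm icoLeech := refl (isRoot_rep k)

theorem refR_apply (k : Fin 315) (x : icoLeech) :
    ((refR k x : icoLeech) : Fin 3 → ℍ[ℝ]) = qrefl (phiV (rep k)) x := rfl

theorem nsq_conj_eq {a b : Q} {w : ℍ[ℝ]} (hw : w * star w = 1) (h : phi a = w * phi b) :
    a.nsq = b.nsq := by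
  have e : phi a * star (phi a) = phi b * star (phi b) := by
    rw [h, star_mul, mul_assoc, ← mul_assoc (phi b), phi_nsq, ← mul_assoc,
      ← Quaternion.coe_commutes, mul_assoc, hw, mul_one]
  rw [phi_nsq, phi_nsq, Quaternion.coe_inj] at e
  obtain ⟨e1, e2⟩ := int_tau_inj (a := a.nsq.1) (b := a.nsq.2) (c := b.nsq.1) (d := b.nsq.2)
    (by linarith)
  exact Prod.ext e1 e2

theorem conj_mul_eq {a b c d : Q} (ha : inI a = true) (hb : inI b = true) (hc : inI c = true)
    (hd : inI d = true) {w : ℍ[ℝ]} (hw : star w * w = 1) (e1 : phi a = w * phi c)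
    (e2 : phi b = w * phi d) : Q.mul (Q.conj a) b = Q.mul (Q.conj c) d := by
  apply phi_injective
  rw [phi_mul (inI_conj ha) hb, phi_mul (inI_conj hc) hd, phi_conj, phi_conj, e1, e2, star_mul,
    mul_assoc, ← mul_assoc (star w), hw, one_mul]

theorem rep_eq {j k : Fin 315} {w : ℍ[ℝ]} (hw : w * star w = 1) (hw' : star w * w = 1)
    (h : phiV (rep j) = lsmul w (phiV (rep k))) : j = k := by
  have hl := R_length
  have hj' : (j : ℕ) < R.length := lt_of_lt_of_eq j.isLt hl.symm
  have hk' : (k : ℕ) < R.length := lt_of_lt_of_eq k.isLt hl.symm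
  have ej : rep j = R[(j : ℕ)]'hj' := List.getD_eq_getElem _ _ _
  have ek : rep k = R[(k : ℕ)]'hk' := List.getD_eq_getElem _ _ _
  obtain ⟨j1, j2, j3⟩ := V.ok_iff.mp (rep_ok' j)
  obtain ⟨k1, k2, k3⟩ := V.ok_iff.mp (rep_ok' k)
  have c : lineKey (rep j) = lineKey (rep k) := by
    have h0 := congrFun h 0
    have h1 := congrFun h 1
    have h2 := congrFun h 2
    simp [phiV, lsmul] at h0 h1 h2
    simp [lineKey, nsq_conj_eq hw h0, nsq_conj_eq hw h1, nsq_conj_eq hw h2,
      conj_mul_eq j1 j2 k1 k2 hw' h0 h1, conj_mul_eq j1 j3 k1 k3 hw' h0 h2,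
      conj_mul_eq j2 j3 k2 k3 hw' h1 h2]
  obtain ⟨nj, aj⟩ := keys_get keysMatch_true j hj'
  obtain ⟨nk, ak⟩ := keys_get keysMatch_true k hk'
  rw [← ej, c] at aj
  rw [← ek] at ak
  exact Fin.ext ((List.Nodup.getElem_inj_iff repKeys_nodup).mp
    (Nat.cast_injective (aj.symm.trans ak)))

theorem smul_four_cancel {a b : ℍ[ℝ]} (h : a * 4 = b * 4) : a = b := by
  have h4 : (4 : ℍ[ℝ]) ≠ 0 := by
    rw [show (4 : ℍ[ℝ]) = 2 * 2 by norm_num]; exact mul_ne_zero two_ne two_ne
  exact mul_right_cancel₀ h4 h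

theorem refR_injective : Function.Injective refR := by
  intro j k h
  have e := congrArg (fun f : Equiv.Perm icoLeech => ((f (repX k) : icoLeech) : Fin 3 → ℍ[ℝ])) h
  simp only [refR_apply, repX] at e
  obtain ⟨w, hw, ew⟩ := (isRoot_rep j).even _ (isRoot_rep k).mem
  have ek : qip (phiV (rep k)) (phiV (rep k)) = 2 * 2 := by
    rw [(isRoot_rep k).norm]; norm_num
  rw [qrefl_eq ew, qrefl_eq ek] at e
  -- twice the k-th is a multiple of the j-th
  have e2 : lsmul 2 (phiV (rep k)) = lsmul w (phiV (rep j)) := by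
    have := congrArg (fun z => phiV (rep k) - z) e
    simpa using this.symm
  set w' := (1 / 2 : ℝ) • w with hw'
  have hk : phiV (rep k) = lsmul w' (phiV (rep j)) := by
    funext t
    have := congrFun e2 t
    simp only [lsmul] at this ⊢
    rw [hw', smul_mul_assoc, ← this, two_mul, ← two_smul ℝ, smul_smul]
    norm_num
  have hnn : w' * star w' = 1 := by
    refine smul_four_cancel ?_
    have h4 := (isRoot_rep k).norm
    rw [hk, qip_lsmul_left, qip_lsmul_right, (isRoot_rep j).norm, ← mul_assoc,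
      show w' * 4 = 4 * w' from (Commute.ofNat_right w' 4).eq, mul_assoc] at h4
    rw [one_mul, (Commute.ofNat_right (w' * star w') 4).eq, h4]
  exact (rep_eq hnn (mul_eq_one_comm.mp hnn) hk).symm

theorem exists_rep {r : Fin 3 → ℍ[ℝ]} (hr : r ∈ icoLeech) (hn : qip r r = 4) :
    ∃ u ∈ units, ∃ k : Fin 315, r = lsmul (phi u) (phiV (rep k)) := by
  obtain ⟨v, hv, rfl⟩ := exists_coords hr
  obtain ⟨u, hu, k, hk, e⟩ := hit_of_isMin ((isMin_iff (ok_of_inL hv)).mpr ⟨hr, hn⟩)
  exact ⟨u, hu, ⟨k, hk⟩, e⟩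

theorem isIcoReflection_iff {f : Equiv.Perm icoLeech} :
    IsIcoReflection f ↔ ∃ k, refR k = f := by
  constructor
  · rintro ⟨r, hn, hf⟩
    obtain ⟨u, hu, k, e⟩ := exists_rep r.2 hn
    refine ⟨k, Equiv.ext fun x => Subtype.ext ?_⟩
    rw [refR_apply, hf x, e, qrefl_lsmul_root (unit_spec hu).2.2]
  · rintro ⟨k, rfl⟩
    exact ⟨repX k, (isRoot_rep k).norm, fun x => refR_apply k x⟩

theorem refR_mem (k : Fin 315) : refR k ∈ twoJ2 :=
  Subgroup.subset_closure (isIcoReflection_iff.mpr ⟨k, rfl⟩)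

theorem reflection_ncard :
    {f : Equiv.Perm icoLeech | IsIcoReflection f}.ncard = 315 := by
  have : {f : Equiv.Perm icoLeech | IsIcoReflection f} = Set.range refR := by
    ext f; exact isIcoReflection_iff
  rw [this, ← Nat.card_coe_set_eq, Nat.card_range_of_injective refR_injective]
  simp

theorem minvec_ncard :
    {r : Fin 3 → ℍ[ℝ] | r ∈ icoLeech ∧ qip r r = 4}.ncard = 37800 := by
  have hl := units_length
  let F : Fin units.length × Fin 315 → Fin 3 → ℍ[ℝ] :=
    fun p => lsmul (phi units[p.1]) (phiV (rep p.2))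
  have hF : Function.Injective F := by
    rintro ⟨a, j⟩ ⟨b, k⟩ h
    simp only [F] at h
    obtain ⟨-, a1, a2⟩ := unit_spec (List.getElem_mem (l := units) a.isLt)
    obtain ⟨-, b1, b2⟩ := unit_spec (List.getElem_mem (l := units) b.isLt)
    have hj : phiV (rep j) = lsmul (star (phi units[(a : ℕ)]) * phi units[(b : ℕ)]) (phiV (rep k)) := by
      rw [← lsmul_lsmul, show lsmul (phi units[(b : ℕ)]) (phiV (rep k)) =
        lsmul (phi units[(a : ℕ)]) (phiV (rep j)) from h.symm, lsmul_lsmul, a2, one_lsmul]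
    have hjk : j = k := by
      refine rep_eq ?_ ?_ hj
      · rw [star_mul, star_star, mul_assoc, ← mul_assoc (phi units[(b : ℕ)]), b1, one_mul, a2]
      · rw [star_mul, star_star, mul_assoc, ← mul_assoc (phi units[(a : ℕ)]), a1, one_mul, b2]
    subst hjk
    have := congrArg (fun v => qip v (phiV (rep j))) h
    simp only [qip_lsmul_left, (isRoot_rep j).norm] at this
    exact Prod.ext (Fin.ext ((List.Nodup.getElem_inj_iff units_nodup).mp
      (phi_injective (smul_four_cancel this)))) rfl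
  have : {r : Fin 3 → ℍ[ℝ] | r ∈ icoLeech ∧ qip r r = 4} = Set.range F := by
    ext r
    constructor
    · rintro ⟨hr, hn⟩
      obtain ⟨u, hu, k, e⟩ := exists_rep hr hn
      obtain ⟨a, ha, rfl⟩ := List.mem_iff_getElem.mp hu
      exact ⟨⟨⟨a, ha⟩, k⟩, e.symm⟩
    · rintro ⟨⟨a, k⟩, rfl⟩
      obtain ⟨hi, h1, h2⟩ := unit_spec (List.getElem_mem (l := units) a.isLt)
      have hs : star (phi units[(a : ℕ)]) ∈ icosians := by
        rw [← phi_conj]; exact phi_mem_iff.mpr (inI_conj hi)
      have hR := (isRoot_rep k).lsmul (phi_mem_iff.mpr hi) hs h1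
      exact ⟨hR.mem, hR.norm⟩
  rw [this, ← Nat.card_coe_set_eq, Nat.card_range_of_injective hF]
  simp [hl]

theorem qrefl_sub (r x y : Fin 3 → ℍ[ℝ]) : qrefl r (x - y) = qrefl r x - qrefl r y := by
  rw [eq_sub_iff_add_eq, ← qrefl_add, sub_add_cancel]

theorem refl_conj {r s : Fin 3 → ℍ[ℝ]} (hr : IsRoot r) (hs : IsRoot s) {x : Fin 3 → ℍ[ℝ]}
    (hx : x ∈ icoLeech) : qrefl r (qrefl s (qrefl r x)) = qrefl (qrefl r s) x := by
  obtain ⟨w, -, ew⟩ := hs.even _ (qrefl_mem hr hx)
  have e' : qip x (qrefl r s) = 2 * w := by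
    rw [← ew, ← qrefl_isometry hr (qrefl_mem hr hx) hs.mem, qrefl_qrefl hr hx]
  rw [qrefl_eq ew, qrefl_eq e', qrefl_sub, qrefl_lsmul, qrefl_qrefl hr hx]

theorem refR_conj_exists (k : ℕ) : ∀ hk : k < 315,
    ∃ g ∈ twoJ2, g * refR ⟨0, by omega⟩ * g⁻¹ = refR ⟨k, hk⟩ := by
  have ht := treeOK_true
  simp only [treeOK, List.all_eq_true, List.mem_range, Bool.and_eq_true, decide_eq_true_eq] at ht
  induction k using Nat.strong_induction_on with
  | _ k ih =>
    intro hk
    rcases k with _ | n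
    · exact ⟨1, one_mem _, by simp⟩
    obtain ⟨⟨hi, hp⟩, he⟩ := ht n (by omega)
    set i : Fin 315 := ⟨(RTree.getD n (0, 0)).1, hi⟩
    set p : Fin 315 := ⟨(RTree.getD n (0, 0)).2, by omega⟩
    obtain ⟨g, hg, e⟩ := ih p.val (Nat.lt_succ_of_le hp) p.isLt
    refine ⟨refR i * g, mul_mem (refR_mem i) hg, ?_⟩
    have hspec := (reflV_spec (rootOK_rep i) (rootOK_inL (rootOK_rep p))).1
    rw [V.eq_of_beq he] at hspec
    calc refR i * g * refR ⟨0, by omega⟩ * (refR i * g)⁻¹
        = refR i * (g * refR ⟨0, by omega⟩ * g⁻¹) * (refR i)⁻¹ := by group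
      _ = refR i * refR p * refR i := by rw [e]; rfl
      _ = refR ⟨n + 1, hk⟩ := by
        refine Equiv.ext fun x => Subtype.ext ?_
        rw [Equiv.Perm.mul_apply, Equiv.Perm.mul_apply, refR_apply, refR_apply, refR_apply,
          refR_apply, refl_conj (isRoot_rep i) (isRoot_rep p) x.2]
        simp only [i, p] at hspec ⊢
        rw [← hspec]

theorem reflection_conj (f f' : Equiv.Perm icoLeech) (hf : IsIcoReflection f)
    (hf' : IsIcoReflection f') : ∃ g ∈ twoJ2, g * f * g⁻¹ = f' := by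
  obtain ⟨a, rfl⟩ := isIcoReflection_iff.mp hf
  obtain ⟨b, rfl⟩ := isIcoReflection_iff.mp hf'
  obtain ⟨g, hg, eg⟩ := refR_conj_exists a a.isLt
  obtain ⟨g', hg', eg'⟩ := refR_conj_exists b b.isLt
  refine ⟨g' * g⁻¹, mul_mem hg' (inv_mem hg), ?_⟩
  rw [← eg, ← eg']
  group

end CfsgLib.J2
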