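import Cfsg.Agent.Lib.J2.Center
import Cfsg.Agent.Lib.J2.Classes

/-!
The element orders of `J2` and of the symmetric group of degree eight.
-/

set_option autoImplicit false

namespace CfsgLib.J2

open Equiv

/-- The element orders of `J2`. -/
theorem spectrum :
    Set.range (orderOf : Cfsg.Spor.J2 → ℕ) = {1, 2, 3, 4, 5, 6, 7, 8, 10, 12, 15} := by
  rw [← orderOf_range_J]
  ext n
  simp only [Set.mem_range]
  exact ⟨fun ⟨x, e⟩ => ⟨equivJ x, by rw [MulEquiv.orderOf_eq, e]⟩,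
    fun ⟨x, e⟩ => ⟨equivJ.symm x, by rw [MulEquiv.orderOf_eq, e]⟩⟩

theorem orderOf_symm_eight (σ : Perm (Fin 8)) :
    orderOf σ ∈ ({1, 2, 3, 4, 5, 6, 7, 8, 10, 12, 15} : Finset ℕ) := by
  have key : ∀ S ∈ (Finset.Icc 2 8).powerset, S.sum id ≤ 8 →
      S.lcm id ∈ ({1, 2, 3, 4, 5, 6, 7, 8, 10, 12, 15} : Finset ℕ) := by decide +kernel
  set M := σ.cycleType with hM
  have hsum : M.sum ≤ 8 := by
    rw [hM, Equiv.Perm.sum_cycleType]
    simpa using σ.support.card_le_univ
  have hS : M.toFinset ∈ (Finset.Icc 2 8).powerset := Finset.mem_powerset.mpr fun x hx => by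
    rw [Multiset.mem_toFinset] at hx
    exact Finset.mem_Icc.mpr ⟨Equiv.Perm.two_le_of_mem_cycleType hx,
      (Multiset.single_le_sum (fun _ _ => Nat.zero_le _) x hx).trans hsum⟩
  have h1 : M.toFinset.sum id ≤ 8 := by
    rw [Finset.sum, Multiset.toFinset_val, Multiset.map_id]
    obtain ⟨T, hT⟩ := Multiset.le_iff_exists_add.mp (Multiset.dedup_le M)
    have := congrArg Multiset.sum hT
    rw [Multiset.sum_add] at this
    omega
  have e : orderOf σ = M.toFinset.lcm id := by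
    rw [← Equiv.Perm.lcm_cycleType, ← hM, Finset.lcm_def, Multiset.toFinset_val, Multiset.map_id,
      Multiset.lcm_dedup]
  rw [e]
  exact key _ hS h1

theorem spectrum_symm_eight :
    Set.range (orderOf : Perm (Fin 8) → ℕ) = {1, 2, 3, 4, 5, 6, 7, 8, 10, 12, 15} := by
  refine Set.Subset.antisymm ?_ ?_
  · rintro n ⟨σ, rfl⟩
    simpa using orderOf_symm_eight σ
  · intro n hn
    have mk : ∀ (m : ℕ) (σ : Perm (Fin 8)), σ ^ m = 1 → 0 < m →
        (∀ k < m, 0 < k → σ ^ k ≠ 1) → m ∈ Set.range (orderOf : Perm (Fin 8) → ℕ) :=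
      fun m σ h1 h2 h3 => ⟨σ, (orderOf_eq_iff h2).mpr ⟨h1, h3⟩⟩
    simp only [Set.mem_insert_iff, Set.mem_singleton_iff] at hn
    rcases hn with rfl | rfl | rfl | rfl | rfl | rfl | rfl | rfl | rfl | rfl | rfl
    · exact mk 1 1 (by simp) (by omega) (fun k h1 h2 => absurd h1 (by omega))
    · exact mk 2 (c[(0 : Fin 8), 1]) (by decide +kernel) (by omega) (by decide +kernel)
    · exact mk 3 (c[(0 : Fin 8), 1, 2]) (by decide +kernel) (by omega) (by decide +kernel)
    · exact mk 4 (c[(0 : Fin 8), 1, 2, 3]) (by decide +kernel) (by omega) (by decide +kernel)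
    · exact mk 5 (c[(0 : Fin 8), 1, 2, 3, 4]) (by decide +kernel) (by omega) (by decide +kernel)
    · exact mk 6 (c[(0 : Fin 8), 1, 2, 3, 4, 5]) (by decide +kernel) (by omega) (by decide +kernel)
    · exact mk 7 (c[(0 : Fin 8), 1, 2, 3, 4, 5, 6]) (by decide +kernel) (by omega) (by decide +kernel)
    · exact mk 8 (c[(0 : Fin 8), 1, 2, 3, 4, 5, 6, 7]) (by decide +kernel) (by omega) (by decide +kernel)
    · exact mk 10 (c[(0 : Fin 8), 1, 2, 3, 4] * c[5, 6]) (by decide +kernel) (by omega) (by decide +kernel)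
    · exact mk 12 (c[(0 : Fin 8), 1, 2, 3] * c[4, 5, 6]) (by decide +kernel) (by omega) (by decide +kernel)
    · exact mk 15 (c[(0 : Fin 8), 1, 2, 3, 4] * c[5, 6, 7]) (by decide +kernel) (by omega) (by decide +kernel)

end CfsgLib.J2
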